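import Cfsg.Agent.Lib.GL.Defs

/-! S5242: formal properties of `Van` (long exact sequences, change of collection, of module, of group). -/

set_option autoImplicit false
set_option linter.unusedSectionVars false

namespace Cfsg.Agent.GL

variable {G X M : Type*} [Group G] [MulAction G X] [AddCommGroup M] [DistribMulAction G M]
variable {Γ : Subgroup G} {U U' : Set (Subgroup G)} {V W N : Subgroup G → AddSubgroup M} {n : ℕ}

theorem Co.mono {f : List X → M} (h : Co Γ U n N f) (hle : Le Γ U N V) : Co Γ U n V f :=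
  fun l hl hU => hle _ hU (St_le _ _) (h l hl hU)

theorem Co.sub {f g : List X → M} (hf : Co Γ U n V f) (hg : Co Γ U n V g) : Co Γ U n V (f - g) :=
  fun l hl hU => (V _).sub_mem (hf l hl hU) (hg l hl hU)

theorem Co.add {f g : List X → M} (hf : Co Γ U n V f) (hg : Co Γ U n V g) : Co Γ U n V (f + g) :=
  fun l hl hU => (V _).add_mem (hf l hl hU) (hg l hl hU)

theorem Co.zero (Γ : Subgroup G) (U : Set (Subgroup G)) (n : ℕ) (V : Subgroup G → AddSubgroup M) :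
    Co Γ U n V (0 : List X → M) := fun _ _ _ => (V _).zero_mem

theorem Co.d (hU : Up Γ U) (hV : WF Γ U V) {f : List X → M} (h : Co Γ U n V f) :
    Co Γ U (n + 1) V (d f) := fun l hl hlU =>
  d_mem fun l' h1 h2 => hV.anti _ hlU _ (St_anti Γ h1.subset) (St_le _ _)
    (h l' (by omega) (hU.up _ hlU _ (St_anti Γ h1.subset) (St_le _ _)))

theorem WF.mono (hV : WF Γ U V) (h : ∀ P ∈ U', P ≤ Γ → P ∈ U) : WF Γ U' V where
  anti P hP P' h1 h2 := hV.anti P (h P hP (h1.trans h2)) P' h1 h2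
  eqv g hg P hP h1 := hV.eqv g hg P (h P hP h1) h1
  fix P hP h1 := hV.fix P (h P hP h1) h1

theorem WF.mono_group {Γ' : Subgroup G} (hV : WF Γ U V) (h : Γ' ≤ Γ) : WF Γ' U V where
  anti P hP P' h1 h2 := hV.anti P hP P' h1 (h2.trans h)
  eqv g hg P hP h1 := hV.eqv g (h hg) P hP (h1.trans h)
  fix P hP h1 := hV.fix P hP (h1.trans h)

theorem Up.mono_group {Γ' : Subgroup G} (hU : Up Γ U) (h : Γ' ≤ Γ) : Up Γ' U where
  up P hP P' h1 h2 := hU.up P hP P' h1 (h2.trans h)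
  inv g hg P hP h1 := hU.inv g (h hg) P hP (h1.trans h)

theorem Up.mem_cj (hU : Up Γ U) {g : G} (hg : g ∈ Γ) {P : Subgroup G} (hP : P ≤ Γ) :
    cj g P ∈ U ↔ P ∈ U :=
  ⟨fun h => by simpa using hU.inv _ (Γ.inv_mem hg) _ h (cj_le_of_mem hg hP),
    fun h => hU.inv g hg P h hP⟩

theorem Up.union (hU : Up Γ U) (hU' : Up Γ U') : Up Γ (U ∪ U') where
  up P hP P' h1 h2 := hP.imp (hU.up P · P' h1 h2) (hU'.up P · P' h1 h2)
  inv g hg P hP h1 := hP.imp (hU.inv g hg P · h1) (hU'.inv g hg P · h1)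

theorem Up.inter (hU : Up Γ U) (hU' : Up Γ U') : Up Γ (U ∩ U') where
  up P hP P' h1 h2 := ⟨hU.up P hP.1 P' h1 h2, hU'.up P hP.2 P' h1 h2⟩
  inv g hg P hP h1 := ⟨hU.inv g hg P hP.1 h1, hU'.inv g hg P hP.2 h1⟩

theorem le_cut (hle : Le Γ U N V) (U' : Set (Subgroup G)) : Le Γ U N (cut U' V N) := by
  intro P hP h
  by_cases h' : P ∈ U'
  · rw [cut_of_mem h']
  · rw [cut_of_not_mem h']; exact hle P hP h

theorem cut_le (hle : Le Γ U N V) (U' : Set (Subgroup G)) : Le Γ U (cut U' V N) V := by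
  intro P hP h
  by_cases h' : P ∈ U'
  · rw [cut_of_mem h']; exact hle P hP h
  · rw [cut_of_not_mem h']

theorem wf_cut (hU : Up Γ U) (hU' : Up Γ U') (hV : WF Γ U V) (hN : WF Γ U N) (hle : Le Γ U N V) :
    WF Γ U (cut U' V N) where
  anti P hP P' h1 h2 := by
    by_cases h : P ∈ U'
    · rw [cut_of_mem h, cut_of_mem (hU'.up P h P' h1 h2)]
      exact hN.anti P hP P' h1 h2
    · rw [cut_of_not_mem h]
      exact (cut_le hle U' P' (hU.up P hP P' h1 h2) h2).trans (hV.anti P hP P' h1 h2)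
  eqv g hg P hP h1 m hm := by
    by_cases h : P ∈ U'
    · rw [cut_of_mem h] at hm
      rw [cut_of_mem (hU'.inv g hg P h h1)]
      exact hN.eqv g hg P hP h1 m hm
    · rw [cut_of_not_mem h] at hm
      rw [cut_of_not_mem (fun h' => h ((hU'.mem_cj hg h1).1 h'))]
      exact hV.eqv g hg P hP h1 m hm
  fix P hP h1 m hm := hV.fix P hP h1 m (cut_le hle U' P hP h1 hm)

/-- Extension: sub and quotient vanish. -/
theorem van_A (h1 : Le Γ U N W) (h2 : Le Γ U W V)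
    (hVW : Van X Γ U n V W) (hWN : Van X Γ U n W N) : Van X Γ U n V N := by
  intro f hf hf1 hf2
  obtain ⟨g, hg, hg1, hg2⟩ := hVW f hf hf1 (hf2.mono h1)
  obtain ⟨g', hg', hg1', hg2'⟩ := hWN (f - d g) (hf.sub hg.d) hg2 (by simpa [d_sub] using hf2)
  refine ⟨g + g', hg.add hg', hg1.add (hg1'.mono h2), ?_⟩
  rwa [d_add, ← sub_sub]

/-- `H^n(V/W) → H^(n+1)(W/N) → H^(n+1)(V/N)`. -/
theorem van_B (h1 : Le Γ U N W) (h2 : Le Γ U W V)
    (hVN : Van X Γ U (n + 1) V N) (hVW : Van X Γ U n V W) : Van X Γ U (n + 1) W N := by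
  intro f hf hf1 hf2
  obtain ⟨g, hg, hg1, hg2⟩ := hVN f hf (hf1.mono h2) hf2
  obtain ⟨h, hh, hh1, hh2⟩ := hVW g hg hg1 (by simpa using hf1.sub (hg2.mono h1))
  exact ⟨g - d h, hg.sub hh.d, hh2, by simpa [d_sub] using hg2⟩

/-- `H^n(V/N) → H^n(V/W) → H^(n+1)(W/N)`. -/
theorem van_C (h1 : Le Γ U N W) (h2 : Le Γ U W V)
    (hWN : Van X Γ U (n + 1) W N) (hVN : Van X Γ U n V N) : Van X Γ U n V W := by
  intro f hf hf1 hf2
  obtain ⟨h, hh, hh1, hh2⟩ := hWN (d f) hf.d hf2 (by rw [d_d]; exact Co.zero _ _ _ _)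
  obtain ⟨g, hg, hg1, hg2⟩ := hVN (f - h) (hf.sub hh) (hf1.sub (hh1.mono h2))
    (by rwa [d_sub])
  refine ⟨g, hg, hg1, ?_⟩
  have := (hg2.mono h1).add hh1
  rwa [show f - h - d g + h = f - d g by abel] at this

theorem van_congr {V' N' : Subgroup G → AddSubgroup M} (hU : ∀ P ≤ Γ, P ∈ U ↔ P ∈ U')
    (hV : ∀ P ∈ U, P ≤ Γ → V P = V' P) (hN : ∀ P ∈ U, P ≤ Γ → N P = N' P)
    (h : Van X Γ U n V N) : Van X Γ U' n V' N' := by
  have key : ∀ (k : ℕ) (A A' : Subgroup G → AddSubgroup M), (∀ P ∈ U, P ≤ Γ → A P = A' P) →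
      ∀ f : List X → M, Co Γ U k A f ↔ Co Γ U' k A' f := by
    intro k A A' hA f
    refine forall₂_congr fun l _ => ?_
    rw [← hU _ (St_le _ _)]
    exact forall_congr' fun hl => by rw [hA _ hl (St_le _ _)]
  intro f hf hf1 hf2
  obtain ⟨g, hg, hg1, hg2⟩ := h f hf ((key _ _ _ hV _).2 hf1) ((key _ _ _ hN _).2 hf2)
  exact ⟨g, hg, (key _ _ _ hV _).1 hg1, (key _ _ _ hN _).1 hg2⟩

theorem van_of_le (h : Le Γ U V N) : Van X Γ U n V N := fun f _ hf1 _ =>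
  ⟨0, Eqv.zero _, Co.zero _ _ _ _, by simpa using hf1.mono h⟩

open Classical in
/-- Cut a cochain off outside `U`. -/
noncomputable def off (Γ : Subgroup G) (U : Set (Subgroup G)) (f : List X → M) : List X → M :=
  fun l => if St Γ l ∈ U then f l else 0

theorem off_of_mem {f : List X → M} {l : List X} (h : St Γ l ∈ U) : off Γ U f l = f l := by
  simp [off, h]
theorem off_of_not_mem {f : List X → M} {l : List X} (h : St Γ l ∉ U) : off Γ U f l = 0 := by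
  simp [off, h]

theorem Eqv.off {f : List X → M} (hf : Eqv Γ f)
    (hU : ∀ g ∈ Γ, ∀ P ≤ Γ, cj g P ∈ U ↔ P ∈ U) : Eqv Γ (off Γ U f) := by
  intro g hg l
  by_cases h : St Γ l ∈ U
  · rw [off_of_mem h, off_of_mem (by rwa [St_tr hg, hU g hg _ (St_le _ _)]), hf g hg]
  · rw [off_of_not_mem h, off_of_not_mem (by rwa [St_tr hg, hU g hg _ (St_le _ _)]), smul_zero]

theorem d_off (hU : Up Γ U) (f : List X → M) {l : List X} (h : St Γ l ∈ U) :
    d (off Γ U f) l = d f l :=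
  d_congr fun _ h1 _ => off_of_mem (hU.up _ h _ (St_anti Γ h1.subset) (St_le _ _))

theorem Co.off (U : Set (Subgroup G)) {f : List X → M} (h : Co Γ U' n V f) :
    Co Γ U n V (off Γ U' f) := by
  intro l hl _
  by_cases h' : St Γ l ∈ U'
  · rw [off_of_mem h']; exact h l hl h'
  · rw [off_of_not_mem h']; exact (V _).zero_mem

/-- Members of `U` on which `V = N` can be discarded from below. -/
theorem van_U (hU : Up Γ U) (hU' : Up Γ U') (hsub : ∀ P ∈ U', P ≤ Γ → P ∈ U) (hV : WF Γ U V)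
    (heq : ∀ P ∈ U, P ≤ Γ → P ∉ U' → V P ≤ N P) : Van X Γ U n V N ↔ Van X Γ U' n V N := by
  have hi : ∀ g ∈ Γ, ∀ P ≤ Γ, cj g P ∈ U' ↔ P ∈ U' := fun g hg P hP => hU'.mem_cj hg hP
  constructor
  · intro h f hf hf1 hf2
    have h1 := hf1.off U
    obtain ⟨g, hg, hg1, hg2⟩ := h _ (hf.off hi) h1 (fun l hl hlU => by
      by_cases h' : St Γ l ∈ U'
      · rw [d_off hU' f h']; exact hf2 l hl h'
      · exact heq _ hlU (St_le _ _) h' (h1.d hU hV l hl hlU))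
    refine ⟨g, hg, fun l hl hlU => hg1 l hl (hsub _ hlU (St_le _ _)), fun l hl hlU => ?_⟩
    have := hg2 l hl (hsub _ hlU (St_le _ _))
    rwa [Pi.sub_apply, off_of_mem hlU] at this
  · intro h f hf hf1 hf2
    obtain ⟨g, hg, hg1, hg2⟩ := h f hf (fun l hl hlU => hf1 l hl (hsub _ hlU (St_le _ _)))
      (fun l hl hlU => hf2 l hl (hsub _ hlU (St_le _ _)))
    have h1 := hg1.off U
    refine ⟨_, hg.off hi, h1, fun l hl hlU => ?_⟩
    by_cases h' : St Γ l ∈ U'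
    · rw [Pi.sub_apply, d_off hU' g h']; exact hg2 l hl h'
    · exact heq _ hlU (St_le _ _) h' ((hf1.sub (h1.d hU hV)) l hl hlU)

/-- The quotient of `V / N` supported on `U'`. -/
theorem van_quot (hU : Up Γ U) (hU' : Up Γ U') (hsub : ∀ P ∈ U', P ≤ Γ → P ∈ U) (hV : WF Γ U V) :
    Van X Γ U n V (cut U' V N) ↔ Van X Γ U' n V N := by
  rw [van_U hU hU' hsub hV (fun P _ _ h => by rw [cut_of_not_mem h])]
  exact ⟨van_congr (fun _ _ => Iff.rfl) (fun _ _ _ => rfl) (fun P h _ => cut_of_mem h),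
    van_congr (fun _ _ => Iff.rfl) (fun _ _ _ => rfl) (fun P h _ => (cut_of_mem h).symm)⟩

/-- Equivariant choice of a cochain. -/
theorem exists_eqv (R : List X → M → Prop) (hR : ∀ g ∈ Γ, ∀ l m, R l m → R (tr g l) (g • m))
    (h : ∀ l, ∃ m, R l m ∧ ∀ u ∈ St Γ l, u • m = m) : ∃ f : List X → M, Eqv Γ f ∧ ∀ l, R l (f l) := by
  letI : MulAction Γ (List X) :=
    { smul := fun g l => tr (g : G) l
      one_smul := fun l => tr_one l
      mul_smul := fun g h l => tr_mul _ _ l }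
  obtain ⟨f, h1, h2⟩ := Lead.exists_equivariant (D := Γ) R (fun g l m hm => hR g g.2 l m hm)
    (fun l => by
      obtain ⟨m, h1, h2⟩ := h l
      exact ⟨m, h1, fun g hg => h2 g ⟨g.2, tr_eq_iff.1 hg⟩⟩)
  exact ⟨f, fun g hg l => h1 ⟨g, hg⟩ l, h2⟩

section Conv
variable {G' M' : Type*} [Group G'] [MulAction G' X] [AddCommGroup M'] [DistribMulAction G' M']

/-- `Γ` and `Γ'` act on `X` in the same way, through the correspondence `T`. -/
structure Corr (X : Type*) [MulAction G X] [MulAction G' X] (Γ : Subgroup G) (Γ' : Subgroup G')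
    (T : G → G' → Prop) : Prop where
  left : ∀ g ∈ Γ, ∃ g' ∈ Γ', T g g'
  right : ∀ g' ∈ Γ', ∃ g ∈ Γ, T g g'
  act : ∀ g g', T g g' → ∀ x : X, g • x = g' • x

theorem Corr.symm {Γ' : Subgroup G'} {T : G → G' → Prop} (h : Corr X Γ Γ' T) :
    Corr X Γ' Γ (fun g' g => T g g') :=
  ⟨h.right, h.left, fun g' g hT x => (h.act g g' hT x).symm⟩

theorem Corr.tr {Γ' : Subgroup G'} {T : G → G' → Prop} (h : Corr X Γ Γ' T) {g : G} {g' : G'}
    (hT : T g g') (l : List X) : tr g l = tr g' l := by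
  simp only [GL.tr, h.act g g' hT]

theorem corr_refl (X : Type*) [MulAction G X] (Γ : Subgroup G) : Corr X Γ Γ Eq :=
  ⟨fun g hg => ⟨g, hg, rfl⟩, fun g hg => ⟨g, hg, rfl⟩, fun _ _ h _ => h ▸ rfl⟩

theorem corr_subtype (X : Type*) [MulAction G X] (Γ : Subgroup G) :
    Corr X Γ (⊤ : Subgroup Γ) (fun g g' => g = g') :=
  ⟨fun g hg => ⟨⟨g, hg⟩, trivial, rfl⟩, fun g _ => ⟨g, g.2, rfl⟩, fun _ _ h _ => h ▸ rfl⟩

theorem St_subtype (Γ : Subgroup G) (l : List X) :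
    St (⊤ : Subgroup Γ) l = (St Γ l).subgroupOf Γ := by
  ext g
  exact ⟨fun h => ⟨g.2, h.2⟩, fun h => ⟨trivial, h.2⟩⟩

theorem St_subtype_map (Γ : Subgroup G) (l : List X) :
    (St (⊤ : Subgroup Γ) l).map Γ.subtype = St Γ l := by
  rw [St_subtype, Subgroup.subgroupOf_map_subtype, inf_eq_left.2 (St_le _ _)]

/-- An isomorphism `V / N ≅ V' / N'` given by relations `R l`, on lists of length `≥ n`. -/
structure Iso (n : ℕ) (Γ : Subgroup G) (Γ' : Subgroup G') (T : G → G' → Prop)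
    (U : Set (Subgroup G)) (U' : Set (Subgroup G')) (V N : Subgroup G → AddSubgroup M)
    (V' N' : Subgroup G' → AddSubgroup M') (R : List X → AddSubgroup (M × M')) : Prop where
  mem : ∀ l : List X, n ≤ l.length → (St Γ l ∈ U ↔ St Γ' l ∈ U')
  anti : ∀ l l' : List X, n ≤ l'.length → l'.Sublist l → St Γ l ∈ U → R l' ≤ R l
  eqv : ∀ g ∈ Γ, ∀ g' ∈ Γ', T g g' → ∀ l : List X, n ≤ l.length → St Γ l ∈ U →
    ∀ m m', (m, m') ∈ R l → (g • m, g' • m') ∈ R (tr g l)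
  s1 : ∀ l : List X, n ≤ l.length → St Γ l ∈ U → ∀ m ∈ V (St Γ l), ∃ m' ∈ V' (St Γ' l), (m, m') ∈ R l
  s2 : ∀ l : List X, n ≤ l.length → St Γ l ∈ U → ∀ m' ∈ V' (St Γ' l), ∃ m ∈ V (St Γ l), (m, m') ∈ R l
  n1 : ∀ l : List X, n ≤ l.length → St Γ l ∈ U → ∀ m m', (m, m') ∈ R l →
    (m ∈ N (St Γ l) ↔ m' ∈ N' (St Γ' l))

theorem Iso.symm {Γ' : Subgroup G'} {T : G → G' → Prop} {U' : Set (Subgroup G')}
    {V' N' : Subgroup G' → AddSubgroup M'} {R : List X → AddSubgroup (M × M')}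
    (hT : Corr X Γ Γ' T) (h : Iso n Γ Γ' T U U' V N V' N' R) :
    Iso n Γ' Γ (fun g' g => T g g') U' U V' N' V N
      (fun l => (R l).comap (AddEquiv.prodComm : M' × M ≃+ M × M').toAddMonoidHom) where
  mem l hl := (h.mem l hl).symm
  anti l l' h1 h2 h3 := AddSubgroup.comap_mono
    (h.anti l l' h1 h2 ((h.mem l (h1.trans h2.length_le)).2 h3))
  eqv g' hg' g hg hgg l hl hU m' m hm := by
    have := h.eqv g hg g' hg' hgg l hl ((h.mem l hl).2 hU) m m' hm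
    rw [hT.tr hgg] at this
    exact this
  s1 l hl hU m' hm' := h.s2 l hl ((h.mem l hl).2 hU) m' hm'
  s2 l hl hU m hm := h.s1 l hl ((h.mem l hl).2 hU) m hm
  n1 l hl hU m' m hm := (h.n1 l hl ((h.mem l hl).2 hU) m m' hm).symm

theorem Iso.exists_lift {Γ' : Subgroup G'} {T : G → G' → Prop} {U' : Set (Subgroup G')}
    {V' N' : Subgroup G' → AddSubgroup M'} {R : List X → AddSubgroup (M × M')}
    (hT : Corr X Γ Γ' T) (h : Iso n Γ Γ' T U U' V N V' N' R) (hU : Up Γ U) (hV' : WF Γ' U' V')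
    {k : ℕ} (hk : n ≤ k) {f : List X → M} (hf : Eqv Γ f) (hf1 : Co Γ U k V f) :
    ∃ f' : List X → M', Eqv Γ' f' ∧ Co Γ' U' k V' f' ∧
      ∀ l : List X, l.length = k → St Γ l ∈ U → (f l, f' l) ∈ R l := by
  obtain ⟨f', h1, h2⟩ := exists_eqv (Γ := Γ') (fun (l : List X) (m' : M') =>
    l.length = k → St Γ l ∈ U → m' ∈ V' (St Γ' l) ∧ (f l, m') ∈ R l) (by
      intro g' hg' l m' hm hl hlU
      obtain ⟨g, hg, hgg⟩ := hT.right g' hg'
      rw [length_tr] at hl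
      rw [← hT.tr hgg, St_tr hg, hU.mem_cj hg (St_le _ _)] at hlU
      obtain ⟨a, b⟩ := hm hl hlU
      refine ⟨?_, ?_⟩
      · rw [St_tr hg']
        exact hV'.eqv g' hg' _ ((h.mem l (hl ▸ hk)).1 hlU) (St_le _ _) _ a
      · rw [← hT.tr hgg, hf g hg]
        exact h.eqv g hg g' hg' hgg l (hl ▸ hk) hlU _ _ b) (by
      intro l
      by_cases hc : l.length = k ∧ St Γ l ∈ U
      · obtain ⟨m', a, b⟩ := h.s1 l (hc.1 ▸ hk) hc.2 _ (hf1 l hc.1 hc.2)
        exact ⟨m', fun _ _ => ⟨a, b⟩,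
          hV'.fix _ ((h.mem l (hc.1 ▸ hk)).1 hc.2) (St_le _ _) _ a⟩
      · exact ⟨0, fun a b => (hc ⟨a, b⟩).elim, fun u _ => smul_zero u⟩)
  exact ⟨f', h1, fun l hl hlU => (h2 l hl ((h.mem l (hl ▸ hk)).2 hlU)).1,
    fun l hl hlU => (h2 l hl hlU).2⟩

theorem Iso.d_mem {Γ' : Subgroup G'} {T : G → G' → Prop} {U' : Set (Subgroup G')}
    {V' N' : Subgroup G' → AddSubgroup M'} {R : List X → AddSubgroup (M × M')}
    (h : Iso n Γ Γ' T U U' V N V' N' R) (hU : Up Γ U) {k : ℕ} (hk : n ≤ k) {f : List X → M}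
    {f' : List X → M'} (hff : ∀ l : List X, l.length = k → St Γ l ∈ U → (f l, f' l) ∈ R l)
    {l : List X} (hl : l.length = k + 1) (hlU : St Γ l ∈ U) : (d f l, d f' l) ∈ R l := by
  have h1 : d (fun l => (f l, f' l)) l ∈ R l := GL.d_mem fun l' h1 h2 =>
    h.anti l l' (by omega) h1 hlU
      (hff l' (by omega) (hU.up _ hlU _ (St_anti Γ h1.subset) (St_le _ _)))
  have h2 := d_map (AddMonoidHom.fst M M') (fun l => (f l, f' l)) l
  have h3 := d_map (AddMonoidHom.snd M M') (fun l => (f l, f' l)) l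
  have : (d f l, d f' l) = d (fun l => (f l, f' l)) l := Prod.ext h2 h3
  rwa [this]

theorem Iso.van {Γ' : Subgroup G'} {T : G → G' → Prop} {U' : Set (Subgroup G')}
    {V' N' : Subgroup G' → AddSubgroup M'} {R : List X → AddSubgroup (M × M')}
    (hT : Corr X Γ Γ' T) (h : Iso n Γ Γ' T U U' V N V' N' R) (hU : Up Γ U) (hU' : Up Γ' U')
    (hV : WF Γ U V) (hV' : WF Γ' U' V') (hv : Van X Γ' U' n V' N') : Van X Γ U n V N := by
  intro f hf hf1 hf2
  obtain ⟨f', hf', hf1', hR⟩ := h.exists_lift hT hU hV' (Nat.le_succ n) hf hf1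
  obtain ⟨g', hg', hg1', hg2'⟩ := hv f' hf' hf1' (fun l hl hlU => by
    have hlU' := (h.mem l (by omega)).2 hlU
    exact (h.n1 l (by omega) hlU' _ _ (h.d_mem hU (Nat.le_succ n) hR hl hlU')).1 (hf2 l hl hlU'))
  obtain ⟨g, hg, hg1, hR'⟩ := (h.symm hT).exists_lift hT.symm hU' hV le_rfl hg' hg1'
  refine ⟨g, hg, hg1, fun l hl hlU => ?_⟩
  have h1 := h.d_mem hU le_rfl (f := g) (f' := g')
    (fun l hl hlU => hR' l hl ((h.mem l hl.ge).1 hlU)) hl hlU
  have h2 := (R l).sub_mem (hR l hl hlU) h1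
  exact (h.n1 l (by omega) hlU _ _ h2).2 (hg2' l hl ((h.mem l (by omega)).1 hlU))

/-- Change of group and module. -/
theorem Iso.van_iff {Γ' : Subgroup G'} {T : G → G' → Prop} {U' : Set (Subgroup G')}
    {V' N' : Subgroup G' → AddSubgroup M'} {R : List X → AddSubgroup (M × M')}
    (hT : Corr X Γ Γ' T) (h : Iso n Γ Γ' T U U' V N V' N' R) (hU : Up Γ U) (hU' : Up Γ' U')
    (hV : WF Γ U V) (hV' : WF Γ' U' V') : Van X Γ U n V N ↔ Van X Γ' U' n V' N' :=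
  ⟨(h.symm hT).van hT.symm hU' hU hV' hV, h.van hT hU hU' hV hV'⟩

end Conv

end Cfsg.Agent.GL
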