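import Cfsg.Agent.Lib.GL.Defs

/-! S5242: relative Sylow toolkit (`T ≤ H`, `T` a `p`-group, `¬ p ∣ T.relIndex H`). -/

set_option autoImplicit false
set_option linter.unusedSectionVars false

namespace Cfsg.Agent.GL

variable {G : Type*} [Group G] [Finite G] {p : ℕ} [Fact p.Prime] {H T P R K : Subgroup G}

theorem exists_sylow_eq (hT : T ≤ H) (pT : IsPGroup p T) (hs : ¬ p ∣ T.relIndex H) :
    ∃ S : Sylow p H, (S : Subgroup H) = T.subgroupOf H :=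
  ⟨(pT.comap_of_injective H.subtype H.subtype_injective).toSylow hs, rfl⟩

theorem exists_syl (hP : P ≤ H) (pP : IsPGroup p P) :
    ∃ T, P ≤ T ∧ T ≤ H ∧ IsPGroup p T ∧ ¬ p ∣ T.relIndex H := by
  obtain ⟨S, hS⟩ := (pP.comap_of_injective H.subtype H.subtype_injective).exists_le_sylow
  refine ⟨(S : Subgroup H).map H.subtype, fun x hx => ⟨⟨x, hP hx⟩, hS hx, rfl⟩,
    Subgroup.map_subtype_le _, S.2.map _, ?_⟩
  have : ((S : Subgroup H).map H.subtype).subgroupOf H = S :=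
    Subgroup.comap_map_eq_self_of_injective H.subtype_injective _
  rw [Subgroup.relIndex, this]
  exact S.not_dvd_index

theorem exists_cj_le (hT : T ≤ H) (pT : IsPGroup p T) (hs : ¬ p ∣ T.relIndex H) (hP : P ≤ H)
    (pP : IsPGroup p P) : ∃ h ∈ H, cj h P ≤ T := by
  obtain ⟨S, hS⟩ := exists_sylow_eq hT pT hs
  obtain ⟨S', hS'⟩ := (pP.comap_of_injective H.subtype H.subtype_injective).exists_le_sylow
  obtain ⟨h, rfl⟩ := MulAction.exists_smul_eq H S' S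
  refine ⟨h, h.2, ?_⟩
  rintro _ ⟨x, hx, rfl⟩
  have h1 : (⟨x, hP hx⟩ : H) ∈ S' := hS' hx
  have h2 : h * ⟨x, hP hx⟩ * h⁻¹ ∈ ((h • S' : Sylow p H) : Subgroup H) := ⟨_, h1, rfl⟩
  rw [hS] at h2
  exact h2

theorem exists_cj_le_sylow (S : Sylow p G) (pP : IsPGroup p P) : ∃ g : G, cj g P ≤ S := by
  obtain ⟨g, -, h⟩ := exists_cj_le (H := ⊤) le_top S.2
    (by rw [Subgroup.relIndex_top_right]; exact S.not_dvd_index) le_top pP
  exact ⟨g, h⟩

theorem eq_of_syl (hs : ¬ p ∣ T.relIndex H) (h1 : T ≤ R) (h2 : R ≤ H) (pR : IsPGroup p R) :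
    R = T := by
  obtain ⟨k, hk⟩ := pR.index (T.subgroupOf R)
  have h3 : T.relIndex R ∣ T.relIndex H := ⟨_, (Subgroup.relIndex_mul_relIndex T R H h1 h2).symm⟩
  cases k with
  | zero => exact le_antisymm (Subgroup.relIndex_eq_one.1 hk) h1
  | succ k => exact (hs ((Dvd.intro_left _ (pow_succ p k).symm).trans (hk ▸ h3))).elim

theorem syl_of_max (hT : T ≤ H) (pT : IsPGroup p T)
    (h : ∀ R, T ≤ R → R ≤ H → IsPGroup p R → R ≤ T) : ¬ p ∣ T.relIndex H := by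
  obtain ⟨R, a, b, c, e⟩ := exists_syl hT pT
  rwa [← le_antisymm (h R a b c) a]

theorem exists_lt_of_dvd (hT : T ≤ H) (pT : IsPGroup p T) (h : p ∣ T.relIndex H) :
    ∃ R ≤ H, IsPGroup p R ∧ T < R := by
  obtain ⟨R, a, b, c, e⟩ := exists_syl hT pT
  exact ⟨R, b, c, lt_of_le_of_ne a fun h' => e (h' ▸ h)⟩

theorem dvd_of_lt (h1 : T < R) (h2 : R ≤ H) (pR : IsPGroup p R) : p ∣ T.relIndex H := by
  by_contra h
  exact h1.ne' (eq_of_syl h h1.le h2 pR)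

theorem syl_cj (hs : ¬ p ∣ T.relIndex H) {h : G} (hh : h ∈ H) : ¬ p ∣ (cj h T).relIndex H := by
  rwa [← cj_eq_of_mem hh, relIndex_cj]

theorem syl_of_le (hs : ¬ p ∣ T.relIndex H) (h1 : T ≤ R) (h2 : R ≤ H) :
    ¬ p ∣ T.relIndex R ∧ ¬ p ∣ R.relIndex H := by
  rw [← Subgroup.relIndex_mul_relIndex T R H h1 h2] at hs
  exact ⟨fun h => hs (h.mul_right _), fun h => hs (h.mul_left _)⟩

/-- A normal `p`-subgroup lies in every Sylow subgroup. -/
theorem le_syl_of_normal (hT : T ≤ H) (pT : IsPGroup p T) (hs : ¬ p ∣ T.relIndex H) (hP : P ≤ H)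
    (pP : IsPGroup p P) (hn : ∀ h ∈ H, cj h P = P) : P ≤ T := by
  obtain ⟨h, hh, e⟩ := exists_cj_le hT pT hs hP pP
  rwa [hn h hh] at e

/-- A Sylow subgroup meets a normal subgroup in a Sylow subgroup. -/
theorem syl_inf (hT : T ≤ H) (pT : IsPGroup p T) (hs : ¬ p ∣ T.relIndex H) (hK : K ≤ H)
    (hn : ∀ h ∈ H, cj h K = K) : ¬ p ∣ (T ⊓ K).relIndex K := by
  obtain ⟨R, -, b, c, e⟩ := exists_syl (bot_le : ⊥ ≤ K) (p := p) IsPGroup.of_bot
  obtain ⟨h, hh, f⟩ := exists_cj_le hT pT hs (b.trans hK) c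
  have h1 : ¬ p ∣ (cj h R).relIndex K := by rwa [← hn h hh, relIndex_cj]
  exact (syl_of_le h1 (le_inf f ((cj_mono h b).trans (hn h hh).le)) inf_le_right).2

theorem isPGroup_sup (pP : IsPGroup p P) (pR : IsPGroup p R) (h : ∀ g ∈ R, cj g P = P) :
    IsPGroup p (P ⊔ R : Subgroup G) :=
  pP.to_sup_of_normal_left' pR fun g hg => mem_normalizer_iff_cj.2 (h g hg)

theorem exists_inv_tors {M : Type*} [AddCommGroup M] {D : AddSubgroup M} (tD : Tors p D) {n : ℕ}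
    (hn : ¬ p ∣ n) : ∃ c : ℕ, ∀ m ∈ D, (c * n) • m = m := by
  obtain ⟨k, hk⟩ := tD
  have hc : Nat.Coprime n (p ^ (k + 1)) :=
    (((Nat.Prime.coprime_iff_not_dvd Fact.out).2 hn).symm).pow_right _
  obtain ⟨c, -, hc'⟩ := Nat.exists_mul_mod_eq_one_of_coprime hc
    (Nat.one_lt_pow (by omega) (Fact.out : p.Prime).one_lt)
  refine ⟨c, fun m hm => ?_⟩
  rw [mul_comm, ← Nat.div_add_mod (n * c) (p ^ (k + 1)), hc', add_nsmul, one_nsmul, mul_comm,
    mul_nsmul', pow_succ', mul_nsmul', hk m hm]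
  simp

/-- The `p`-part of an element, as a power `z ^ m` with `m ≡ 1 mod p ^ k`. -/
theorem exists_pPart (z : G) (k : ℕ) : ∃ m : ℕ, m ≡ 1 [MOD p ^ k] ∧ ∃ j : ℕ, (z ^ m) ^ p ^ j = 1 := by
  have hp : p.Prime := Fact.out
  obtain ⟨j, r, hr, e⟩ := Nat.exists_eq_pow_mul_and_not_dvd (orderOf_pos z).ne' p hp.ne_one
  have hc : Nat.Coprime r (p ^ k) := ((Nat.Prime.coprime_iff_not_dvd hp).2 hr).symm.pow_right _
  obtain ⟨m, h1, h2⟩ := Nat.chineseRemainder hc 0 1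
  refine ⟨m, h2, j, ?_⟩
  rw [← pow_mul, ← orderOf_dvd_iff_pow_eq_one, e, mul_comm m]
  exact Nat.mul_dvd_mul_left _ ((Nat.modEq_zero_iff_dvd).1 h1)

theorem px_quotient (S : Sylow p G) : PX p G (G ⧸ (S : Subgroup G)) where
  stab x := by
    obtain ⟨g, rfl⟩ := QuotientGroup.mk_surjective x
    refine (isPGroup_cj g S.2).to_le fun u hu => mem_cj.2 ?_
    have : ((u * g : G) : G ⧸ (S : Subgroup G)) = g := hu
    have h2 := QuotientGroup.eq.1 this.symm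
    rwa [← mul_assoc] at h2
  fix P pP := by
    obtain ⟨g, hg⟩ := exists_cj_le_sylow S pP
    refine ⟨(g⁻¹ : G), fun u hu => ?_⟩
    show ((u * g⁻¹ : G) : G ⧸ (S : Subgroup G)) = (g⁻¹ : G)
    refine (QuotientGroup.eq.2 ?_).symm
    simpa [mul_assoc] using hg (mem_cj_of_mem g hu)

end Cfsg.Agent.GL
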