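import Cfsg.Agent.Lib.GL.T2
import Cfsg.Agent.Lib.GL.Core
import Cfsg.Agent.Lib.GL.Syl
import Mathlib.Algebra.Module.Equiv.Basic
import Mathlib.Tactic.LinearCombination
import Mathlib.Tactic.Abel

/-! S5242, row GL-B1 (notes/GL.md): the base case for `p = 2`, reduction to a faithful action. -/

set_option autoImplicit false
set_option linter.unusedSectionVars false
set_option linter.unusedVariables false

namespace Cfsg.Agent.GL

variable {G X M : Type*} [Group G] [Finite G] [MulAction G X] [AddCommGroup M] [DistribMulAction G M]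

namespace B1

variable {Γ Y A B P S : Subgroup G} {D : AddSubgroup M} {Gb : Type*} [Group Gb] [Finite Gb]
  [DistribMulAction Gb D] [FaithfulSMul Gb D]

/-- `π` induces the action of `Γ` on `D`. -/
structure Mod (D : AddSubgroup M) [DistribMulAction Gb D] (π : Γ →* Gb) : Prop where
  surj : Function.Surjective π
  act : ∀ (g : Γ) (m : D), ((π g • m : D) : M) = (g : G) • (m : M)

/-- The image of a subgroup. -/
def bar (π : Γ →* Gb) (P : Subgroup G) : Subgroup Gb := (P.subgroupOf Γ).map π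

/-- The preimage of a subgroup. -/
def pre (π : Γ →* Gb) (Q : Subgroup Gb) : Subgroup G := (Q.comap π).map Γ.subtype

variable {π : Γ →* Gb}

theorem mem_bar {q : Gb} : q ∈ bar π P ↔ ∃ g : Γ, (g : G) ∈ P ∧ π g = q := Iff.rfl

theorem mem_pre {Q : Subgroup Gb} {g : G} : g ∈ pre π Q ↔ ∃ h : g ∈ Γ, π ⟨g, h⟩ ∈ Q :=
  ⟨fun ⟨a, h1, h2⟩ => ⟨h2 ▸ a.2, by subst h2; exact h1⟩, fun ⟨h, h1⟩ => ⟨⟨g, h⟩, h1, rfl⟩⟩

theorem bar_mono (h : A ≤ B) : bar π A ≤ bar π B := fun _ ⟨g, h1, h2⟩ => ⟨g, h h1, h2⟩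

theorem bar_inf_pre {Q : Subgroup Gb} (h : Q ≤ bar π P) : bar π (P ⊓ pre π Q) = Q := by
  refine le_antisymm ?_ fun q hq => ?_
  · rintro _ ⟨g, ⟨-, h1⟩, rfl⟩
    exact (mem_pre.1 h1).2
  · obtain ⟨g, h1, rfl⟩ := h hq
    exact ⟨g, ⟨h1, mem_pre.2 ⟨g.2, hq⟩⟩, rfl⟩

theorem bar_cj (g : Γ) (P : Subgroup G) : bar π (cj (g : G) P) = cj (π g) (bar π P) := by
  ext q
  rw [mem_cj]
  constructor
  · rintro ⟨a, h1, rfl⟩
    have h1' : (a : G) ∈ cj (g : G) P := h1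
    exact ⟨g⁻¹ * a * g, (mem_cj.1 h1' : (g : G)⁻¹ * a * g ∈ P), by simp⟩
  · rintro ⟨a, h1, h2⟩
    have h1' : (a : G) ∈ P := h1
    refine ⟨g * a * g⁻¹, (mem_cj_of_mem (g : G) h1' : (g : G) * a * (g : G)⁻¹ ∈ cj (g : G) P), ?_⟩
    simp [h2, mul_assoc]

theorem Mod.eq_one_iff (h : Mod D π) {g : Γ} : π g = 1 ↔ ∀ m ∈ D, (g : G) • m = m := by
  constructor
  · intro e m hm
    rw [← h.act g ⟨m, hm⟩, e, one_smul]
  · intro e
    exact FaithfulSMul.eq_of_smul_eq_smul (α := D) fun m => Subtype.ext (by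
      rw [h.act, e _ m.2, one_smul])

theorem Mod.fx_eq (h : Mod D π) (hA : A ≤ Γ) :
    fx D A = (fx (⊤ : AddSubgroup D) (bar π A)).map D.subtype := by
  ext m
  constructor
  · intro hm
    refine ⟨⟨m, hm.1⟩, ⟨trivial, ?_⟩, rfl⟩
    rintro _ ⟨g, h1, rfl⟩
    exact Subtype.ext ((h.act _ _).trans (hm.2 _ h1))
  · rintro ⟨m, hm, rfl⟩
    refine ⟨m.2, fun u hu => ?_⟩
    exact (h.act ⟨u, hA hu⟩ m).symm.trans (congrArg Subtype.val (hm.2 _ ⟨⟨u, hA hu⟩, hu, rfl⟩))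

theorem Mod.relIndex_fx (h : Mod D π) (hA : A ≤ Γ) (hB : B ≤ Γ) :
    (fx D A).relIndex (fx D B) =
      (fx (⊤ : AddSubgroup D) (bar π A)).relIndex (fx (⊤ : AddSubgroup D) (bar π B)) := by
  rw [h.fx_eq hA, h.fx_eq hB, AddSubgroup.relIndex_map_map_of_injective _ _ D.subtype_injective]

theorem relIndex_pre (hA : A ≤ Γ) (Q : Subgroup Gb) :
    (A ⊓ pre π Q).relIndex A = Q.relIndex (bar π A) := by
  rw [bar, ← Subgroup.relIndex_comap, Subgroup.inf_relIndex_left,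
    ← Subgroup.relIndex_map_map_of_injective _ _ Γ.subtype_injective,
    Subgroup.map_subgroupOf_eq_of_le hA]
  rfl

theorem Mod.best_iff [Finite D] (h : Mod D π) (hA : A ≤ Γ) :
    Best D A ↔ Best (⊤ : AddSubgroup D) (bar π A) := by
  rw [GL.best_iff, GL.best_iff]
  refine and_congr ⟨?_, fun H a ha b hb m hm => ?_⟩ ⟨fun H Q hQ => ?_, fun H B hB => ?_⟩
  · rintro H _ ⟨a, ha, rfl⟩ _ ⟨b, hb, rfl⟩ m -
    refine Subtype.ext ?_
    simp only [h.act]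
    exact H a ha b hb m m.2
  · have := congrArg Subtype.val (H _ ⟨⟨a, hA ha⟩, ha, rfl⟩ _ ⟨⟨b, hA hb⟩, hb, rfl⟩ ⟨m, hm⟩ trivial)
    simpa only [h.act] using this
  · have := H (A ⊓ pre π Q) inf_le_left
    rwa [h.relIndex_fx hA (inf_le_left.trans hA), bar_inf_pre hQ, relIndex_pre hA] at this
  · rw [h.relIndex_fx hA (hB.trans hA)]
    refine (H _ (bar_mono hB)).trans ?_
    rw [← relIndex_pre hA]
    refine Subgroup.relIndex_le_of_le_left (le_inf hB fun b hb => ?_)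
      Subgroup.index_ne_zero_of_finite
    exact mem_pre.2 ⟨hA (hB hb), ⟨b, hA (hB hb)⟩, hb, rfl⟩

theorem Mod.bar_eq_bot (h : Mod D π) (hA : A ≤ Γ) : bar π A = ⊥ ↔ A ≤ ker ⊤ D := by
  rw [eq_bot_iff]
  constructor
  · intro H a ha
    exact ⟨trivial, (h.eq_one_iff (g := ⟨a, hA ha⟩)).1 (H ⟨⟨a, hA ha⟩, ha, rfl⟩)⟩
  · rintro H _ ⟨a, ha, rfl⟩
    exact h.eq_one_iff.2 (H ha).2

theorem Mod.mem_Q0 (h : Mod D π) (hr : Red 2 Γ Y D) (hY : Y ≤ P) (hP : P ≤ Γ)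
    (pP : IsPGroup 2 P) : P ∈ Q0 D Y ↔ Off D (bar π P) := by
  have := hr.fin
  rw [hr.mem_Q0 hP pP, and_iff_right hY]
  constructor
  · rintro ⟨A, h1, h2, h3⟩
    exact ⟨_, bar_mono h1, mt (h.bar_eq_bot (h1.trans hP)).1 h3, (h.best_iff (h1.trans hP)).1 h2⟩
  · rintro ⟨Q, h1, h2, h3⟩
    have h4 : P ⊓ pre π Q ≤ Γ := inf_le_left.trans hP
    rw [← bar_inf_pre h1] at h2 h3
    exact ⟨_, inf_le_left, (h.best_iff h4).2 h3, mt (h.bar_eq_bot h4).2 h2⟩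

/-- Every element has a lift `γ` with `S ⊓ π⁻¹(S̄^q) ≤ S^γ`. -/
theorem Mod.exists_lift (h : Mod D π) (hS : S ≤ Γ) (pS : IsPGroup 2 S) (hs : ¬ 2 ∣ S.relIndex Γ)
    (q : Gb) : ∃ g : Γ, π g = q ∧ S ⊓ pre π (cj q (bar π S)) ≤ cj (g : G) S := by
  obtain ⟨g, rfl⟩ := h.surj q
  let H := pre π (cj (π g) (bar π S))
  have hH : H ≤ Γ := fun x hx => (mem_pre.1 hx).1
  have h1 : cj (g : G) S ≤ H := fun x hx =>
    mem_pre.2 ⟨cj_le_of_mem g.2 hS hx, by rw [← bar_cj]; exact ⟨_, hx, rfl⟩⟩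
  obtain ⟨a, ha, h2⟩ := exists_cj_le h1 (isPGroup_cj _ pS)
    (syl_of_le (syl_cj hs g.2) h1 hH).1 (inf_le_right : S ⊓ H ≤ H) pS.to_inf_left
  obtain ⟨haΓ, ha'⟩ := mem_pre.1 (H.inv_mem ha)
  rw [← bar_cj] at ha'
  obtain ⟨b, hb, hab⟩ := ha'
  refine ⟨⟨a⁻¹, haΓ⟩ * b⁻¹ * g, by simp [← hab], ?_⟩
  rw [cj_le_iff] at h2
  refine h2.trans (le_of_eq ?_)
  simp only [Subgroup.coe_mul, Subgroup.coe_inv, cj_mul]
  have hb' : (b : G) ∈ cj (g : G) S := hb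
  rw [cj_eq_of_mem ((cj (g : G) S).inv_mem hb')]

/-- A partial cocycle does not depend on the lift. -/
theorem eq_of_ker (hr : Red 2 Γ Y D) (pS : IsPGroup 2 S) (hYS : Y ≤ S) (hS : S ≤ Γ) {t : G → M}
    (h0 : ∀ s ∈ S, t s = 0) (hm : ∀ g ∈ Γ, S ⊓ cj g S ∈ Q0 D Y → t g ∈ D)
    (hc : ∀ g ∈ Γ, ∀ h ∈ Γ, S ⊓ cj g S ⊓ cj (g * h) S ∈ Q0 D Y → t (g * h) = t g + g • t h)
    {g k : G} (hg : g ∈ Γ) (hk : k ∈ ker Γ D) (hP : P ∈ Q0 D Y) (h1 : P ≤ S) (h2 : P ≤ cj g S)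
    (h3 : P ≤ cj (k * g) S) : t (k * g) = t g := by
  have up : ∀ Q, P ≤ Q → Q ≤ S → Q ∈ Q0 D Y := fun Q a b =>
    hr.toGen.up_Q0.up P hP Q a (b.trans hS)
  have hkP : cj k P = P := by
    refine Subgroup.eq_of_le_of_card_ge ?_ (card_cj k P).ge
    rintro _ ⟨u, hu, rfl⟩
    have a1 : k * u * k⁻¹ ∈ cj (k * g) S := by
      rw [cj_mul]; exact mem_cj_of_mem k (h2 hu)
    have a2 : u⁻¹ * (k * u * k⁻¹) ∈ cj (k * g) S ⊓ ker Γ D := by
      refine ⟨Subgroup.mul_mem _ (Subgroup.inv_mem _ (h3 hu)) a1,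
        Γ.mul_mem (Γ.inv_mem (hS (h1 hu))) (Γ.mul_mem (Γ.mul_mem hk.1 (hS (h1 hu)))
          (Γ.inv_mem hk.1)), fun m hm => ?_⟩
      rw [mul_smul, mul_smul, mul_smul, ((ker Γ D).inv_mem hk).2 m hm,
        hk.2 _ (hr.inv u (hS (h1 hu)) m hm), inv_smul_smul]
    have a3 := P.mul_mem hu (hP.1 (hr.syl _ inf_le_right (isPGroup_cj _ pS).to_inf_left a2))
    simpa using a3
  let H := ker Γ D ⊓ Subgroup.normalizer (P : Set G)
  have hH : ∀ a ∈ H, P ≤ cj a S := fun a ha =>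
    (mem_normalizer_iff_cj.1 ha.2).ge.trans (cj_mono a h1)
  have hYH : Y ≤ H := le_inf (fun y hy => ⟨hr.le hy, hr.triv y hy⟩)
    (hP.1.trans Subgroup.le_normalizer)
  obtain ⟨u, hu, hu'⟩ := cocycle_cob (p := 2) hYH
    (syl_of_max hYH hr.pY fun R _ a b => hr.syl R (a.trans inf_le_left) b) (W := D)
    (fun a ha => hr.inv a ha.1.1) hr.tors t
    (fun a ha => hm a ha.1.1 (up _ (le_inf h1 (hH a ha)) inf_le_left))
    (fun a ha b hb => hc a ha.1.1 b hb.1.1 (up _ (le_inf (le_inf h1 (hH a ha))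
      (hH _ (H.mul_mem ha hb))) (inf_le_left.trans inf_le_left)))
    (fun s hs => h0 s (hYS hs))
  have hkH : k ∈ H := ⟨hk, mem_normalizer_iff_cj.2 hkP⟩
  rw [hc k hk.1 g hg (up _ (le_inf (le_inf h1 (hH k hkH)) h3) (inf_le_left.trans inf_le_left)),
    hu' k hkH, hk.2 u hu.1, sub_self, zero_add,
    hk.2 _ (hm g hg (up _ (le_inf h1 h2) inf_le_left))]

theorem Mod.cob (h : Mod D π) (hr : Red 2 Γ Y D) (hYS : Y ≤ S) (hS : S ≤ Γ) (pS : IsPGroup 2 S)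
    (hs : ¬ 2 ∣ S.relIndex Γ) (hSQ : S ∈ Q0 D Y) {t : G → M}
    (h0 : ∀ s ∈ S, t s = 0) (hm : ∀ g ∈ Γ, S ⊓ cj g S ∈ Q0 D Y → t g ∈ D)
    (hc : ∀ g ∈ Γ, ∀ h ∈ Γ, S ⊓ cj g S ⊓ cj (g * h) S ∈ Q0 D Y → t (g * h) = t g + g • t h) :
    ∃ u ∈ fx D S, ∀ g ∈ Γ, S ⊓ cj g S ∈ Q0 D Y → t g = g • u - u := by
  classical
  have := hr.fin
  choose γ hγ hγS using h.exists_lift hS pS hs
  obtain ⟨S1, hS1⟩ := exists_sylow_eq hS pS hs
  have hSb : (S1.mapSurjective h.surj : Subgroup Gb) = bar π S := by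
    rw [Sylow.coe_mapSurjective, hS1, bar]
  let tb : Gb → D := fun q => if hq : t (γ q) ∈ D then ⟨_, hq⟩ else 0
  have key : ∀ g : Γ, S ⊓ cj (g : G) S ∈ Q0 D Y → (tb (π g) : M) = t g := fun g hg => by
    have a1 : t ((g * (γ (π g))⁻¹ : Γ) * γ (π g)) = t (γ (π g)) :=
      eq_of_ker hr pS hYS hS h0 hm hc (γ _).2 ⟨Subtype.property _, h.eq_one_iff.1 (by simp [hγ])⟩
        hg inf_le_left (le_trans (le_inf inf_le_left fun x hx => mem_pre.2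
          ⟨hS hx.1, by rw [← bar_cj]; exact ⟨_, hx.2, rfl⟩⟩) (hγS _)) (by simp)
    have a2 : t (γ (π g)) = t g := by simpa using a1.symm
    simp only [tb]
    rw [dif_pos (a2 ▸ hm g g.2 hg)]
    exact a2
  have hYc : ∀ g ∈ Γ, Y ≤ cj g S := fun g hg => (hr.nrm g hg).ge.trans (cj_mono g hYS)
  obtain ⟨u, hu, hu'⟩ := t2 (G := Gb) (D := D) (by
      obtain ⟨k, hk⟩ := hr.tors
      exact ⟨k, fun m _ => Subtype.ext (hk m m.2)⟩) (S1.mapSurjective h.surj) tb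
    (fun s hs => by
      obtain ⟨g, h1, rfl⟩ : s ∈ bar π S := hSb ▸ hs
      refine Subtype.ext ((key g ?_).trans (h0 _ h1))
      have h1' : (g : G) ∈ S := h1
      rw [cj_eq_of_mem h1', inf_idem]
      exact hSQ)
    (fun a b hab => by
      rw [hSb] at hab
      let P := S ⊓ pre π (bar π S ⊓ cj a (bar π S) ⊓ cj (a * b) (bar π S))
      have hY : Y ≤ P := le_inf hYS fun y hy => mem_pre.2 ⟨hr.le hy, by
        rw [(h.eq_one_iff (g := ⟨y, hr.le hy⟩)).2 (hr.triv y hy)]; exact Subgroup.one_mem _⟩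
      have hP : P ∈ Q0 D Y := by
        rw [h.mem_Q0 hr hY (inf_le_left.trans hS) pS.to_inf_left,
          bar_inf_pre (inf_le_left.trans inf_le_left)]
        exact hab
      have up : ∀ Q, P ≤ Q → Q ≤ Γ → Q ∈ Q0 D Y := hr.toGen.up_Q0.up P hP
      have a1 : P ≤ cj (γ a : G) S := le_trans (le_inf inf_le_left fun x hx =>
        let ⟨e1, e2⟩ := mem_pre.1 hx.2; mem_pre.2 ⟨e1, e2.1.2⟩) (hγS a)
      have a2 : P ≤ cj (γ (a * b) : G) S := le_trans (le_inf inf_le_left fun x hx =>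
        let ⟨e1, e2⟩ := mem_pre.1 hx.2; mem_pre.2 ⟨e1, e2.2⟩) (hγS (a * b))
      have a3 : S ⊓ cj (((γ a)⁻¹ * γ (a * b) : Γ) : G) S ∈ Q0 D Y := by
        refine hr.toGen.up_Q0.up _ (hr.toGen.up_Q0.inv _ (Γ.inv_mem (γ a).2) P hP
          (inf_le_left.trans hS)) _ (le_inf ?_ ?_) (inf_le_left.trans hS)
        · rw [cj_le_iff, inv_inv]; exact a1
        · rw [Subgroup.coe_mul, cj_mul]; exact cj_mono _ a2
      have a4 := hc _ (γ a).2 _ ((γ a)⁻¹ * γ (a * b) : Γ).2 (up _ (le_inf (le_inf inf_le_left a1)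
        (by simpa using a2)) ((inf_le_left.trans inf_le_left).trans hS))
      have b1 := key (γ a) (up _ (le_inf inf_le_left a1) (inf_le_left.trans hS))
      have b2 := key (γ (a * b)) (up _ (le_inf inf_le_left a2) (inf_le_left.trans hS))
      have b3 := key _ a3
      rw [map_mul, map_inv, hγ, hγ, inv_mul_cancel_left] at b3
      rw [hγ] at b1 b2
      refine Subtype.ext ?_
      rw [AddSubgroup.coe_add, b2, b1]
      have b4 : ((a • tb b : D) : M) = (γ a : G) • (tb b : M) :=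
        (congrArg (fun q => ((q • tb b : D) : M)) (hγ a)).symm.trans (h.act _ _)
      rw [b4, b3]
      simpa using a4)
  refine ⟨u, ⟨u.2, fun s hs => ?_⟩, fun g hg hQ => ?_⟩
  · have := hu (π ⟨s, hS hs⟩) (show _ ∈ (S1.mapSurjective h.surj : Subgroup Gb) from
      hSb ▸ ⟨_, hs, rfl⟩)
    exact (h.act ⟨s, hS hs⟩ u).symm.trans (congrArg Subtype.val this)
  · have a1 := (h.mem_Q0 hr hQ.1 (inf_le_left.trans hS) pS.to_inf_left).1 hQ
    have a2 := hu' (π ⟨g, hg⟩) (a1.mono (by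
      rw [hSb, ← bar_cj]
      exact le_inf (bar_mono inf_le_left) (bar_mono inf_le_right)))
    rw [← key ⟨g, hg⟩ hQ, a2, AddSubgroup.coe_sub, h.act]

/-- The action of `Γ` on `D`. -/
def rho (hD : Inv Γ D) : Γ →* (D ≃ₗ[ℤ] D) where
  toFun g :=
    { toFun := fun m => ⟨(g : G) • (m : M), hD g g.2 m m.2⟩
      invFun := fun m => ⟨(g : G)⁻¹ • (m : M), hD _ (Γ.inv_mem g.2) m m.2⟩
      map_add' := fun a b => Subtype.ext (smul_add _ _ _)
      map_smul' := fun c a => Subtype.ext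
        (map_zsmul (DistribSMul.toAddMonoidHom M (g : G)) c (a : M))
      left_inv := fun m => Subtype.ext (inv_smul_smul _ _)
      right_inv := fun m => Subtype.ext (smul_inv_smul _ _) }
  map_one' := LinearEquiv.ext fun m => Subtype.ext (one_smul G (m : M))
  map_mul' a b := LinearEquiv.ext fun m => Subtype.ext (mul_smul (a : G) (b : G) (m : M))

theorem cob (hr : Red 2 Γ Y D) (hYS : Y ≤ S) (hS : S ≤ Γ) (pS : IsPGroup 2 S)
    (hs : ¬ 2 ∣ S.relIndex Γ) (hSQ : S ∈ Q0 D Y) {t : G → M}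
    (h0 : ∀ s ∈ S, t s = 0) (hm : ∀ g ∈ Γ, S ⊓ cj g S ∈ Q0 D Y → t g ∈ D)
    (hc : ∀ g ∈ Γ, ∀ h ∈ Γ, S ⊓ cj g S ⊓ cj (g * h) S ∈ Q0 D Y → t (g * h) = t g + g • t h) :
    ∃ u ∈ fx D S, ∀ g ∈ Γ, S ⊓ cj g S ∈ Q0 D Y → t g = g • u - u :=
  haveI : Finite (rho hr.inv).range :=
    Finite.of_surjective _ (rho hr.inv).rangeRestrict_surjective
  Mod.cob (π := (rho hr.inv).rangeRestrict)
    ⟨(rho hr.inv).rangeRestrict_surjective, fun _ _ => rfl⟩ hr hYS hS pS hs hSQ h0 hm hc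

end B1

theorem base1 (hX : PX 2 G X) {Γ Y : Subgroup G} {D : AddSubgroup M} (h : Red 2 Γ Y D) :
    Van X Γ (Q0 D Y) 1 (fx D) (fun _ => ⊥) := by
  intro f hf h2 h3
  have hU := h.toGen.up_Q0
  obtain ⟨S, hYS, hS, pS, hs⟩ := exists_syl h.le h.pY
  have hcj : ∀ l : List X, l ≠ [] → ∃ g ∈ Γ, St Γ l ≤ cj g S := fun l hl => by
    obtain ⟨g, hg, h1⟩ := exists_cj_le hS pS hs (St_le Γ l) (hX.isPGroup_St Γ hl)
    exact ⟨g⁻¹, Γ.inv_mem hg, cj_le_iff.1 h1⟩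
  by_cases hSQ : S ∈ Q0 D Y
  swap
  · refine ⟨0, Eqv.zero Γ, Co.zero _ _ _ _, fun l hl hQ => (hSQ ?_).elim⟩
    obtain ⟨g, hg, h1⟩ := hcj l (by rintro rfl; simp at hl)
    exact (hU.mem_cj hg hS).1 (hU.up _ hQ _ h1 (cj_le_of_mem hg hS))
  obtain ⟨x0, hx0⟩ := hX.fix S pS
  have hfix : ∀ g ∈ Γ, ∀ u ∈ cj g S, u • g • x0 = g • x0 := fun g hg u hu => by
    have := hx0 _ (mem_cj.1 hu)
    rwa [mul_smul, mul_smul, inv_smul_eq_iff] at this
  have hd : ∀ P ∈ Q0 D Y, P ≤ Γ → ∀ x y z : X, (∀ u ∈ P, u • x = x) → (∀ u ∈ P, u • y = y) →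
      (∀ u ∈ P, u • z = z) → f [x, z] = f [x, y] + f [y, z] := fun P hP hPΓ x y z hx hy hz => by
    have := h3 [x, y, z] rfl (hU.up P hP _ (fun u hu => ⟨hPΓ hu, by
      simp [hx u hu, hy u hu, hz u hu]⟩) (St_le _ _))
    rw [AddSubgroup.mem_bot, d_three] at this
    linear_combination (norm := abel) -this
  have hD : ∀ P ∈ Q0 D Y, P ≤ Γ → ∀ x y : X, (∀ u ∈ P, u • x = x) → (∀ u ∈ P, u • y = y) →
      f [x, y] ∈ D := fun P hP hPΓ x y hx hy =>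
    (h2 [x, y] rfl (hU.up P hP _ (fun u hu => ⟨hPΓ hu, by simp [hx u hu, hy u hu]⟩) (St_le _ _))).1
  obtain ⟨u, hu, hu'⟩ := B1.cob h hYS hS pS hs hSQ (t := fun g => f [x0, g • x0])
    (fun s hs => by
      have := hd S hSQ hS x0 x0 x0 hx0 hx0 hx0
      simp only [hx0 s hs]
      simpa using this)
    (fun g hg hQ => hD _ hQ (inf_le_left.trans hS) _ _ (fun u hu => hx0 u hu.1)
      (fun u hu => hfix g hg u hu.2))
    (fun a ha b hb hQ => by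
      have := hf a ha [x0, b • x0]
      simp only [tr_cons, tr_nil, ← mul_smul] at this
      simp only [← this]
      exact hd _ hQ ((inf_le_left.trans inf_le_left).trans hS) _ _ _ (fun u hu => hx0 u hu.1.1)
        (fun u hu => hfix a ha u hu.1.2) (fun u hu => hfix _ (Γ.mul_mem ha hb) u hu.2))
  have hdiff : ∀ P ∈ Q0 D Y, ∀ a ∈ Γ, ∀ b ∈ Γ, P ≤ cj a S → P ≤ cj b S →
      f [a • x0, b • x0] = b • u - a • u := fun P hP a ha b hb h1 h2 => by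
    have a1 := hu' (a⁻¹ * b) (Γ.mul_mem (Γ.inv_mem ha) hb) (hU.up _ (hU.inv _ (Γ.inv_mem ha) P hP
      (h1.trans (cj_le_of_mem ha hS))) _ (le_inf (by rw [cj_le_iff, inv_inv]; exact h1)
        (by rw [cj_mul]; exact cj_mono _ h2)) (inf_le_left.trans hS))
    have a2 := hf a ha [x0, (a⁻¹ * b) • x0]
    simp only [tr_cons, tr_nil, ← mul_smul, mul_inv_cancel_left] at a2
    rw [a2, a1, smul_sub, ← mul_smul, mul_inv_cancel_left]
  have hSt : ∀ x : X, ∀ w ∈ St Γ [x], w • x = x := fun x w hw => hw.2 x (by simp)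
  obtain ⟨g, hg, hgR⟩ := exists_eqv (Γ := Γ) (X := X) (M := M)
    (fun l m => ∀ x, l = [x] → St Γ [x] ∈ Q0 D Y → ∀ a ∈ Γ, St Γ [x] ≤ cj a S →
      m = a • u - f [x, a • x0])
    (fun c hc l m hm x hx hQ a ha h1 => by
      obtain rfl : l = [c⁻¹ • x] := by rw [← tr_inv_tr c l, hx]; rfl
      have a1 : St Γ [c⁻¹ • x] = cj c⁻¹ (St Γ [x]) := St_tr (Γ.inv_mem hc) [x]
      rw [hm _ rfl (a1 ▸ hU.inv _ (Γ.inv_mem hc) _ hQ (St_le _ _)) (c⁻¹ * a)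
        (Γ.mul_mem (Γ.inv_mem hc) ha) (by rw [a1, cj_mul]; exact cj_mono _ h1), smul_sub,
        ← hf c hc]
      simp [← mul_smul])
    (fun l => by
      by_cases hl : ∃ x, l = [x] ∧ St Γ [x] ∈ Q0 D Y
      swap
      · exact ⟨0, fun x h1 h2 => (hl ⟨x, h1, h2⟩).elim, fun _ _ => smul_zero _⟩
      obtain ⟨x, rfl, hQ⟩ := hl
      obtain ⟨a, ha, h1⟩ := hcj [x] (by simp)
      refine ⟨a • u - f [x, a • x0], fun y hy _ b hb h2 => ?_, fun w hw => ?_⟩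
      · obtain rfl : x = y := by simpa using hy
        rw [hd _ hQ (St_le _ _) x (a • x0) (b • x0) (hSt x) (fun w hw => hfix a ha w (h1 hw))
          (fun w hw => hfix b hb w (h2 hw)), hdiff _ hQ a ha b hb h1 h2]
        abel
      · rw [smul_sub, hf.fix (l := [x, a • x0]) ⟨hw.1, by simp [hSt x w hw, hfix a ha w (h1 hw)]⟩,
          (smul_mem_fx h.inv ha hu).2 w (h1 hw)])
  refine ⟨g, hg, fun l hl hQ => ?_, fun l hl hQ => ?_⟩
  · obtain ⟨x, rfl⟩ := List.length_eq_one_iff.1 hl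
    obtain ⟨a, ha, h1⟩ := hcj [x] (by simp)
    refine ⟨?_, fun w hw => hg.fix hw⟩
    rw [hgR _ x rfl hQ a ha h1]
    exact D.sub_mem (h.inv a ha u hu.1)
      (hD _ hQ (St_le _ _) _ _ (hSt x) fun w hw => hfix a ha w (h1 hw))
  · obtain ⟨x, y, rfl⟩ := List.length_eq_two.1 hl
    obtain ⟨a, ha, h1⟩ := hcj [x] (by simp)
    obtain ⟨b, hb, h2⟩ := hcj [y] (by simp)
    have hx : St Γ [x, y] ≤ St Γ [x] := St_anti Γ (by simp)
    have hy : St Γ [x, y] ≤ St Γ [y] := St_anti Γ (by simp)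
    have a1 := hd _ hQ (St_le _ _) x y (b • x0) (fun w hw => hSt x w (hx hw))
      (fun w hw => hSt y w (hy hw)) (fun w hw => hfix b hb w (h2 (hy hw)))
    have a2 := hd _ hQ (St_le _ _) x (a • x0) (b • x0) (fun w hw => hSt x w (hx hw))
      (fun w hw => hfix a ha w (h1 (hx hw))) (fun w hw => hfix b hb w (h2 (hy hw)))
    rw [hdiff _ hQ a ha b hb (hx.trans h1) (hy.trans h2)] at a2
    rw [AddSubgroup.mem_bot, Pi.sub_apply, d_two,
      hgR _ x rfl (hU.up _ hQ _ hx (St_le _ _)) a ha h1,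
      hgR _ y rfl (hU.up _ hQ _ hy (St_le _ _)) b hb h2]
    linear_combination (norm := abel) a2 - a1

end Cfsg.Agent.GL
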