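import Cfsg.Agent.Lib.GL.Defs

/-! S5242, row GL-Best (notes/GL.md): best offenders. -/

set_option autoImplicit false
set_option linter.unusedSectionVars false
set_option linter.unusedVariables false

namespace Cfsg.Agent.GL

variable {G M : Type*} [Group G] [Finite G] [AddCommGroup M] [DistribMulAction G M]
variable {p : ℕ} [Fact p.Prime] {Γ A P P' : Subgroup G} {D D' : AddSubgroup M}

theorem card_mul_relIndex (h : A ≤ P) : Nat.card A * A.relIndex P = Nat.card P := by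
  rw [← Subgroup.relIndex_bot_left, ← Subgroup.relIndex_bot_left,
    Subgroup.relIndex_mul_relIndex _ _ _ bot_le h]

theorem card_mul_relIndex_add (h : D' ≤ D) : Nat.card D' * D'.relIndex D = Nat.card D := by
  rw [← AddSubgroup.relIndex_bot_left, ← AddSubgroup.relIndex_bot_left,
    AddSubgroup.relIndex_mul_relIndex _ _ _ bot_le h]

theorem finite_add_of_le [Finite D] (h : D' ≤ D) : Finite D' :=
  Finite.of_injective _ (AddSubgroup.inclusion_injective h)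

instance finite_fx [Finite D] (A : Subgroup G) : Finite (fx D A) := finite_add_of_le (fx_le D A)

theorem cj_ker (hD : Inv Γ D) {g : G} (hg : g ∈ Γ) : cj g (ker ⊤ D) = ker ⊤ D := by
  ext x
  rw [mem_cj]
  refine ⟨fun h => ⟨trivial, fun m hm => ?_⟩, fun h => ⟨trivial, fun m hm => ?_⟩⟩
  · have := h.2 _ (hD _ (Γ.inv_mem hg) m hm)
    rwa [mul_smul, mul_smul, smul_inv_smul, smul_left_cancel_iff] at this
  · rw [mul_smul, mul_smul, h.2 _ (hD g hg m hm), inv_smul_smul]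

theorem fx_cj (hD : Inv Γ D) {g : G} (hg : g ∈ Γ) (A : Subgroup G) :
    fx D (cj g A) = (fx D A).map (DistribSMul.toAddMonoidHom M g) := by
  ext m
  refine ⟨fun h => ⟨g⁻¹ • m, ?_, smul_inv_smul g m⟩, ?_⟩
  · simpa using smul_mem_fx hD (Γ.inv_mem hg) h
  · rintro ⟨m, hm, rfl⟩
    exact smul_mem_fx hD hg hm

theorem fx_eq_of_le_ker (h : A ≤ ker ⊤ D) : fx D A = D :=
  le_antisymm (fx_le D A) fun m hm => ⟨hm, fun _ hu => (h hu).2 m hm⟩

theorem best_iff [Finite D] : Best D A ↔ (∀ a ∈ A, ∀ b ∈ A, ∀ m ∈ D, a • b • m = b • a • m) ∧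
    ∀ B ≤ A, (fx D A).relIndex (fx D B) ≤ B.relIndex A := by
  refine and_congr_right fun _ => forall₂_congr fun B hB => ?_
  rw [← card_mul_relIndex hB, ← card_mul_relIndex_add (fx_anti D hB), mul_assoc,
    Nat.mul_le_mul_left_iff Nat.card_pos, mul_comm (B.relIndex A),
    Nat.mul_le_mul_left_iff Nat.card_pos]

theorem Best.anti [Finite D] (h : Best D A) (hD : D' ≤ D) : Best D' A := by
  have := finite_add_of_le hD
  rw [best_iff] at h ⊢
  refine ⟨fun a ha b hb m hm => h.1 a ha b hb m (hD hm), fun B hB => le_trans ?_ (h.2 B hB)⟩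
  have e : fx D' A = fx D A ⊓ fx D' B := le_antisymm
    (le_inf (fun _ hm => ⟨hD hm.1, hm.2⟩) (fx_anti D' hB)) fun _ hm => ⟨hm.2.1, hm.1.2⟩
  rw [e, AddSubgroup.inf_relIndex_right]
  exact AddSubgroup.relIndex_le_of_le_right (fun _ hm => ⟨hD hm.1, hm.2⟩)
    AddSubgroup.index_ne_zero_of_finite

theorem card_fx_cj (hD : Inv Γ D) {g : G} (hg : g ∈ Γ) (A : Subgroup G) :
    Nat.card (fx D (cj g A)) = Nat.card (fx D A) := by
  rw [fx_cj hD hg]
  exact AddSubgroup.card_map_of_injective (MulAction.injective g)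

theorem Best.cj (hD : Inv Γ D) {g : G} (hg : g ∈ Γ) (h : Best D A) : Best D (cj g A) := by
  refine ⟨?_, fun B hB => ?_⟩
  · rintro _ ⟨a, ha, rfl⟩ _ ⟨b, hb, rfl⟩ m hm
    simpa [mul_smul] using h.1 a ha b hb _ (hD _ (Γ.inv_mem hg) m hm)
  · have := h.2 (GL.cj g⁻¹ B) (cj_le_iff.2 (by rwa [inv_inv]))
    rwa [card_cj, card_fx_cj hD (Γ.inv_mem hg), ← card_cj g A, ← card_fx_cj hD hg A] at this

theorem best_of_le_ker (h : A ≤ ker ⊤ D) : Best D A := by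
  refine ⟨fun a ha b hb m hm => by
    rw [(h hb).2 m hm, (h ha).2 m hm, (h hb).2 m hm], fun B hB => ?_⟩
  rw [fx_eq_of_le_ker h, fx_eq_of_le_ker (hB.trans h)]
  exact Nat.mul_le_mul_right _ (Subgroup.card_le_of_le hB)

theorem Jo_le (D : AddSubgroup M) (P : Subgroup G) : Jo D P ≤ P := sSup_le fun _ h => h.1

theorem le_Jo (h : A ≤ P) (hA : Best D A) : A ≤ Jo D P := le_sSup ⟨h, hA⟩

theorem Jo_mono (D : AddSubgroup M) (h : P ≤ P') : Jo D P ≤ Jo D P' :=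
  sSup_le fun _ hA => le_Jo (hA.1.trans h) hA.2

theorem Jo_eq_of_le (h1 : Jo D P' ≤ P) (h2 : P ≤ P') : Jo D P = Jo D P' :=
  le_antisymm (Jo_mono D h2) (sSup_le fun _ hA => le_Jo ((le_Jo hA.1 hA.2).trans h1) hA.2)

theorem Jo_Jo (D : AddSubgroup M) (P : Subgroup G) : Jo D (Jo D P) = Jo D P :=
  Jo_eq_of_le le_rfl (Jo_le D P)

theorem Jo_cj (hD : Inv Γ D) {g : G} (hg : g ∈ Γ) (P : Subgroup G) :
    Jo D (cj g P) = cj g (Jo D P) := by
  have key : ∀ g ∈ Γ, ∀ P : Subgroup G, cj g (Jo D P) ≤ Jo D (cj g P) := fun g hg P =>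
    cj_le_iff.2 (sSup_le fun A hA => cj_le_iff.1 (le_Jo (cj_mono g hA.1) (hA.2.cj hD hg)))
  refine le_antisymm ?_ (key g hg P)
  have := cj_mono g (key g⁻¹ (Γ.inv_mem hg) (cj g P))
  rwa [cj_cj_inv, cj_inv_cj] at this

theorem Jo_le_Jo [Finite D] (hD : D' ≤ D) (P : Subgroup G) : Jo D P ≤ Jo D' P :=
  sSup_le fun _ hA => le_Jo hA.1 (hA.2.anti hD)

theorem inf_ker_le_Jo (D : AddSubgroup M) (P : Subgroup G) : P ⊓ ker ⊤ D ≤ Jo D P :=
  le_Jo inf_le_left (best_of_le_ker inf_le_right)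

/-- Norm-good offenders: subgroups of index `p` have no new fixed points. -/
def NG (p : ℕ) (D : AddSubgroup M) (A : Subgroup G) : Prop :=
  Best D A ∧ ¬ A ≤ ker ⊤ D ∧ IsPGroup p A ∧ ∀ A0 ≤ A, A0.relIndex A = p → fx D A0 ≤ fx D A

/-- Offenders acting as a group of order `p` with fixed points of index `p`. -/
def TV (p : ℕ) (D : AddSubgroup M) (A : Subgroup G) : Prop :=
  Best D A ∧ IsPGroup p A ∧ (ker ⊤ D).relIndex A = p ∧ (fx D A).relIndex D = p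

theorem NG.cj (hD : Inv Γ D) {g : G} (hg : g ∈ Γ) (h : NG p D A) : NG p D (cj g A) := by
  refine ⟨h.1.cj hD hg, fun e => h.2.1 (cj_le_cj.1 (e.trans (cj_ker hD hg).ge)),
    isPGroup_cj g h.2.2.1, fun A0 h0 hi m hm => ?_⟩
  have := h.2.2.2 (GL.cj g⁻¹ A0) (cj_le_iff.2 (by rwa [inv_inv]))
    (by rw [← hi, ← relIndex_cj g⁻¹ A0, cj_inv_cj]) (smul_mem_fx hD (Γ.inv_mem hg) hm)
  simpa using smul_mem_fx hD hg this

theorem TV.cj (hD : Inv Γ D) {g : G} (hg : g ∈ Γ) (h : TV p D A) : TV p D (cj g A) := by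
  refine ⟨h.1.cj hD hg, isPGroup_cj g h.2.1, by rw [← cj_ker hD hg, relIndex_cj, h.2.2.1], ?_⟩
  have e := fx_cj hD hg ⊥
  rw [cj_bot, fx_eq_of_le_ker bot_le] at e
  rw [← h.2.2.2, fx_cj hD hg]
  exact (congrArg _ e).trans
    (AddSubgroup.relIndex_map_map_of_injective _ _ (MulAction.injective g))

theorem TV.not_le (h : TV p D A) : ¬ A ≤ ker ⊤ D := by
  intro e
  exact (Fact.out : p.Prime).one_lt.ne ((Subgroup.relIndex_eq_one.2 e).symm.trans h.2.2.1)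

theorem Tors.dvd_relIndex [Finite D] (tD : Tors p D) {B C : AddSubgroup M} (hC : C ≤ D)
    (h : ¬ C ≤ B) : p ∣ B.relIndex C := by
  obtain ⟨k, hk⟩ := tD
  have := finite_add_of_le hC
  have hq := Nat.minFac_prime fun e => h (AddSubgroup.relIndex_eq_one.1 e)
  have := Fact.mk hq
  obtain ⟨x, hx⟩ := exists_prime_addOrderOf_dvd_card' (G := C) _
    ((Nat.minFac_dvd _).trans (AddSubgroup.relIndex_dvd_card B C))
  have h1 : addOrderOf x ∣ p ^ k := addOrderOf_dvd_of_nsmul_eq_zero (Subtype.ext (hk _ (hC x.2)))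
  rw [hx] at h1
  rw [← (Nat.prime_dvd_prime_iff_eq hq Fact.out).1 (hq.dvd_of_dvd_pow h1)]
  exact Nat.minFac_dvd _

/-- A minimal non-trivial best offender is of one of the two types. -/
theorem Best.exists_min [Finite D] (tD : Tors p D) (h : Best D A) (hA : ¬ A ≤ ker ⊤ D)
    (pA : IsPGroup p A) : ∃ A' ≤ A, NG p D A' ∨ TV p D A' := by
  obtain ⟨A', ⟨h1, h2, h3⟩, hm⟩ := (Set.toFinite
    {B : Subgroup G | B ≤ A ∧ Best D B ∧ ¬ B ≤ ker ⊤ D}).exists_minimal ⟨A, le_rfl, h, hA⟩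
  refine ⟨A', h1, ?_⟩
  by_cases hng : ∀ A0 ≤ A', A0.relIndex A' = p → fx D A0 ≤ fx D A'
  · exact Or.inl ⟨h2, h3, pA.to_le h1, hng⟩
  push Not at hng
  obtain ⟨A0, k1, k2, k3⟩ := hng
  have k4 : (fx D A').relIndex (fx D A0) = p := le_antisymm (k2 ▸ (best_iff.1 h2).2 A0 k1)
    (Nat.le_of_dvd (Nat.pos_of_ne_zero AddSubgroup.index_ne_zero_of_finite)
      (tD.dvd_relIndex (fx_le D A0) k3))
  have k5 : Best D A0 := ⟨fun a ha b hb => h2.1 a (k1 ha) b (k1 hb), fun B hB =>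
    (h2.2 B (hB.trans k1)).trans_eq (by
      rw [← card_mul_relIndex k1, ← card_mul_relIndex_add (fx_anti D k1), k2, k4]; ring)⟩
  have k6 : A0 ≤ ker ⊤ D := by
    by_contra k6
    exact k3 (fx_anti D (hm ⟨k1.trans h1, k5, k6⟩ k1))
  refine Or.inr ⟨h2, pA.to_le h1, ?_, by rwa [fx_eq_of_le_ker k6] at k4⟩
  refine ((Nat.dvd_prime Fact.out).1 (k2 ▸ Subgroup.relIndex_dvd_of_le_left A' k6)).resolve_left
    fun e => h3 (Subgroup.relIndex_eq_one.1 e)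

theorem Gen.le_ker {Y : Subgroup G} (h : Gen p Γ Y D) : Y ≤ ker ⊤ D :=
  fun y hy => ⟨trivial, h.triv y hy⟩

/-- Members of `Q0` in a reduced setup. -/
theorem Red.mem_Q0 {Y Q : Subgroup G} (h : Red p Γ Y D) (hQ : Q ≤ Γ) (pQ : IsPGroup p Q) :
    Q ∈ Q0 D Y ↔ Y ≤ Q ∧ ∃ A ≤ Q, Best D A ∧ ¬ A ≤ ker ⊤ D := by
  refine and_congr_right fun hY => ⟨fun hne => ?_, ?_⟩
  · by_contra hno
    push Not at hno
    exact hne (le_antisymm (sSup_le fun A hA => h.syl A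
      (fun a ha => ⟨hQ (hA.1 ha), (hno A hA.1 hA.2 ha).2⟩) (pQ.to_le hA.1))
      (le_Jo hY (best_of_le_ker h.toGen.le_ker)))
  · rintro ⟨A, h1, h2, h3⟩ e
    exact h3 ((le_Jo h1 h2).trans (e.le.trans h.toGen.le_ker))

theorem Gen.up_Q0 {Y : Subgroup G} (h : Gen p Γ Y D) : Up Γ (Q0 D Y) := by
  refine ⟨fun P hP P' h1 _ => ⟨hP.1.trans h1, fun e => hP.2 (le_antisymm
    ((Jo_mono D h1).trans e.le) (le_Jo hP.1 (best_of_le_ker h.le_ker)))⟩, fun g hg P hP _ =>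
    ⟨(h.nrm g hg).ge.trans (cj_mono g hP.1), fun e => hP.2 ?_⟩⟩
  rwa [Jo_cj h.inv hg, ← h.nrm g hg, cj_inj] at e

theorem jcl_Q0 (Γ Y : Subgroup G) [Finite D] (hD : D' ≤ D) (hY : Y ≤ ker ⊤ D') :
    JCl Γ D' (Q0 D Y) := by
  intro P' hP' _ P h1 h2
  exact ⟨(le_Jo hP'.1 (best_of_le_ker hY)).trans h1,
    Jo_eq_of_le ((Jo_le_Jo hD P').trans h1) h2 ▸ hP'.2⟩

end Cfsg.Agent.GL
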