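import Mathlib.GroupTheory.Sylow
import Mathlib.GroupTheory.Nilpotent
import Mathlib.GroupTheory.FreeAbelianGroup
import Mathlib.Algebra.BigOperators.Finprod
import Mathlib.Data.List.Sublists
import Cfsg.Agent.Lib.Lead.Equivariant

/-!
S5242 project (notes/GL.md): equivariant cochains on lists of points of a `G`-set `X`, with values
in systems `P ↦ V P` of subgroups of one `G`-module `M`.
-/

set_option autoImplicit false
set_option linter.unusedSectionVars false

namespace Cfsg.Agent.GL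

section Conj
variable {G : Type*} [Group G]

/-- `g P g⁻¹`. -/
def cj (g : G) (P : Subgroup G) : Subgroup G := P.map (MulAut.conj g).toMonoidHom

theorem mem_cj {g x : G} {P : Subgroup G} : x ∈ cj g P ↔ g⁻¹ * x * g ∈ P := by
  constructor
  · rintro ⟨y, hy, rfl⟩
    simpa [mul_assoc] using hy
  · intro h
    exact ⟨_, h, by simp [mul_assoc]⟩

theorem mem_cj_of_mem (g : G) {x : G} {P : Subgroup G} (h : x ∈ P) : g * x * g⁻¹ ∈ cj g P :=
  ⟨x, h, rfl⟩

theorem cj_mul (g h : G) (P : Subgroup G) : cj (g * h) P = cj g (cj h P) := by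
  ext x; simp [mem_cj, mul_assoc]

@[simp] theorem cj_one (P : Subgroup G) : cj 1 P = P := by
  ext x; simp [mem_cj]

@[simp] theorem cj_inv_cj (g : G) (P : Subgroup G) : cj g⁻¹ (cj g P) = P := by
  rw [← cj_mul, inv_mul_cancel, cj_one]

@[simp] theorem cj_cj_inv (g : G) (P : Subgroup G) : cj g (cj g⁻¹ P) = P := by
  rw [← cj_mul, mul_inv_cancel, cj_one]

theorem cj_mono (g : G) {P Q : Subgroup G} (h : P ≤ Q) : cj g P ≤ cj g Q :=
  Subgroup.map_mono h

theorem cj_le_cj {g : G} {P Q : Subgroup G} : cj g P ≤ cj g Q ↔ P ≤ Q :=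
  ⟨fun h => by simpa using cj_mono g⁻¹ h, cj_mono g⟩

theorem cj_le_iff {g : G} {P Q : Subgroup G} : cj g P ≤ Q ↔ P ≤ cj g⁻¹ Q := by
  rw [← cj_le_cj (g := g⁻¹), cj_inv_cj]

theorem cj_inj {g : G} {P Q : Subgroup G} : cj g P = cj g Q ↔ P = Q :=
  ⟨fun h => by simpa using congrArg (cj g⁻¹) h, fun h => h ▸ rfl⟩

theorem cj_inf (g : G) (P Q : Subgroup G) : cj g (P ⊓ Q) = cj g P ⊓ cj g Q := by
  ext x; simp [mem_cj]

theorem cj_sup (g : G) (P Q : Subgroup G) : cj g (P ⊔ Q) = cj g P ⊔ cj g Q :=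
  Subgroup.map_sup _ _ _

@[simp] theorem cj_bot (g : G) : cj g (⊥ : Subgroup G) = ⊥ := Subgroup.map_bot _

@[simp] theorem cj_top (g : G) : cj g (⊤ : Subgroup G) = ⊤ := by
  ext x; simp [mem_cj]

theorem cj_eq_of_mem {g : G} {P : Subgroup G} (h : g ∈ P) : cj g P = P := by
  ext x
  rw [mem_cj, P.mul_mem_cancel_right h, P.mul_mem_cancel_left (P.inv_mem h)]

theorem cj_le_of_mem {g : G} {P Γ : Subgroup G} (h : g ∈ Γ) (hP : P ≤ Γ) : cj g P ≤ Γ :=
  (cj_mono g hP).trans (cj_eq_of_mem h).le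

theorem mem_normalizer_iff_cj {g : G} {P : Subgroup G} :
    g ∈ Subgroup.normalizer (P : Set G) ↔ cj g P = P := by
  rw [Subgroup.mem_normalizer_iff'']
  constructor
  · intro h; ext x; rw [mem_cj]; exact (h x).symm
  · intro h x; rw [← mem_cj, h]

theorem cj_normalizer (g : G) (P : Subgroup G) :
    cj g (Subgroup.normalizer (P : Set G)) = Subgroup.normalizer (cj g P : Set G) := by
  ext x
  rw [mem_cj, mem_normalizer_iff_cj, mem_normalizer_iff_cj, cj_mul, cj_mul, ← cj_inj (g := g),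
    cj_cj_inv]

theorem cj_centralizer (g : G) (P : Subgroup G) :
    cj g (Subgroup.centralizer (P : Set G)) = Subgroup.centralizer (cj g P : Set G) := by
  ext x
  rw [mem_cj, Subgroup.mem_centralizer_iff, Subgroup.mem_centralizer_iff]
  constructor
  · intro h y hy
    have := h _ (mem_cj.1 hy)
    have h2 := congrArg (fun t => g * t * g⁻¹) this
    simpa [mul_assoc] using h2
  · intro h y hy
    have := h _ (mem_cj_of_mem g hy)
    have h2 := congrArg (fun t => g⁻¹ * t * g) this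
    simpa [mul_assoc] using h2

/-- `P ≃* g P g⁻¹`. -/
noncomputable def cjEquiv (g : G) (P : Subgroup G) : P ≃* cj g P :=
  P.equivMapOfInjective _ (MulAut.conj g).injective

theorem card_cj (g : G) (P : Subgroup G) : Nat.card (cj g P) = Nat.card P :=
  Nat.card_congr (cjEquiv g P).symm.toEquiv

theorem isPGroup_cj {p : ℕ} (g : G) {P : Subgroup G} (h : IsPGroup p P) : IsPGroup p (cj g P) :=
  h.map _

theorem relIndex_cj (g : G) (P Q : Subgroup G) : (cj g P).relIndex (cj g Q) = P.relIndex Q :=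
  Subgroup.relIndex_map_map_of_injective _ _ (MulAut.conj g).injective

end Conj

section Cochain
variable {G X M : Type*} [Group G] [MulAction G X] [AddCommGroup M]

/-- Point stabilisers are `p`-groups and every `p`-subgroup fixes a point (e.g. `X = G ⧸ S`). -/
structure PX (p : ℕ) (G X : Type*) [Group G] [MulAction G X] : Prop where
  stab : ∀ x : X, IsPGroup p (MulAction.stabilizer G x)
  fix : ∀ P : Subgroup G, IsPGroup p P → ∃ x : X, ∀ g ∈ P, g • x = x

/-- The pointwise stabiliser in `Γ` of a list of points. -/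
def St (Γ : Subgroup G) (l : List X) : Subgroup G where
  carrier := {g | g ∈ Γ ∧ ∀ x ∈ l, g • x = x}
  mul_mem' := fun {a b} ha hb => ⟨Γ.mul_mem ha.1 hb.1, fun x hx => by
    rw [mul_smul, hb.2 x hx, ha.2 x hx]⟩
  one_mem' := ⟨Γ.one_mem, fun x _ => one_smul _ _⟩
  inv_mem' := fun {a} ha => ⟨Γ.inv_mem ha.1, fun x hx => by
    rw [inv_smul_eq_iff, ha.2 x hx]⟩

/-- The translate of a list. -/
def tr (g : G) (l : List X) : List X := l.map (g • ·)

theorem mem_St {Γ : Subgroup G} {l : List X} {g : G} :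
    g ∈ St Γ l ↔ g ∈ Γ ∧ ∀ x ∈ l, g • x = x := Iff.rfl

theorem St_le (Γ : Subgroup G) (l : List X) : St Γ l ≤ Γ := fun _ h => h.1

@[simp] theorem St_nil (Γ : Subgroup G) : St Γ ([] : List X) = Γ := by
  ext g; simp [mem_St]

theorem St_anti (Γ : Subgroup G) {l l' : List X} (h : l' ⊆ l) : St Γ l ≤ St Γ l' :=
  fun _ hg => ⟨hg.1, fun x hx => hg.2 x (h hx)⟩

theorem St_mono {Γ Γ' : Subgroup G} (h : Γ' ≤ Γ) (l : List X) : St Γ' l ≤ St Γ l :=
  fun _ hg => ⟨h hg.1, hg.2⟩

theorem St_eq_inf {Γ Γ' : Subgroup G} (h : Γ' ≤ Γ) (l : List X) : St Γ' l = Γ' ⊓ St Γ l := by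
  ext g
  exact ⟨fun hg => ⟨hg.1, h hg.1, hg.2⟩, fun hg => ⟨hg.1, hg.2.2⟩⟩

@[simp] theorem tr_nil (g : G) : tr g ([] : List X) = [] := rfl
@[simp] theorem tr_cons (g : G) (x : X) (l : List X) : tr g (x :: l) = g • x :: tr g l := rfl
@[simp] theorem length_tr (g : G) (l : List X) : (tr g l).length = l.length := List.length_map _
@[simp] theorem tr_one (l : List X) : tr (1 : G) l = l := by simp [tr]
theorem tr_mul (g h : G) (l : List X) : tr (g * h) l = tr g (tr h l) := by
  simp [tr, mul_smul]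
@[simp] theorem tr_inv_tr (g : G) (l : List X) : tr g⁻¹ (tr g l) = l := by
  rw [← tr_mul, inv_mul_cancel, tr_one]
@[simp] theorem tr_tr_inv (g : G) (l : List X) : tr g (tr g⁻¹ l) = l := by
  rw [← tr_mul, mul_inv_cancel, tr_one]

theorem tr_eq_iff {g : G} {l : List X} : tr g l = l ↔ ∀ x ∈ l, g • x = x := by
  induction l with
  | nil => simp
  | cons a l ih => simp [ih]

theorem tr_eq_of_mem_St {Γ : Subgroup G} {l : List X} {g : G} (h : g ∈ St Γ l) : tr g l = l :=
  tr_eq_iff.2 h.2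

theorem St_tr {Γ : Subgroup G} {g : G} (hg : g ∈ Γ) (l : List X) :
    St Γ (tr g l) = cj g (St Γ l) := by
  ext u
  rw [mem_cj, mem_St, mem_St, Γ.mul_mem_cancel_right hg, Γ.mul_mem_cancel_left (Γ.inv_mem hg)]
  refine and_congr_right fun _ => ?_
  simp only [tr, List.mem_map, forall_exists_index, and_imp, forall_apply_eq_imp_iff₂, mul_smul,
    inv_smul_eq_iff]

theorem PX.isPGroup_St {p : ℕ} (h : PX p G X) (Γ : Subgroup G) {l : List X} (hl : l ≠ []) :
    IsPGroup p (St Γ l) := by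
  obtain ⟨x, hx⟩ := List.exists_mem_of_ne_nil l hl
  exact (h.stab x).to_le fun g hg => hg.2 x hx

theorem PX.isPGroup_St' {p : ℕ} (h : PX p G X) (Γ : Subgroup G) {l : List X} {n : ℕ}
    (hl : l.length = n + 1) : IsPGroup p (St Γ l) :=
  h.isPGroup_St Γ (by rintro rfl; simp at hl)

theorem PX.subgroup {p : ℕ} (h : PX p G X) (H : Subgroup G) : PX p H X where
  stab x := by
    have : MulAction.stabilizer H x = (MulAction.stabilizer G x).comap H.subtype := by
      ext g; rfl
    rw [this]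
    exact (h.stab x).comap_of_injective _ H.subtype_injective
  fix P hP := by
    obtain ⟨x, hx⟩ := h.fix (P.map H.subtype) (hP.map _)
    exact ⟨x, fun g hg => hx g ⟨g, hg, rfl⟩⟩

/-- The coboundary: `d f [x₀,…,xₙ] = ∑ (-1)^i f [x₀,…,x̂ᵢ,…,xₙ]`. -/
def d : (List X → M) → List X → M
  | _, [] => 0
  | f, x :: l => f l - d (fun l' => f (x :: l')) l

@[simp] theorem d_nil (f : List X → M) : d f [] = 0 := rfl
theorem d_cons (f : List X → M) (x : X) (l : List X) :
    d f (x :: l) = f l - d (fun l' => f (x :: l')) l := rfl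
theorem d_one (f : List X → M) (x : X) : d f [x] = f [] := by simp [d_cons]
theorem d_two (f : List X → M) (x y : X) : d f [x, y] = f [y] - f [x] := by simp [d_cons]
theorem d_three (f : List X → M) (x y z : X) :
    d f [x, y, z] = f [y, z] - f [x, z] + f [x, y] := by
  simp only [d_cons, d_nil]; abel

theorem d_map {M' : Type*} [AddCommGroup M'] (φ : M →+ M') (f : List X → M) (l : List X) :
    d (fun l' => φ (f l')) l = φ (d f l) := by
  induction l generalizing f with
  | nil => simp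
  | cons x l ih => rw [d_cons, d_cons, map_sub, ← ih]

theorem d_sub (f g : List X → M) : d (f - g) = d f - d g := by
  funext l
  induction l generalizing f g with
  | nil => simp
  | cons x l ih =>
    have := ih (fun l' => f (x :: l')) (fun l' => g (x :: l'))
    simp only [Pi.sub_apply, d_cons] at this ⊢
    rw [show (fun l' => f (x :: l') - g (x :: l')) =
      (fun l' => f (x :: l')) - (fun l' => g (x :: l')) from rfl, this]
    abel

@[simp] theorem d_zero : d (0 : List X → M) = 0 := by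
  have := d_sub (0 : List X → M) 0
  simpa using this

theorem d_neg (f : List X → M) : d (-f) = -d f := by
  have := d_sub 0 f
  simpa using this

theorem d_add (f g : List X → M) : d (f + g) = d f + d g := by
  have := d_sub f (-g)
  rw [d_neg] at this
  simpa using this

theorem d_sum {ι : Type*} (s : Finset ι) (f : ι → List X → M) :
    d (∑ i ∈ s, f i) = ∑ i ∈ s, d (f i) := by
  classical
  induction s using Finset.induction_on with
  | empty => simp
  | insert a s ha ih => rw [Finset.sum_insert ha, Finset.sum_insert ha, d_add, ih]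

theorem d_nsmul (c : ℕ) (f : List X → M) : d (c • f) = c • d f := by
  funext l
  exact d_map (nsmulAddMonoidHom c) f l

@[simp] theorem d_d (f : List X → M) : d (d f) = 0 := by
  funext l
  induction l generalizing f with
  | nil => simp
  | cons x l ih =>
    rw [d_cons, show (fun l' => d f (x :: l')) = f - d (fun l' => f (x :: l')) from rfl, d_sub]
    simp [ih]

/-- `d f l` lies in any subgroup containing the values of `f` on the faces of `l`. -/
theorem d_mem {f : List X → M} {l : List X} {W : AddSubgroup M}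
    (h : ∀ l', l'.Sublist l → l'.length + 1 = l.length → f l' ∈ W) : d f l ∈ W := by
  induction l generalizing f with
  | nil => exact W.zero_mem
  | cons x l ih =>
    rw [d_cons]
    exact W.sub_mem (h l (List.sublist_cons_self x l) rfl)
      (ih fun l' h1 h2 => h _ (h1.cons_cons x) (by simp [h2]))

theorem d_congr {f g : List X → M} {l : List X}
    (h : ∀ l', l'.Sublist l → l'.length + 1 = l.length → f l' = g l') : d f l = d g l := by
  have : d (f - g) l ∈ (⊥ : AddSubgroup M) := d_mem fun l' h1 h2 => by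
    simp [h l' h1 h2]
  rw [d_sub] at this
  exact sub_eq_zero.1 (AddSubgroup.mem_bot.1 this)

variable [DistribMulAction G M]

/-- `Γ`-equivariant cochains. -/
def Eqv (Γ : Subgroup G) (f : List X → M) : Prop := ∀ g ∈ Γ, ∀ l, f (tr g l) = g • f l

theorem d_tr (g : G) (f f' : List X → M) (h : ∀ l, f' (tr g l) = g • f l) (l : List X) :
    d f' (tr g l) = g • d f l := by
  induction l generalizing f f' with
  | nil => simp
  | cons x l ih =>
    rw [tr_cons, d_cons, d_cons, smul_sub, h,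
      ih (fun l' => f (x :: l')) (fun l' => f' (g • x :: l')) (fun l' => h (x :: l'))]

theorem Eqv.d {Γ : Subgroup G} {f : List X → M} (h : Eqv Γ f) : Eqv Γ (d f) :=
  fun g hg => d_tr g f f (h g hg)

theorem Eqv.zero (Γ : Subgroup G) : Eqv Γ (0 : List X → M) := fun g _ l => by simp
theorem Eqv.sub {Γ : Subgroup G} {f g : List X → M} (hf : Eqv Γ f) (hg : Eqv Γ g) :
    Eqv Γ (f - g) := fun u hu l => by simp [hf u hu l, hg u hu l, smul_sub]
theorem Eqv.add {Γ : Subgroup G} {f g : List X → M} (hf : Eqv Γ f) (hg : Eqv Γ g) :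
    Eqv Γ (f + g) := fun u hu l => by simp [hf u hu l, hg u hu l, smul_add]
theorem Eqv.mono {Γ Γ' : Subgroup G} {f : List X → M} (hf : Eqv Γ f) (h : Γ' ≤ Γ) : Eqv Γ' f :=
  fun u hu => hf u (h hu)
theorem Eqv.fix {Γ : Subgroup G} {f : List X → M} (hf : Eqv Γ f) {l : List X} {u : G}
    (hu : u ∈ St Γ l) : u • f l = f l := by
  rw [← hf u hu.1, tr_eq_of_mem_St hu]

/-- A `Γ`-invariant collection of subgroups of `Γ`, closed under overgroups in `Γ`. -/
structure Up (Γ : Subgroup G) (U : Set (Subgroup G)) : Prop where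
  up : ∀ P ∈ U, ∀ P', P ≤ P' → P' ≤ Γ → P' ∈ U
  inv : ∀ g ∈ Γ, ∀ P ∈ U, P ≤ Γ → cj g P ∈ U

/-- A coefficient system on `U`: antitone, equivariant, `V P` fixed pointwise by `P`. -/
structure WF (Γ : Subgroup G) (U : Set (Subgroup G)) (V : Subgroup G → AddSubgroup M) : Prop where
  anti : ∀ P ∈ U, ∀ P', P ≤ P' → P' ≤ Γ → V P' ≤ V P
  eqv : ∀ g ∈ Γ, ∀ P ∈ U, P ≤ Γ → ∀ m ∈ V P, g • m ∈ V (cj g P)
  fix : ∀ P ∈ U, P ≤ Γ → ∀ m ∈ V P, ∀ u ∈ P, u • m = m

/-- `N ≤ V` on the members of `U`. -/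
def Le (Γ : Subgroup G) (U : Set (Subgroup G)) (N V : Subgroup G → AddSubgroup M) : Prop :=
  ∀ P ∈ U, P ≤ Γ → N P ≤ V P

/-- On lists of length `n` with stabiliser in `U`, `f` has values in `V`. -/
def Co (Γ : Subgroup G) (U : Set (Subgroup G)) (n : ℕ) (V : Subgroup G → AddSubgroup M)
    (f : List X → M) : Prop :=
  ∀ l : List X, l.length = n → St Γ l ∈ U → f l ∈ V (St Γ l)

variable (X) in
/-- Vanishing of the `n`-th (augmented, for `n = 0`) higher limit of `V / N` on `U`. -/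
def Van (Γ : Subgroup G) (U : Set (Subgroup G)) (n : ℕ) (V N : Subgroup G → AddSubgroup M) : Prop :=
  ∀ f : List X → M, Eqv Γ f → Co Γ U (n + 1) V f → Co Γ U (n + 2) N (d f) →
    ∃ g : List X → M, Eqv Γ g ∧ Co Γ U n V g ∧ Co Γ U (n + 1) N (f - d g)

open Classical in
/-- `V` off `U`, `N` on `U`. -/
noncomputable def cut (U : Set (Subgroup G)) (V N : Subgroup G → AddSubgroup M) :
    Subgroup G → AddSubgroup M := fun P => if P ∈ U then N P else V P

theorem cut_of_mem {U : Set (Subgroup G)} {V N : Subgroup G → AddSubgroup M} {P : Subgroup G}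
    (h : P ∈ U) : cut U V N P = N P := by simp [cut, h]
theorem cut_of_not_mem {U : Set (Subgroup G)} {V N : Subgroup G → AddSubgroup M} {P : Subgroup G}
    (h : P ∉ U) : cut U V N P = V P := by simp [cut, h]

/-- The points of `D` fixed by `P`. -/
def fx (D : AddSubgroup M) (P : Subgroup G) : AddSubgroup M where
  carrier := {m | m ∈ D ∧ ∀ u ∈ P, u • m = m}
  add_mem' := fun {a b} ha hb => ⟨D.add_mem ha.1 hb.1, fun u hu => by
    rw [smul_add, ha.2 u hu, hb.2 u hu]⟩
  zero_mem' := ⟨D.zero_mem, fun u _ => smul_zero u⟩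
  neg_mem' := fun {a} ha => ⟨D.neg_mem ha.1, fun u hu => by rw [smul_neg, ha.2 u hu]⟩

theorem mem_fx {D : AddSubgroup M} {P : Subgroup G} {m : M} :
    m ∈ fx D P ↔ m ∈ D ∧ ∀ u ∈ P, u • m = m := Iff.rfl

theorem fx_le (D : AddSubgroup M) (P : Subgroup G) : fx D P ≤ D := fun _ h => h.1

theorem fx_anti (D : AddSubgroup M) {P Q : Subgroup G} (h : P ≤ Q) : fx D Q ≤ fx D P :=
  fun _ hm => ⟨hm.1, fun u hu => hm.2 u (h hu)⟩

/-- `D` is `Γ`-invariant. -/
def Inv (Γ : Subgroup G) (D : AddSubgroup M) : Prop := ∀ g ∈ Γ, ∀ m ∈ D, g • m ∈ D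

/-- `D` is killed by a power of `p`. -/
def Tors (p : ℕ) (D : AddSubgroup M) : Prop := ∃ k : ℕ, ∀ m ∈ D, p ^ k • m = 0

theorem smul_mem_fx {Γ P : Subgroup G} {D : AddSubgroup M} (hD : Inv Γ D) {g : G} (hg : g ∈ Γ)
    {m : M} (hm : m ∈ fx D P) : g • m ∈ fx D (cj g P) :=
  ⟨hD g hg m hm.1, fun u hu => by
    have := hm.2 _ (mem_cj.1 hu)
    rw [mul_smul, mul_smul, inv_smul_eq_iff] at this
    exact this⟩

theorem wf_fx {Γ : Subgroup G} {D : AddSubgroup M} (hD : Inv Γ D) (U : Set (Subgroup G)) :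
    WF Γ U (fx D) where
  anti _ _ _ h _ := fx_anti D h
  eqv _ hg _ _ _ _ hm := smul_mem_fx hD hg hm
  fix _ _ _ _ hm := hm.2

theorem wf_bot (Γ : Subgroup G) (U : Set (Subgroup G)) :
    WF Γ U (fun _ => (⊥ : AddSubgroup M)) where
  anti _ _ _ _ _ := le_rfl
  eqv g _ _ _ _ m hm := by simp [AddSubgroup.mem_bot.1 hm]
  fix _ _ _ m hm u _ := by simp [AddSubgroup.mem_bot.1 hm]

theorem up_ge {Γ T : Subgroup G} (hT : ∀ g ∈ Γ, cj g T = T) : Up Γ {P | T ≤ P} where
  up _ h _ h' _ := h.trans h'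
  inv g hg _ h _ := (hT g hg).symm.le.trans (cj_mono g h)

theorem up_empty (Γ : Subgroup G) : Up Γ ∅ where
  up _ h := h.elim
  inv _ _ _ h := h.elim

/-- The elements of `Γ` acting trivially on `D`. -/
def ker (Γ : Subgroup G) (D : AddSubgroup M) : Subgroup G where
  carrier := {g | g ∈ Γ ∧ ∀ m ∈ D, g • m = m}
  mul_mem' := fun {a b} ha hb => ⟨Γ.mul_mem ha.1 hb.1, fun x hx => by
    rw [mul_smul, hb.2 x hx, ha.2 x hx]⟩
  one_mem' := ⟨Γ.one_mem, fun x _ => one_smul _ _⟩
  inv_mem' := fun {a} ha => ⟨Γ.inv_mem ha.1, fun x hx => by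
    rw [inv_smul_eq_iff, ha.2 x hx]⟩

theorem mem_ker {Γ : Subgroup G} {D : AddSubgroup M} {g : G} :
    g ∈ ker Γ D ↔ g ∈ Γ ∧ ∀ m ∈ D, g • m = m := Iff.rfl

/-- A best offender on `D` (subgroups acting trivially are allowed). -/
def Best (D : AddSubgroup M) (A : Subgroup G) : Prop :=
  (∀ a ∈ A, ∀ b ∈ A, ∀ m ∈ D, a • b • m = b • a • m) ∧
    ∀ B ≤ A, Nat.card B * Nat.card (fx D B) ≤ Nat.card A * Nat.card (fx D A)

/-- `J(P, D)`: generated by the best offenders in `P`; contains `C_P(D)`. -/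
def Jo (D : AddSubgroup M) (P : Subgroup G) : Subgroup G := sSup {A | A ≤ P ∧ Best D A}

/-- Oliver's closure condition. -/
def JCl (Γ : Subgroup G) (D : AddSubgroup M) (U : Set (Subgroup G)) : Prop :=
  ∀ P' ∈ U, P' ≤ Γ → ∀ P, Jo D P' ≤ P → P ≤ P' → P ∈ U

/-- The overgroups of `Y` whose best offenders are not all in `Y`. -/
def Q0 (D : AddSubgroup M) (Y : Subgroup G) : Set (Subgroup G) := {Q | Y ≤ Q ∧ Jo D Q ≠ Y}

/-- General setup: `Y` a normal `p`-subgroup of `Γ` acting trivially on the finite `p`-group `D`. -/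
structure Gen (p : ℕ) (Γ Y : Subgroup G) (D : AddSubgroup M) : Prop where
  le : Y ≤ Γ
  nrm : ∀ g ∈ Γ, cj g Y = Y
  pY : IsPGroup p Y
  inv : Inv Γ D
  fin : Finite D
  tors : Tors p D
  triv : ∀ y ∈ Y, ∀ m ∈ D, y • m = m

/-- Reduced setup: moreover `Y` is the Sylow `p`-subgroup of `C_Γ(D)`. -/
structure Red (p : ℕ) (Γ Y : Subgroup G) (D : AddSubgroup M) : Prop extends Gen p Γ Y D where
  syl : ∀ R ≤ ker Γ D, IsPGroup p R → R ≤ Y

end Cochain

end Cfsg.Agent.GL
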