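import Cfsg.Agent.Lib.GL.Defs
import Mathlib.GroupTheory.SemidirectProduct
import Mathlib.Algebra.Group.Action.Pi
import Mathlib.GroupTheory.GroupAction.Quotient

/-! S5242, row GL-Ext (notes/GL.md): a stable central extension of a Sylow subgroup extends. -/

set_option autoImplicit false
set_option linter.unusedSectionVars false
set_option linter.unusedVariables false

namespace Cfsg.Agent.GL

universe u v

theorem ext_mem {Gb : Type v} [Group Gb] {R : Subgroup Gb} {r : Gb ⧸ R → Gb}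
    (hr : ∀ x, (r x : Gb ⧸ R) = x) (g : Gb) (x : Gb ⧸ R) : (r x)⁻¹ * g * r (g⁻¹ • x) ∈ R := by
  rw [mul_assoc, ← QuotientGroup.eq, hr, ← smul_eq_mul, ← MulAction.Quotient.smul_mk, hr,
    smul_inv_smul]

theorem ext_data {S : Type u} {Gb : Type v} [Group S] [Group Gb]
    (π0 : S →* Gb) (hA : π0.ker ≤ Subgroup.center S)
    (hst : ∀ g : Gb, ∃ φ : S → S,
      (∀ x y, g⁻¹ * π0 x * g ∈ π0.range → g⁻¹ * π0 y * g ∈ π0.range → φ (x * y) = φ x * φ y) ∧
      (∀ a ∈ π0.ker, φ a = a) ∧ ∀ x, g⁻¹ * π0 x * g ∈ π0.range → π0 (φ x) = g⁻¹ * π0 x * g) :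
    ∃ (r : Gb ⧸ π0.range → Gb) (ψ : S → Gb ⧸ π0.range → S), (∀ x, (r x : Gb ⧸ π0.range) = x) ∧
      (∀ s x, π0 (ψ s x) = (r x)⁻¹ * π0 s * r ((π0 s)⁻¹ • x)) ∧
      (∀ s t x, ψ (s * t) x = ψ s x * ψ t ((π0 s)⁻¹ • x)) ∧ ∀ a ∈ π0.ker, ∀ x, ψ a x = a := by
  choose φ h1 h2 h3 using hst
  let b : Gb ⧸ π0.range → Gb ⧸ π0.range := fun y =>
    (Quotient.mk (MulAction.orbitRel π0.range (Gb ⧸ π0.range)) y).out
  have hb : ∀ y, ∃ σ : S, π0 σ • b y = y := fun y => by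
    obtain ⟨⟨_, σ, rfl⟩, h⟩ := (MulAction.orbitRel π0.range (Gb ⧸ π0.range)).symm
      (Quotient.mk_out (s := MulAction.orbitRel π0.range (Gb ⧸ π0.range)) y)
    exact ⟨σ, h⟩
  have hb' : ∀ s y, b ((π0 s)⁻¹ • y) = b y := fun s y =>
    congrArg Quotient.out (Quotient.sound ⟨⟨(π0 s)⁻¹, s⁻¹, map_inv _ _⟩, rfl⟩)
  choose σ hσ using hb
  have hr : ∀ x, ((π0 (σ x) * (b x).out : Gb) : Gb ⧸ π0.range) = x := fun x => by
    rw [← smul_eq_mul, ← MulAction.Quotient.smul_mk, QuotientGroup.out_eq', hσ]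
  have he : ∀ s x, (b x).out⁻¹ * π0 ((σ x)⁻¹ * s * σ ((π0 s)⁻¹ • x)) * (b x).out =
      (π0 (σ x) * (b x).out)⁻¹ * π0 s * (π0 (σ ((π0 s)⁻¹ • x)) * (b ((π0 s)⁻¹ • x)).out) :=
    fun s x => by simp only [hb', map_mul, map_inv, mul_inv_rev, mul_assoc]
  have hm : ∀ s x, (b x).out⁻¹ * π0 ((σ x)⁻¹ * s * σ ((π0 s)⁻¹ • x)) * (b x).out ∈ π0.range :=
    fun s x => by rw [he]; exact ext_mem hr _ _
  refine ⟨fun x => π0 (σ x) * (b x).out,
    fun s x => φ (b x).out ((σ x)⁻¹ * s * σ ((π0 s)⁻¹ • x)), hr, fun s x => ?_, fun s t x => ?_,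
    fun a ha x => ?_⟩
  · rw [h3 _ _ (hm s x), he]
  · have := hm t ((π0 s)⁻¹ • x)
    rw [hb'] at this
    simp only [hb']
    rw [← h1 _ _ _ (hm s x) this]
    simp only [map_mul, mul_inv_rev, mul_smul, mul_assoc, mul_inv_cancel_left]
  · simp only [MonoidHom.mem_ker.1 ha, inv_one, one_smul]
    rw [Subgroup.mem_center_iff.1 (hA ha), inv_mul_cancel_right, h2 _ a ha]

/-- The subgroup of the wreath product lying over the standard embedding of `Gb`. -/
def extW {S : Type u} {Gb : Type v} [Group S] [Group Gb] (π0 : S →* Gb) (r : Gb ⧸ π0.range → Gb) :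
    Subgroup ((Gb ⧸ π0.range → S) ⋊[mulAutArrow] Gb) where
  carrier := {w | ∀ x, π0 (w.left x) = (r x)⁻¹ * w.right * r (w.right⁻¹ • x)}
  one_mem' x := by simp
  mul_mem' {a b} ha hb x := by
    show π0 (a.left x * b.left (a.right⁻¹ • x)) = _
    rw [map_mul, ha, hb]
    simp [mul_assoc, mul_smul]
  inv_mem' {a} ha x := by
    show π0 ((a.left (a.right⁻¹⁻¹ • x))⁻¹) = _
    rw [map_inv, ha]
    simp [mul_assoc]

theorem exists_ext {S : Type u} {Gb : Type v} [Group S] [Finite S] [Group Gb] [Finite Gb] {p : ℕ}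
    [Fact p.Prime] (hS : IsPGroup p S) (π0 : S →* Gb) (hA : π0.ker ≤ Subgroup.center S)
    (hi : ¬ p ∣ π0.range.index)
    (hst : ∀ g : Gb, ∃ φ : S → S,
      (∀ x y, g⁻¹ * π0 x * g ∈ π0.range → g⁻¹ * π0 y * g ∈ π0.range → φ (x * y) = φ x * φ y) ∧
      (∀ a ∈ π0.ker, φ a = a) ∧ ∀ x, g⁻¹ * π0 x * g ∈ π0.range → π0 (φ x) = g⁻¹ * π0 x * g) :
    ∃ (G : Type (max u v)) (_ : Group G) (_ : Finite G) (π : G →* Gb) (ι : S →* G),
      Function.Surjective π ∧ Function.Injective ι ∧ (∀ s, π (ι s) = π0 s) ∧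
        π.ker = π0.ker.map ι ∧ π.ker ≤ Subgroup.center G := by
  classical
  obtain ⟨r, ψ, hr, h1, h2, h3⟩ := ext_data π0 hA hst
  let _ : CommGroup π0.ker := { (inferInstance : Group π0.ker) with
    mul_comm := fun a b => Subtype.ext (Subgroup.mem_center_iff.1 (hA b.2) a) }
  let _ : Fintype (Gb ⧸ π0.range) := Fintype.ofFinite _
  have : Finite ((Gb ⧸ π0.range → S) ⋊[mulAutArrow] Gb) :=
    Finite.of_equiv _ SemidirectProduct.equivProd.symm
  let ρ : extW π0 r →* Gb := SemidirectProduct.rightHom.comp (extW π0 r).subtype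
  have hK : ∀ k ∈ ρ.ker, ∀ x, k.1.left x ∈ π0.ker := fun k hk x => by
    have e : k.1.right = 1 := hk
    rw [MonoidHom.mem_ker, k.2 x, e]
    simp
  let P : ρ.ker →* π0.ker := MonoidHom.mk' (fun k => ∏ x, ⟨k.1.1.left x, hK k.1 k.2 x⟩) fun a b => by
    rw [← Finset.prod_mul_distrib]
    refine Finset.prod_congr rfl fun x _ => Subtype.ext ?_
    have e : a.1.1.right = 1 := a.2
    show a.1.1.left x * b.1.1.left (a.1.1.right⁻¹ • x) = _
    rw [e, inv_one, one_smul]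
    rfl
  have hconj : ∀ (w : extW π0 r) (k : ρ.ker),
      P ⟨w * k * w⁻¹, (inferInstance : ρ.ker.Normal).conj_mem _ k.2 w⟩ = P k := fun w k => by
    refine (Fintype.prod_equiv (MulAction.toPerm w.1.right) _ _ fun x => Subtype.ext ?_).symm
    have e : k.1.1.right = 1 := k.2
    show k.1.1.left x = w.1.left (w.1.right • x) * k.1.1.left (w.1.right⁻¹ • w.1.right • x) *
      (w.1.left (w.1.right⁻¹⁻¹ • (w.1.right * k.1.1.right)⁻¹ • w.1.right • x))⁻¹
    rw [e, mul_one, inv_smul_smul, inv_inv, Subgroup.mem_center_iff.1 (hA (hK k.1 k.2 x)),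
      mul_inv_cancel_right]
  let N : Subgroup (extW π0 r) := P.ker.map ρ.ker.subtype
  have hN : ∀ k : ρ.ker, (k : extW π0 r) ∈ N ↔ P k = 1 := fun k =>
    ⟨fun ⟨k', h, e⟩ => Subtype.ext (p := (· ∈ ρ.ker)) e ▸ h, fun h => ⟨k, h, rfl⟩⟩
  have hNK : N ≤ ρ.ker := Subgroup.map_subtype_le _
  have : N.Normal := ⟨fun k hk w => by
    have := (hN ⟨k, hNK hk⟩).1 hk
    rw [← hconj w] at this
    exact (hN _).2 this⟩
  let ι : S →* extW π0 r := MonoidHom.mk' (fun s => ⟨⟨ψ s, π0 s⟩, h1 s⟩) fun s t =>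
    Subtype.ext (SemidirectProduct.ext (funext (h2 s t)) (map_mul π0 s t))
  have hι : ∀ a : π0.ker, P ⟨ι a, a.2⟩ = a ^ π0.range.index := fun a => by
    rw [Subgroup.index_eq_card, Nat.card_eq_fintype_card, ← Finset.card_univ, ← Finset.prod_const]
    exact Finset.prod_congr rfl fun x _ => Subtype.ext (h3 a a.2 x)
  have hpow : Function.Bijective fun a : π0.ker => a ^ π0.range.index := by
    obtain ⟨k, hk⟩ := (hS.to_subgroup π0.ker).exists_card_eq
    exact (powCoprime (hk ▸ ((Nat.Prime.coprime_iff_not_dvd Fact.out).2 hi).pow_left k)).bijective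
  have hker : (QuotientGroup.lift N ρ hNK).ker = π0.ker.map ((QuotientGroup.mk' N).comp ι) := by
    ext q
    constructor
    · induction q using QuotientGroup.induction_on with | H w => ?_
      intro hw
      obtain ⟨a, ha⟩ := hpow.2 (P ⟨w, hw⟩)
      refine ⟨a, a.2, QuotientGroup.eq.2 ((hN ((⟨ι a, a.2⟩ : ρ.ker)⁻¹ * ⟨w, hw⟩)).2 ?_)⟩
      rw [map_mul, map_inv, hι, inv_mul_eq_one]
      exact ha
    · rintro ⟨a, ha, rfl⟩
      exact ha
  refine ⟨extW π0 r ⧸ N, inferInstance, inferInstance, QuotientGroup.lift N ρ hNK,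
    (QuotientGroup.mk' N).comp ι, fun g => ?_, (injective_iff_map_eq_one _).2 fun s hs => ?_,
    fun _ => rfl, hker, fun q hq => Subgroup.mem_center_iff.2 fun q' => ?_⟩
  · choose s hs using fun x => ext_mem hr g x
    exact ⟨((⟨⟨s, g⟩, hs⟩ : extW π0 r) : extW π0 r ⧸ N), rfl⟩
  · have h4 : ι s ∈ N := (QuotientGroup.eq_one_iff _).1 hs
    have h5 : s ∈ π0.ker := hNK h4
    have h6 := (hN ⟨ι s, h5⟩).1 h4
    rw [hι ⟨s, h5⟩] at h6
    exact congrArg Subtype.val (hpow.1 (a₂ := 1) (h6.trans (one_pow _).symm))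
  · induction q using QuotientGroup.induction_on with | H k => ?_
    induction q' using QuotientGroup.induction_on with | H w => ?_
    have h4 := (hN ((⟨k, hq⟩ : ρ.ker)⁻¹ *
      ⟨w * k * w⁻¹, (inferInstance : ρ.ker.Normal).conj_mem _ hq w⟩)).2 (by
        rw [map_mul, map_inv, inv_mul_eq_one]; exact (hconj w ⟨k, hq⟩).symm)
    have h5 : (k : extW π0 r ⧸ N) = (w * k * w⁻¹ : extW π0 r) := QuotientGroup.eq.2 h4
    rw [QuotientGroup.mk_mul, QuotientGroup.mk_mul, QuotientGroup.mk_inv, eq_mul_inv_iff_mul_eq] at h5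
    exact h5.symm

end Cfsg.Agent.GL
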