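import Cfsg.Agent.Lib.GL.Core

/-! S5242 (notes/GL.md): the systems `Hom(P/A, A)`, `K(P)` inside the functions `G → Z(G)`. -/

set_option autoImplicit false
set_option linter.unusedSectionVars false
set_option linter.unusedVariables false

namespace Cfsg.Agent.GL

/-- Functions `G → Z(G)`, with the conjugation action. -/
def FA (G : Type*) [Group G] : Type _ := G → Additive (Subgroup.center G)

variable {G : Type*} [Group G]

open scoped IsMulCommutative in
instance : AddCommGroup (FA G) := inferInstanceAs (AddCommGroup (G → Additive (Subgroup.center G)))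

instance : DistribMulAction G (FA G) where
  smul g f := fun u => f (g⁻¹ * u * g)
  one_smul f := funext fun u => show f (1⁻¹ * u * 1) = f u by simp
  mul_smul g h f := funext fun u =>
    show f ((g * h)⁻¹ * u * (g * h)) = f (h⁻¹ * (g⁻¹ * u * g) * h) by simp [mul_assoc]
  smul_zero _ := rfl
  smul_add _ _ _ := rfl

/-- The value in `G`. -/
def FA.val (f : FA G) (u : G) : G := (Additive.toMul (f u) : Subgroup.center G)

theorem FA.val_mem (f : FA G) (u : G) : f.val u ∈ Subgroup.center G := (Additive.toMul (f u)).2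
theorem FA.val_comm (f : FA G) (u x : G) : x * f.val u = f.val u * x :=
  Subgroup.mem_center_iff.1 (f.val_mem u) x
@[simp] theorem FA.val_smul (g : G) (f : FA G) (u : G) : (g • f).val u = f.val (g⁻¹ * u * g) := rfl
@[simp] theorem FA.val_add (f f' : FA G) (u : G) : (f + f').val u = f.val u * f'.val u := rfl
@[simp] theorem FA.val_neg (f : FA G) (u : G) : (-f).val u = (f.val u)⁻¹ := rfl
@[simp] theorem FA.val_sub (f f' : FA G) (u : G) : (f - f').val u = f.val u * (f'.val u)⁻¹ := by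
  rw [sub_eq_add_neg, FA.val_add, FA.val_neg]
@[simp] theorem FA.val_zero (u : G) : (0 : FA G).val u = 1 := rfl
theorem FA.val_nsmul (k : ℕ) (f : FA G) (u : G) : (k • f).val u = f.val u ^ k := by
  induction k with
  | zero => simp
  | succ k ih => rw [succ_nsmul, FA.val_add, ih, pow_succ]
theorem FA.ext {f f' : FA G} (h : ∀ u, f.val u = f'.val u) : f = f' :=
  funext fun u => Additive.toMul.injective (Subtype.ext (h u))

open Classical in
/-- The function with the given central values (trivial at non-central values). -/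
noncomputable def FA.mk (μ : G → G) : FA G :=
  fun u => if h : μ u ∈ Subgroup.center G then Additive.ofMul ⟨μ u, h⟩ else 0

theorem FA.val_mk {μ : G → G} {u : G} (h : μ u ∈ Subgroup.center G) : (FA.mk μ).val u = μ u := by
  simp [FA.mk, FA.val, h]
theorem FA.val_mk' {μ : G → G} {u : G} (h : μ u ∉ Subgroup.center G) : (FA.mk μ).val u = 1 := by
  simp [FA.mk, FA.val, h]

/-- `P`-fixed functions vanishing on `P`. -/
def N1 (P : Subgroup G) : AddSubgroup (FA G) where
  carrier := {f | (∀ u ∈ P, u • f = f) ∧ ∀ u ∈ P, f.val u = 1}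
  add_mem' := fun {a b} ha hb => ⟨fun u hu => by rw [smul_add, ha.1 u hu, hb.1 u hu],
    fun u hu => by simp [ha.2 u hu, hb.2 u hu]⟩
  zero_mem' := ⟨fun u _ => smul_zero u, fun _ _ => rfl⟩
  neg_mem' := fun {a} ha => ⟨fun u hu => by rw [smul_neg, ha.1 u hu],
    fun u hu => by simp [ha.2 u hu]⟩

/-- `P`-fixed functions restricting to a homomorphism `P/A → A`. -/
def Hh (A P : Subgroup G) : AddSubgroup (FA G) where
  carrier := {f | (∀ u ∈ P, u • f = f) ∧ (∀ u ∈ P, ∀ v ∈ P, f.val (u * v) = f.val u * f.val v) ∧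
    (∀ u ∈ P, f.val u ∈ A) ∧ ∀ a ∈ A, f.val a = 1}
  add_mem' := fun {a b} ha hb => ⟨fun u hu => by rw [smul_add, ha.1 u hu, hb.1 u hu],
    fun u hu v hv => by
      simp only [FA.val_add, ha.2.1 u hu v hv, hb.2.1 u hu v hv, mul_assoc]
      rw [← mul_assoc (a.val v), b.val_comm u (a.val v), mul_assoc],
    fun u hu => A.mul_mem (ha.2.2.1 u hu) (hb.2.2.1 u hu),
    fun u hu => by simp [ha.2.2.2 u hu, hb.2.2.2 u hu]⟩
  zero_mem' := ⟨fun u _ => smul_zero u, fun _ _ _ _ => by simp, fun _ _ => A.one_mem, fun _ _ => rfl⟩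
  neg_mem' := fun {a} ha => ⟨fun u hu => by rw [smul_neg, ha.1 u hu],
    fun u hu v hv => by
      simp only [FA.val_neg, ha.2.1 u hu v hv]
      rw [a.val_comm v (a.val u), mul_inv_rev],
    fun u hu => A.inv_mem (ha.2.2.1 u hu), fun u hu => by simp [ha.2.2.2 u hu]⟩

/-- `P`-fixed functions restricting to `u ↦ [z, u] ∈ A` on `P`. -/
def Kk (A P : Subgroup G) : AddSubgroup (FA G) where
  carrier := {f | (∀ u ∈ P, u • f = f) ∧ (∀ u ∈ P, f.val u ∈ A) ∧
    ∃ z : G, ∀ u ∈ P, z * u * z⁻¹ = u * f.val u}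
  add_mem' := fun {a b} ha hb => by
    obtain ⟨h1, h2, z, h3⟩ := ha
    obtain ⟨h1', h2', z', h3'⟩ := hb
    refine ⟨fun u hu => by rw [smul_add, h1 u hu, h1' u hu],
      fun u hu => A.mul_mem (h2 u hu) (h2' u hu), z * z', fun u hu => ?_⟩
    calc z * z' * u * (z * z')⁻¹ = z * (z' * u * z'⁻¹) * z⁻¹ := by group
      _ = z * u * z⁻¹ * b.val u := by
        rw [h3' u hu, mul_assoc _ z⁻¹, b.val_comm u z⁻¹]; group
      _ = _ := by rw [h3 u hu, FA.val_add, mul_assoc]
  zero_mem' := ⟨fun u _ => smul_zero u, fun _ _ => A.one_mem, 1, fun u _ => by simp⟩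
  neg_mem' := fun {a} ha => by
    obtain ⟨h1, h2, z, h3⟩ := ha
    refine ⟨fun u hu => by rw [smul_neg, h1 u hu], fun u hu => A.inv_mem (h2 u hu), z⁻¹,
      fun u hu => ?_⟩
    have h4 : u = z⁻¹ * (u * a.val u) * z := by rw [← h3 u hu]; group
    rw [FA.val_neg, inv_inv, eq_mul_inv_iff_mul_eq, mul_assoc _ z, a.val_comm u z]
    conv_rhs => rw [h4]
    group

theorem smul_fix_cj {M : Type*} [AddCommGroup M] [DistribMulAction G M] {P : Subgroup G} {f : M}
    (h : ∀ u ∈ P, u • f = f) (g : G) : ∀ u ∈ cj g P, u • g • f = g • f := fun u hu => by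
  have := h _ (mem_cj.1 hu)
  rwa [mul_smul, mul_smul, inv_smul_eq_iff] at this

theorem wf_N1 (U : Set (Subgroup G)) : WF ⊤ U (N1 : Subgroup G → AddSubgroup (FA G)) where
  anti _ _ _ h _ _ hf := ⟨fun u hu => hf.1 u (h hu), fun u hu => hf.2 u (h hu)⟩
  eqv g _ _ _ _ _ hf := ⟨smul_fix_cj hf.1 g, fun _ hu => hf.2 _ (mem_cj.1 hu)⟩
  fix _ _ _ _ hf := hf.1

theorem wf_Hh {A : Subgroup G} (hA : A ≤ Subgroup.center G) (U : Set (Subgroup G)) :
    WF ⊤ U (Hh A) where
  anti _ _ _ h _ _ hf := ⟨fun u hu => hf.1 u (h hu), fun u hu v hv => hf.2.1 u (h hu) v (h hv),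
    fun u hu => hf.2.2.1 u (h hu), hf.2.2.2⟩
  eqv g _ _ _ _ f hf := ⟨smul_fix_cj hf.1 g, fun u hu v hv => by
      rw [FA.val_smul, FA.val_smul, FA.val_smul, ← hf.2.1 _ (mem_cj.1 hu) _ (mem_cj.1 hv)]
      congr 1; group,
    fun _ hu => hf.2.2.1 _ (mem_cj.1 hu), fun a ha => by
      rw [FA.val_smul, Subgroup.mem_center_iff.1 (hA ha) g⁻¹, inv_mul_cancel_right]
      exact hf.2.2.2 a ha⟩
  fix _ _ _ _ hf := hf.1

theorem wf_Kk (A : Subgroup G) (U : Set (Subgroup G)) : WF ⊤ U (Kk A) where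
  anti _ _ _ h _ _ hf := ⟨fun u hu => hf.1 u (h hu), fun u hu => hf.2.1 u (h hu),
    hf.2.2.imp fun _ hz u hu => hz u (h hu)⟩
  eqv g _ _ _ _ f hf := by
    obtain ⟨h1, h2, z, h3⟩ := hf
    refine ⟨smul_fix_cj h1 g, fun _ hu => h2 _ (mem_cj.1 hu), g * z * g⁻¹, fun u hu => ?_⟩
    calc g * z * g⁻¹ * u * (g * z * g⁻¹)⁻¹ = g * (z * (g⁻¹ * u * g) * z⁻¹) * g⁻¹ := by group
      _ = _ := by
        rw [h3 _ (mem_cj.1 hu), FA.val_smul, mul_assoc g, mul_assoc _ (f.val _),
          ← f.val_comm _ g⁻¹]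
        group
  fix _ _ _ _ hf := hf.1

theorem N1_le_Kk (A P : Subgroup G) : N1 P ≤ Kk A P := fun f hf =>
  ⟨hf.1, fun u hu => by rw [hf.2 u hu]; exact A.one_mem, 1, fun u hu => by simp [hf.2 u hu]⟩

theorem Kk_le_Hh {A P : Subgroup G} (hA : A ≤ Subgroup.center G) (hP : A ≤ P) : Kk A P ≤ Hh A P := by
  rintro f ⟨h1, h2, z, h3⟩
  refine ⟨h1, fun u hu v hv => ?_, h2, fun a ha => ?_⟩
  · have h4 := h3 _ (P.mul_mem hu hv)
    rw [show z * (u * v) * z⁻¹ = z * u * z⁻¹ * (z * v * z⁻¹) by group, h3 u hu, h3 v hv,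
      mul_assoc u, ← mul_assoc (f.val u), ← f.val_comm u v, mul_assoc u, mul_assoc v] at h4
    exact (mul_left_cancel (mul_left_cancel h4)).symm
  · have h4 := h3 a (hP ha)
    rw [Subgroup.mem_center_iff.1 (hA ha) z, mul_inv_cancel_right] at h4
    exact (mul_eq_left.1 h4.symm)

theorem up_A {A : Subgroup G} (hA : A ≤ Subgroup.center G) : Up ⊤ {P | A ≤ P} :=
  up_ge fun g _ => by
    ext x
    rw [mem_cj]
    constructor
    · intro h
      have := Subgroup.mem_center_iff.1 (hA h) g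
      have h2 : x = g⁻¹ * x * g := by
        calc x = g * (g⁻¹ * x * g) * g⁻¹ := by group
          _ = _ := by rw [this]; group
      rwa [h2]
    · intro h
      rwa [Subgroup.mem_center_iff.1 (hA h) g⁻¹, inv_mul_cancel_right]

end Cfsg.Agent.GL
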