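import Cfsg.Agent.Lib.GL.Lam

/-! S5242, row GL-LamG (notes/GL.md): `van_lam` for an arbitrary system, one class at a time. -/

set_option autoImplicit false
set_option linter.unusedSectionVars false
set_option linter.unusedVariables false

namespace Cfsg.Agent.GL

variable {G X M : Type*} [Group G] [Finite G] [MulAction G X] [AddCommGroup M] [DistribMulAction G M]
variable {p : ℕ} [Fact p.Prime] {Γ : Subgroup G} {U1 U2 : Set (Subgroup G)}
  {V N : Subgroup G → AddSubgroup M}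

/-- The action on a section `A / B` of invariant subgroups. -/
@[reducible] def quotAct {Γ : Subgroup G} {A B : AddSubgroup M} (hA : Inv Γ A) (hB : Inv Γ B) :
    DistribMulAction Γ (A ⧸ B.addSubgroupOf A) where
  smul g := QuotientAddGroup.map (B.addSubgroupOf A) (B.addSubgroupOf A)
    (((DistribSMul.toAddMonoidHom M (g : G)).comp A.subtype).codRestrict A fun m => hA g g.2 m m.2)
    fun m hm => hB g g.2 m hm
  one_smul q := by
    obtain ⟨m, rfl⟩ := QuotientAddGroup.mk_surjective q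
    exact congrArg QuotientAddGroup.mk (Subtype.ext (one_smul G (m : M)))
  mul_smul g h q := by
    obtain ⟨m, rfl⟩ := QuotientAddGroup.mk_surjective q
    exact congrArg QuotientAddGroup.mk (Subtype.ext (mul_smul (g : G) (h : G) (m : M)))
  smul_zero g := map_zero (QuotientAddGroup.map _ _ _ _)
  smul_add g := map_add (QuotientAddGroup.map _ _ _ _)

theorem cj_subgroupOf {H : Subgroup G} (g : H) (P : Subgroup G) :
    cj g (P.subgroupOf H) = (cj (g : G) P).subgroupOf H := by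
  ext x
  rw [mem_cj, Subgroup.mem_subgroupOf, Subgroup.mem_subgroupOf, mem_cj]
  rfl

theorem subgroupOf_le_iff {H P Q : Subgroup G} (hP : P ≤ H) :
    P.subgroupOf H ≤ Q.subgroupOf H ↔ P ≤ Q :=
  ⟨fun h x hx => h (show (⟨x, hP hx⟩ : H) ∈ P.subgroupOf H from hx), fun h _ hx => h hx⟩

theorem van_lamG (hX : PX p G X) (h1 : Up Γ U1) (h2 : Up Γ U2) (hV : WF Γ U1 V) (hN : WF Γ U1 N)
    (hle : Le Γ U1 N V)
    (h : ∀ Q ∈ U1, Q ∉ U2 → Q ≤ Γ → IsPGroup p Q → (∃ k : ℕ, ∀ m ∈ V Q, p ^ k • m ∈ N Q) ∧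
      ∃ K ≤ Γ, (∀ g ∈ Γ, cj g Q = Q → cj g K = K) ∧
        (∀ k ∈ K, cj k Q = Q → ∃ j : ℕ, ∀ m ∈ V Q, k ^ p ^ j • m - m ∈ N Q) ∧
        ∃ R ≤ K, IsPGroup p R ∧ Q ⊓ K < R) (n : ℕ) :
    Van X Γ U1 (n + 1) (cut U2 V N) N := by
  classical
  refine van_loc hX h1 h2 hV hN hle (fun P => Nat.card P) id
    (fun g _ P _ => card_cj g P) (fun _ _ _ _ => rfl) (fun _ _ a _ => Subgroup.card_le_of_le a)
    (fun _ _ _ _ a _ _ e => Subgroup.eq_of_le_of_card_ge a e.ge) n fun Q a b c pQ => ?_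
  refine ⟨{P | Q ≤ P}, fun P hP e _ => ⟨h1.up _ a _ hP e, Subgroup.card_le_of_le hP⟩,
    fun Q0 P _ _ _ _ e5 e6 _ _ => e5.ge.trans e6, ?_⟩
  obtain ⟨⟨k, hk⟩, K, hK, hKn, hKp, R, r1, r2, r3⟩ := h Q a b c pQ
  obtain ⟨R', s1, s2, s3⟩ := nonsyl_normalizer pQ (fun t ht => hKn t (c ht) (cj_eq_of_mem ht)) r1 r2 r3
  simp only [id]
  set Γ' := Γ ⊓ Subgroup.normalizer (Q : Set G)
  set K' := K ⊓ Subgroup.normalizer (Q : Set G)
  have hQ : Q ≤ Γ' := le_inf c Subgroup.le_normalizer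
  have hQn : ∀ g ∈ Γ', cj g Q = Q := fun g hg => mem_normalizer_iff_cj.1 hg.2
  have hK' : K' ≤ Γ' := inf_le_inf_right _ hK
  have iV : Inv Γ' (V Q) := fun g hg m hm => hQn g hg ▸ hV.eqv g hg.1 Q a c m hm
  have iN : Inv Γ' (N Q) := fun g hg m hm => hQn g hg ▸ hN.eqv g hg.1 Q a c m hm
  letI := quotAct iV iN
  have hsm : ∀ (g : Γ') (m : V Q), g • (m : V Q ⧸ (N Q).addSubgroupOf (V Q)) =
      ((⟨(g : G) • (m : M), iV g g.2 m m.2⟩ : V Q) : V Q ⧸ (N Q).addSubgroupOf (V Q)) :=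
    fun _ _ => rfl
  have hsub : ∀ P ∈ {P | Q ≤ P}, P ≤ Γ' → P ∈ U1 := fun P hP e => h1.up _ a _ hP (e.trans inf_le_left)
  have hU := up_ge hQn
  have hU2 : Up Γ' {P | P ∈ U2 ∨ Nat.card Q < Nat.card P} :=
    ⟨fun P hP P' a b => hP.imp (h2.up P · P' a (b.trans inf_le_left))
      (·.trans_le (Subgroup.card_le_of_le a)),
      fun g hg P hP a => hP.imp (h2.inv g hg.1 P · (a.trans inf_le_left))
        (fun b => (card_cj g P).symm ▸ b)⟩
  have hV' := (hV.mono_group (Γ' := Γ') inf_le_left).mono hsub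
  have hN' := (hN.mono_group (Γ' := Γ') inf_le_left).mono hsub
  have hQn' : ∀ g ∈ (⊤ : Subgroup Γ'), cj g (Q.subgroupOf Γ') = Q.subgroupOf Γ' := fun g _ => by
    rw [cj_subgroupOf, hQn g g.2]
  have hW := up_ge hQn'
  have hW2 : Up (⊤ : Subgroup Γ') {P | ¬ P ≤ Q.subgroupOf Γ'} :=
    ⟨fun P hP P' a _ e => hP (a.trans e), fun g hg P hP _ e => hP (by
      rwa [← hQn' g hg, cj_le_cj] at e)⟩
  have iT : Inv (⊤ : Subgroup Γ') (⊤ : AddSubgroup (V Q ⧸ (N Q).addSubgroupOf (V Q))) :=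
    fun _ _ _ _ => trivial
  let R0 : AddSubgroup (M × (V Q ⧸ (N Q).addSubgroupOf (V Q))) :=
    ((V Q).subtype.prod (QuotientAddGroup.mk' _)).range
  have hR0 : ∀ m m', (m, m') ∈ R0 ↔ ∃ h : m ∈ V Q, ((⟨m, h⟩ : V Q) : _ ⧸ _) = m' := fun m m' =>
    ⟨by rintro ⟨v, hv⟩; obtain ⟨rfl, rfl⟩ := Prod.mk.inj hv; exact ⟨v.2, rfl⟩,
      fun ⟨h, e⟩ => ⟨⟨m, h⟩, Prod.ext rfl e⟩⟩
  have c1 : cut {P | P ∈ U2 ∨ Nat.card Q < Nat.card P} V N Q = V Q :=
    cut_of_not_mem fun h' => h'.elim b (lt_irrefl _)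
  have c2 : ∀ P, Q ≤ P → P ≠ Q → cut {P | P ∈ U2 ∨ Nat.card Q < Nat.card P} V N P = N P :=
    fun P e e' => cut_of_mem (Or.inr (card_lt_of_lt (lt_of_le_of_ne e e'.symm)))
  have c3 : cut {P | ¬ P ≤ Q.subgroupOf Γ'} (fx (⊤ : AddSubgroup (V Q ⧸ (N Q).addSubgroupOf (V Q))))
      (fun _ => ⊥) (Q.subgroupOf Γ') = ⊤ := by
    rw [cut_of_not_mem (show _ ∉ {P | ¬ P ≤ Q.subgroupOf Γ'} from fun h' => h' le_rfl), eq_top_iff]
    rintro q -
    obtain ⟨m, rfl⟩ := QuotientAddGroup.mk_surjective q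
    exact ⟨trivial, fun u hu => by
      rw [hsm]; congr 1; exact Subtype.ext (hV.fix Q a c m m.2 u hu)⟩
  have c4 : ∀ l : List X, Q ≤ St Γ' l → St Γ' l ≠ Q →
      cut {P | ¬ P ≤ Q.subgroupOf Γ'} (fx (⊤ : AddSubgroup (V Q ⧸ (N Q).addSubgroupOf (V Q))))
      (fun _ => ⊥) (St ⊤ l) = ⊥ := fun l e e' => cut_of_mem fun h' => e' (le_antisymm
        ((subgroupOf_le_iff (St_le _ _)).1 (St_subtype Γ' l ▸ h')) e)
  refine (Iso.van_iff (R := fun l => if St Γ' l = Q then R0 else (N (St Γ' l)).prod ⊥)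
    (corr_subtype X Γ') ⟨fun l _ => ?_, fun l l' _ s hl => ?_, ?_, fun l _ hl m hm => ?_,
      fun l _ hl m' hm' => ?_, fun l _ hl m m' hm => ?_⟩ hU hW
    (wf_cut hU hU2 hV' hN' fun P hP e => hle P (hsub P hP e) (e.trans inf_le_left))
    (wf_cut hW hW2 (wf_fx iT _) (wf_bot _ _) fun _ _ _ => bot_le)).2
    (van_lam (hX.subgroup Γ') hW hW2 iT ⟨k, fun q _ => ?_⟩ (K := K'.subgroupOf Γ') le_top
      (fun g _ => ?_) (fun g hg => ?_) (fun P e1 e2 _ _ => ?_) _)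
  · rw [St_subtype]
    exact (subgroupOf_le_iff hQ).symm
  · have hll : St Γ' l ≤ St Γ' l' := St_anti _ s.subset
    by_cases e' : St Γ' l' = Q
    · rw [if_pos e', if_pos (le_antisymm (hll.trans e'.le) hl)]
    · rw [if_neg e']
      by_cases e : St Γ' l = Q
      · rw [if_pos e]
        rintro ⟨m, m'⟩ ⟨a1, a2⟩
        have a3 : m ∈ N Q := hN'.anti Q (le_refl Q) _ (hl.trans hll) (St_le _ _) a1
        exact (hR0 _ _).2 ⟨hle Q a c a3,
          ((QuotientAddGroup.eq_zero_iff (⟨m, hle Q a c a3⟩ : V Q)).2 a3).trans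
            (AddSubgroup.mem_bot.1 a2).symm⟩
      · rw [if_neg e]
        exact AddSubgroup.prod_mono (hN'.anti _ hl _ hll (St_le _ _)) le_rfl
  · rintro _ hg g - rfl l _ hl m m' hm
    have e0 : St Γ' (tr (g : G) l) = Q ↔ St Γ' l = Q := by
      rw [St_tr hg, ← cj_inj (g := (g : G)) (P := St Γ' l), hQn g hg]
    by_cases e : St Γ' l = Q
    · rw [if_pos e] at hm
      rw [if_pos (e0.2 e)]
      obtain ⟨h', rfl⟩ := (hR0 _ _).1 hm
      exact (hR0 _ _).2 ⟨iV g hg m h', (hsm g ⟨m, h'⟩).symm⟩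
    · rw [if_neg e] at hm
      rw [if_neg (fun h' => e (e0.1 h')), St_tr hg]
      exact ⟨hN'.eqv g hg _ hl (St_le _ _) _ hm.1, by
        rw [show m' = 0 from hm.2, smul_zero]; exact AddSubgroup.zero_mem _⟩
  · by_cases e : St Γ' l = Q
    · rw [e, c1] at hm
      rw [if_pos e, St_subtype, e, c3]
      exact ⟨_, trivial, (hR0 _ _).2 ⟨hm, rfl⟩⟩
    · rw [c2 _ hl e] at hm
      rw [if_neg e]
      exact ⟨0, AddSubgroup.zero_mem _, hm, AddSubgroup.zero_mem _⟩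
  · by_cases e : St Γ' l = Q
    · obtain ⟨m, rfl⟩ := QuotientAddGroup.mk_surjective m'
      rw [if_pos e, e, c1]
      exact ⟨m, m.2, (hR0 _ _).2 ⟨m.2, rfl⟩⟩
    · rw [c4 l hl e] at hm'
      rw [if_neg e]
      exact ⟨0, AddSubgroup.zero_mem _, AddSubgroup.zero_mem _, hm'⟩
  · by_cases e : St Γ' l = Q
    · rw [if_pos e] at hm
      obtain ⟨h', rfl⟩ := (hR0 _ _).1 hm
      rw [e, AddSubgroup.mem_bot, QuotientAddGroup.eq_zero_iff]
      rfl
    · rw [if_neg e] at hm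
      exact ⟨fun _ => hm.2, fun _ => hm.1⟩
  · obtain ⟨m, rfl⟩ := QuotientAddGroup.mk_surjective q
    rw [← QuotientAddGroup.mk_nsmul, QuotientAddGroup.eq_zero_iff]
    exact hk m m.2
  · rw [cj_subgroupOf, cj_inf, hKn g g.2.1 (hQn g g.2), cj_eq_of_mem g.2.2]
  · obtain ⟨j, hj⟩ := hKp g hg.1 (hQn g g.2)
    refine ⟨j, fun q _ => ?_⟩
    obtain ⟨m, rfl⟩ := QuotientAddGroup.mk_surjective q
    rw [hsm, ← sub_eq_zero, ← QuotientAddGroup.mk_sub, QuotientAddGroup.eq_zero_iff]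
    exact hj m m.2
  · obtain rfl : P = Q.subgroupOf Γ' := le_antisymm (not_not.1 e2) e1
    refine ⟨R'.subgroupOf Γ', (subgroupOf_le_iff (s1.trans hK')).2 s1,
      s2.comap_of_injective _ Γ'.subtype_injective, ?_⟩
    exact lt_of_le_of_ne (fun _ hx => s3.le hx) fun e =>
      s3.not_ge ((subgroupOf_le_iff (Q := Q ⊓ K') (s1.trans hK')).1 e.ge)

end Cfsg.Agent.GL
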