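import Cfsg.Agent.Lib.GL.Loc
import Cfsg.Agent.Lib.GL.Syl

/-! S5242, row GL-Lam (notes/GL.md): acyclicity of fixed point systems, vanishing of the Λ-functors. -/

set_option autoImplicit false
set_option linter.unusedSectionVars false
set_option linter.unusedVariables false

namespace Cfsg.Agent.GL

variable {G X M : Type*} [Group G] [Finite G] [MulAction G X] [AddCommGroup M] [DistribMulAction G M]
variable {p : ℕ} [Fact p.Prime] {Γ : Subgroup G} {U U1 U2 : Set (Subgroup G)} {D : AddSubgroup M}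

theorem card_lt_of_lt {P Q : Subgroup G} (h : P < Q) : Nat.card P < Nat.card Q :=
  lt_of_le_of_ne (Subgroup.card_le_of_le h.le) fun e =>
    h.ne (Subgroup.eq_of_le_of_card_ge h.le e.ge)

theorem van_acyc (hX : PX p G X) {T : Subgroup G} (hT : T ≤ Γ) (hTn : ∀ g ∈ Γ, cj g T = T)
    (pT : IsPGroup p T) (hD : Inv Γ D) (tD : Tors p D) (n : ℕ) :
    Van X Γ {P | T ≤ P} n (fx D) (fun _ => ⊥) := by
  classical
  intro f hf hf1 hf2
  obtain ⟨S, -, hS, pS, sS⟩ := exists_syl (bot_le : ⊥ ≤ Γ) (p := p) IsPGroup.of_bot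
  obtain ⟨x0, hx0⟩ := hX.fix S pS
  have hst : St Γ [x0] = S := eq_of_syl sS (fun g hg => ⟨hS hg, by simpa using hx0 g hg⟩) (St_le _ _)
    (hX.isPGroup_St Γ (by simp))
  have hTS : T ≤ S := le_syl_of_normal hS pS sS hT pT hTn
  have hfin : (MulAction.orbit Γ x0).Finite := Set.finite_range _
  let O : Finset X := hfin.toFinset
  have hO : ∀ x, x ∈ O ↔ ∃ g ∈ Γ, g • x0 = x := fun x => by
    rw [Set.Finite.mem_toFinset, MulAction.mem_orbit_iff]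
    exact ⟨fun ⟨g, hg⟩ => ⟨g, g.2, hg⟩, fun ⟨g, a, b⟩ => ⟨⟨g, a⟩, b⟩⟩
  have hcard : ¬ p ∣ O.card := by
    have e : MulAction.stabilizer Γ x0 = S.subgroupOf Γ := by
      ext g
      rw [← hst, Subgroup.mem_subgroupOf, mem_St]
      simp only [g.2, List.mem_singleton, forall_eq, true_and]
      rfl
    have := MulAction.index_stabilizer Γ x0
    rw [e, Set.ncard_eq_toFinset_card _ hfin] at this
    exact this ▸ sS
  obtain ⟨c, hc⟩ := exists_inv_tors tD hcard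
  have hTO : ∀ x ∈ O, ∀ l : List X, T ≤ St Γ l → T ≤ St Γ (x :: l) := by
    intro x hx l hl u hu
    obtain ⟨g, hg, rfl⟩ := (hO x).1 hx
    refine ⟨hT hu, List.forall_mem_cons.2 ⟨?_, (hl hu).2⟩⟩
    have : u ∈ St Γ (tr g [x0]) := by
      rw [St_tr hg, hst]; exact cj_mono g hTS ((hTn g hg).symm ▸ hu)
    exact this.2 _ (by simp)
  have hg : Eqv Γ (c • ∑ x ∈ O, fun l => f (x :: l)) := by
    intro γ hγ l
    simp only [Pi.smul_apply, Finset.sum_apply]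
    rw [smul_comm γ c]
    congr 1
    rw [Finset.smul_sum]
    symm
    refine Finset.sum_bij (fun x _ => γ • x) (fun x hx => ?_) (fun _ _ _ _ h => smul_left_cancel γ h)
      (fun x hx => ⟨γ⁻¹ • x, ?_, by simp⟩) (fun x _ => ?_)
    · obtain ⟨g, hg, rfl⟩ := (hO x).1 hx
      exact (hO _).2 ⟨γ * g, mul_mem hγ hg, mul_smul _ _ _⟩
    · obtain ⟨g, hg, rfl⟩ := (hO x).1 hx
      exact (hO _).2 ⟨γ⁻¹ * g, mul_mem (inv_mem hγ) hg, mul_smul _ _ _⟩
    · exact (hf γ hγ (x :: l)).symm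
  refine ⟨_, hg, fun l hl hlU => ⟨?_, fun u hu => hg.fix hu⟩, fun l hl hlU => ?_⟩
  · simp only [Pi.smul_apply, Finset.sum_apply]
    exact D.nsmul_mem (D.sum_mem fun x hx => (hf1 (x :: l) (by simp [hl]) (hTO x hx l hlU)).1) c
  · rw [AddSubgroup.mem_bot, Pi.sub_apply, d_nsmul, d_sum, Pi.smul_apply, Finset.sum_apply,
      Finset.sum_congr rfl (g := fun _ => f l) (fun x hx => by
        have := hf2 (x :: l) (by simp [hl]) (hTO x hx l hlU)
        rw [AddSubgroup.mem_bot, d_cons, sub_eq_zero] at this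
        exact this.symm), Finset.sum_const, ← mul_nsmul', hc _ (hf1 l hl hlU).1, sub_self]

/-- Non-Sylow intersections stay non-Sylow in the normaliser. -/
theorem nonsyl_normalizer {T K R : Subgroup G} (pT : IsPGroup p T) (hTK : ∀ t ∈ T, cj t K = K)
    (hR : R ≤ K) (pR : IsPGroup p R) (hlt : T ⊓ K < R) :
    ∃ R' ≤ K ⊓ Subgroup.normalizer (T : Set G), IsPGroup p R' ∧
      T ⊓ (K ⊓ Subgroup.normalizer (T : Set G)) < R' := by
  have hn : ∀ h ∈ T ⊔ K, cj h K = K := fun h hh => mem_normalizer_iff_cj.1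
    ((sup_le (fun t ht => mem_normalizer_iff_cj.2 (hTK t ht)) K.le_normalizer) hh)
  obtain ⟨S, a, b, pS, sS⟩ := exists_syl (le_sup_left : T ≤ T ⊔ K) pT
  have h1 := syl_inf b pS sS le_sup_right hn
  have hlt' : T ⊓ K < S ⊓ K := lt_of_le_of_ne (inf_le_inf_right K a) fun e =>
    h1 (e ▸ dvd_of_lt hlt hR pR)
  have hTS : T < S := lt_of_le_of_ne a fun e => hlt'.ne (e ▸ rfl)
  obtain ⟨g, hg, g1, g2⟩ := exists_normalizer_of_lt pS hTS
  have : (g : G) ∈ ((T ⊔ K : Subgroup G) : Set G) := b hg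
  rw [Subgroup.coe_mul_of_left_le_normalizer_right T K
    (fun t ht => mem_normalizer_iff_cj.2 (hTK t ht))] at this
  obtain ⟨t, ht, k, hk, rfl⟩ := this
  have hkS : k ∈ S := (S.mul_mem_cancel_left (a ht)).1 hg
  have hkN : k ∈ Subgroup.normalizer (T : Set G) :=
    (Subgroup.mul_mem_cancel_left _ (T.le_normalizer ht)).1 (mem_normalizer_iff_cj.2 g1)
  refine ⟨S ⊓ (K ⊓ Subgroup.normalizer (T : Set G)), inf_le_right, pS.to_inf_left,
    lt_of_le_of_ne (inf_le_inf_right _ a) fun e => g2 (mul_mem ht ?_)⟩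
  have : k ∈ T ⊓ (K ⊓ Subgroup.normalizer (T : Set G)) := e ▸ ⟨hkS, hk, hkN⟩
  exact this.1

theorem cj_ker_self (hD : Inv Γ D) {g : G} (hg : g ∈ Γ) : cj g (ker Γ D) = ker Γ D := by
  have key : ∀ g ∈ Γ, ∀ u ∈ ker Γ D, g⁻¹ * u * g ∈ ker Γ D := fun g hg u hu =>
    ⟨mul_mem (mul_mem (inv_mem hg) hu.1) hg, fun m hm => by
      rw [mul_smul, mul_smul, hu.2 _ (hD g hg m hm), inv_smul_smul]⟩
  ext u
  rw [mem_cj]
  exact ⟨fun h => by simpa [mul_assoc] using key _ (inv_mem hg) _ h, key g hg u⟩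

/-- If `K` acts on `D` through a `p`-group, a Sylow subgroup of `K` has the same fixed points. -/
theorem fix_of_syl {K K0 : Subgroup G} (hD : Inv K D) (h0 : K0 ≤ K) (s0 : ¬ p ∣ K0.relIndex K)
    (hKp : ∀ k ∈ K, ∃ j : ℕ, ∀ m ∈ D, k ^ p ^ j • m = m) {m : M} (hm : m ∈ fx D K0) :
    m ∈ fx D K := by
  let H : Subgroup G := K ⊓ MulAction.stabilizer G m
  have hH : K0 ≤ H := fun u hu => ⟨h0 hu, hm.2 u hu⟩
  have h1 := (syl_of_le s0 hH inf_le_left).2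
  have hn : ((ker K D).subgroupOf K).Normal := ⟨fun u hu g => by
    have := mem_cj_of_mem (g : G) (Subgroup.mem_subgroupOf.1 hu)
    rwa [cj_ker_self hD g.2] at this⟩
  have hp : IsPGroup p (K ⧸ (ker K D).subgroupOf K) := fun q => by
    obtain ⟨k, rfl⟩ := QuotientGroup.mk_surjective q
    obtain ⟨j, hj⟩ := hKp k k.2
    exact ⟨j, by rw [← QuotientGroup.mk_pow, QuotientGroup.eq_one_iff]; exact ⟨K.pow_mem k.2 _, hj⟩⟩
  obtain ⟨a, ha⟩ := IsPGroup.iff_card.1 hp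
  have h2 : H.relIndex K ∣ p ^ a := ha ▸ Subgroup.relIndex_dvd_of_le_left K
    (show ker K D ≤ H from fun u hu => ⟨hu.1, hu.2 m hm.1⟩)
  obtain ⟨i, -, hi⟩ := (Nat.dvd_prime_pow Fact.out).1 h2
  cases i with
  | zero => exact ⟨hm.1, fun u hu => (Subgroup.relIndex_eq_one.1 hi hu).2⟩
  | succ i => exact (h1 (hi ▸ Dvd.intro_left _ (pow_succ p i).symm)).elim

theorem up_syl {T K : Subgroup G} (hTn : ∀ g ∈ Γ, cj g T = T) (hKn : ∀ g ∈ Γ, cj g K = K) :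
    Up Γ {Q | T ≤ Q ∧ ¬ p ∣ (Q ⊓ K).relIndex K} where
  up P hP P' a _ := ⟨hP.1.trans a, (syl_of_le hP.2 (inf_le_inf_right K a) inf_le_right).2⟩
  inv g hg P hP _ := ⟨(hTn g hg).symm.le.trans (cj_mono g hP.1), by
    rw [← hKn g hg, ← cj_inf, relIndex_cj]; exact hP.2⟩

/-- The members of `U` meeting `K` in a Sylow subgroup. -/
theorem van_syl (hX : PX p G X) {T K : Subgroup G} (hT : T ≤ Γ) (hTn : ∀ g ∈ Γ, cj g T = T)
    (pT : IsPGroup p T) (hD : Inv Γ D) (tD : Tors p D) (hK : K ≤ Γ) (hKn : ∀ g ∈ Γ, cj g K = K)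
    (hKp : ∀ k ∈ K, ∃ j : ℕ, ∀ m ∈ D, k ^ p ^ j • m = m) (n : ℕ) :
    Van X Γ {Q | T ≤ Q ∧ ¬ p ∣ (Q ⊓ K).relIndex K} n (fx D) (fun _ => ⊥) := by
  have hU := up_syl (p := p) hTn hKn
  cases n with
  | zero =>
    intro f hf hf1 hf2
    obtain ⟨K0, -, a, pK, sK⟩ := exists_syl (bot_le : ⊥ ≤ K) (p := p) IsPGroup.of_bot
    obtain ⟨x0, hx0⟩ := hX.fix (T ⊔ K0) (isPGroup_sup pT pK fun g hg => hTn g (hK (a hg)))
    have hle : T ⊔ K0 ≤ Γ := sup_le hT (a.trans hK)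
    have hmem : ∀ Q, T ⊔ K0 ≤ Q → Q ∈ {Q | T ≤ Q ∧ ¬ p ∣ (Q ⊓ K).relIndex K} := fun Q h =>
      ⟨le_sup_left.trans h, (syl_of_le sK (le_inf (le_sup_right.trans h) a) inf_le_right).2⟩
    have h0 : T ⊔ K0 ≤ St Γ [x0] := fun g hg => ⟨hle hg, by simpa using hx0 g hg⟩
    have hm : f [x0] ∈ fx D K := fix_of_syl (fun g hg => hD g (hK hg)) a sK hKp
      (fx_anti D (le_sup_right.trans h0) (hf1 _ rfl (hmem _ h0)))
    have key : ∀ x, St Γ [x] ∈ {Q | T ≤ Q ∧ ¬ p ∣ (Q ⊓ K).relIndex K} → f [x] = f [x0] := by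
      intro x hx
      obtain ⟨k, hk, e⟩ := exists_cj_le inf_le_right
        (hX.isPGroup_St Γ (l := [x]) (by simp)).to_inf_left hx.2 a pK
      have h1 : T ⊔ K0 ≤ St Γ (tr k⁻¹ [x]) := by
        rw [St_tr (inv_mem (hK hk)), ← cj_le_iff, cj_sup, hTn k (hK hk)]
        exact sup_le hx.1 (e.trans inf_le_left)
      have h2 := hf2 [x0, k⁻¹ • x] rfl (hmem _ fun g hg =>
        ⟨hle hg, List.forall_mem_cons.2 ⟨hx0 g hg, (h1 hg).2⟩⟩)
      rw [AddSubgroup.mem_bot, d_two, sub_eq_zero] at h2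
      have h3 := hf k⁻¹ (inv_mem (hK hk)) [x]
      rw [tr_cons, tr_nil, h2, eq_inv_smul_iff, hm.2 k hk] at h3
      exact h3.symm
    have hΓ : ∀ γ ∈ Γ, γ • f [x0] = f [x0] := fun γ hγ => by
      rw [← hf γ hγ]
      exact key _ (by
        show St Γ (tr γ [x0]) ∈ _
        rw [St_tr hγ]; exact hU.inv γ hγ _ (hmem _ h0) (St_le _ _))
    refine ⟨fun _ => f [x0], fun γ hγ l => (hΓ γ hγ).symm,
      fun l hl _ => ⟨hm.1, fun u hu => hΓ u hu.1⟩, fun l hl hlU => ?_⟩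
    obtain ⟨x, rfl⟩ := List.length_eq_one_iff.1 hl
    rw [AddSubgroup.mem_bot, Pi.sub_apply, d_one, key x hlU, sub_self]
  | succ n =>
    refine van_congr (fun _ _ => Iff.rfl) (fun P _ _ => cut_of_not_mem (Set.notMem_empty P))
      (fun _ _ _ => rfl) (van_level hX hU (up_empty Γ) (wf_fx hD _) (wf_bot _ _)
        (fun _ _ _ => bot_le) (fun Q => Q ⊓ K) (fun g hg P _ => by rw [cj_inf, hKn g hg])
        (fun P P' a _ b c pP => (eq_of_syl a.2 (inf_le_inf_right K b) inf_le_right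
          pP.to_inf_left).symm) n fun P0 a _ b pP => ?_)
    refine ⟨{Q | T ⊔ P0 ⊓ K ≤ Q}, fun Q hQ _ _ => ⟨le_sup_left.trans hQ,
      (syl_of_le a.2 (le_inf (le_sup_right.trans hQ) inf_le_right) inf_le_right).2⟩,
      fun Q0 Q e1 _ _ e4 e5 _ _ => sup_le (e1.1.trans e5) (e4.ge.trans (inf_le_left.trans e5)), ?_⟩
    have hTN : T ≤ Subgroup.normalizer ((P0 ⊓ K : Subgroup G) : Set G) := fun t ht =>
      mem_normalizer_iff_cj.2 (by rw [cj_inf, hKn t (hT ht), cj_eq_of_mem (a.1 ht)])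
    refine van_congr (fun _ _ => Iff.rfl) (fun P _ _ => (cut_of_not_mem (Set.notMem_empty P)).symm)
      (fun _ _ _ => rfl) (van_acyc hX (sup_le (le_inf hT hTN) (le_inf (inf_le_left.trans b)
        (Subgroup.le_normalizer))) (fun g hg => ?_) (pP.to_le (sup_le a.1 inf_le_left))
        (fun g hg => hD g hg.1) tD _)
    rw [cj_sup, hTn g hg.1, mem_normalizer_iff_cj.1 hg.2]

theorem van_lam_zero (hX : PX p G X) (h1 : Up Γ U1) (h2 : Up Γ U2)
    {K : Subgroup G} (hK : K ≤ Γ) (hKn : ∀ g ∈ Γ, cj g K = K)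
    (h : ∀ Q ∈ U1, Q ∉ U2 → Q ≤ Γ → IsPGroup p Q → ∃ R ≤ K, IsPGroup p R ∧ Q ⊓ K < R) :
    Van X Γ U1 0 (cut U2 (fx D) (fun _ => ⊥)) (fun _ => ⊥) := by
  refine van_zero hX h1 h2 (wf_bot _ _) fun P a _ c pP => ?_
  obtain ⟨S, e1, e2, pS, sS⟩ := exists_syl c pP
  refine ⟨S, by_contra fun hS => ?_, e1, e2, pS⟩
  obtain ⟨R, r1, r2, r3⟩ := h S (h1.up _ a _ e1 e2) hS e2 pS
  exact syl_inf e2 pS sS hK hKn (dvd_of_lt r3 r1 r2)

theorem van_lam_aux (hX : PX p G X) (tD : Tors p D) (k : ℕ) : ∀ (Γ K : Subgroup G)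
    (U1 U2 : Set (Subgroup G)), Up Γ U1 → Up Γ U2 → Inv Γ D → K ≤ Γ → (∀ g ∈ Γ, cj g K = K) →
    (∀ k ∈ K, ∃ j : ℕ, ∀ m ∈ D, k ^ p ^ j • m = m) →
    (∀ Q ∈ U1, Q ∉ U2 → Q ≤ Γ → IsPGroup p Q → Nat.card G < Nat.card Q + k ∧
      ∃ R ≤ K, IsPGroup p R ∧ Q ⊓ K < R) →
    ∀ n, Van X Γ U1 n (cut U2 (fx D) (fun _ => ⊥)) (fun _ => ⊥) := by
  induction k with
  | zero =>
    intro Γ K U1 U2 h1 h2 hD hK hKn hKp h n
    cases n with
    | zero => exact van_lam_zero hX h1 h2 hK hKn fun Q a b c e => (h Q a b c e).2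
    | succ n =>
      exact van_level hX h1 h2 (wf_fx hD _) (wf_bot _ _) (fun _ _ _ => bot_le) (fun _ => ⊤)
        (fun _ _ _ _ => by simp) (fun _ _ _ _ _ _ _ => rfl) n fun P a b c e =>
          ((h P a b c e).1.not_ge (Subgroup.card_le_card_group P)).elim
  | succ k ih =>
    intro Γ K U1 U2 h1 h2 hD hK hKn hKp h n
    cases n with
    | zero => exact van_lam_zero hX h1 h2 hK hKn fun Q a b c e => (h Q a b c e).2
    | succ n =>
    refine van_loc hX h1 h2 (wf_fx hD _) (wf_bot _ _) (fun _ _ _ => bot_le) (fun P => Nat.card P) id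
      (fun g _ P _ => card_cj g P) (fun _ _ _ _ => rfl)
      (fun _ _ a _ => Subgroup.card_le_of_le a)
      (fun _ _ _ _ a _ _ e => Subgroup.eq_of_le_of_card_ge a e.ge) n fun T a b c pT => ?_
    refine ⟨{Q | T ≤ Q}, fun Q hQ e _ => ⟨h1.up _ a _ hQ e, Subgroup.card_le_of_le hQ⟩,
      fun Q0 Q _ _ _ _ e5 e6 _ _ => e5.ge.trans e6, ?_⟩
    obtain ⟨hc, R, r1, r2, r3⟩ := h T a b c pT
    obtain ⟨R', s1, s2, s3⟩ := nonsyl_normalizer pT (fun t ht => hKn t (c ht)) r1 r2 r3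
    simp only [id]
    set Γ' := Γ ⊓ Subgroup.normalizer (T : Set G)
    set K' := K ⊓ Subgroup.normalizer (T : Set G)
    have hT : T ≤ Γ' := le_inf c Subgroup.le_normalizer
    have hTn : ∀ g ∈ Γ', cj g T = T := fun g hg => mem_normalizer_iff_cj.1 hg.2
    have hK' : K' ≤ Γ' := inf_le_inf_right _ hK
    have hKn' : ∀ g ∈ Γ', cj g K' = K' := fun g hg => by
      rw [cj_inf, hKn g hg.1, cj_eq_of_mem hg.2]
    have hD' : Inv Γ' D := fun g hg => hD g hg.1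
    have hKp' : ∀ k ∈ K', ∃ j : ℕ, ∀ m ∈ D, k ^ p ^ j • m = m := fun k hk => hKp k hk.1
    have hU := up_ge hTn
    have hU'' := up_syl (p := p) hTn hKn'
    have hlt : Up Γ' {Q | T < Q} := ⟨fun _ h _ h' _ => lt_of_lt_of_le h h', fun g hg P hP _ =>
      lt_of_le_of_ne ((hTn g hg).ge.trans (cj_mono g hP.le)) fun e => (show T < P from hP).ne (by
        rw [← cj_inj (g := g), hTn g hg]; exact e)⟩
    have hb : Van X Γ' {Q | T ≤ Q} (n + 1)
        (cut {Q | T ≤ Q ∧ ¬ p ∣ (Q ⊓ K').relIndex K'} (fx D) (fun _ => ⊥)) (fun _ => ⊥) :=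
      van_B (le_cut (fun _ _ _ => bot_le) _) (cut_le (fun _ _ _ => bot_le) _)
        (van_acyc hX hT hTn pT hD' tD _)
        ((van_quot hU hU'' (fun _ h _ => h.1) (wf_fx hD' _)).2
          (van_syl hX hT hTn pT hD' tD hK' hKn' hKp' n))
    have hcc := ih Γ' K' _ _ hlt hU'' hD' hK' hKn' hKp' (fun Q q1 q2 q3 pQ =>
      ⟨by have := card_lt_of_lt (show T < Q from q1); omega,
        exists_lt_of_dvd inf_le_right pQ.to_inf_left (by_contra fun h' => q2 ⟨q1.le, h'⟩)⟩) n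
    have hw := wf_cut hU hU'' (wf_fx hD' _) (wf_bot _ _) (fun _ _ _ => bot_le)
    rw [← van_quot hU hlt (fun P h _ => (show T < P from h).le) hw] at hcc
    have hT'' : T ∉ {Q | T ≤ Q ∧ ¬ p ∣ (Q ⊓ K').relIndex K'} := fun h' => h'.2 (dvd_of_lt s3 s1 s2)
    refine van_congr (fun _ _ => Iff.rfl) (fun P hP _ => ?_) (fun _ _ _ => rfl)
      (van_B (le_cut (fun _ _ _ => bot_le) _) (cut_le (fun _ _ _ => bot_le) _) hb hcc)
    rcases eq_or_lt_of_le (show T ≤ P from hP) with rfl | hlt'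
    · rw [cut_of_not_mem (show T ∉ {Q | T < Q} from lt_irrefl T), cut_of_not_mem hT'',
        cut_of_not_mem (show T ∉ {Q | Q ∈ U2 ∨ Nat.card T < Nat.card Q} from
          fun h' => h'.elim b (lt_irrefl _))]
    · rw [cut_of_mem (show P ∈ {Q | T < Q} from hlt'),
        cut_of_mem (show P ∈ {Q | Q ∈ U2 ∨ Nat.card T < Nat.card Q} from
          Or.inr (card_lt_of_lt hlt'))]

/-- `K ⊴ Γ` acts on `D` through a `p`-group and `Q ⊓ K` is not Sylow in `K` for `Q ∈ U1 \ U2`. -/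
theorem van_lam (hX : PX p G X) (h1 : Up Γ U1) (h2 : Up Γ U2) (hD : Inv Γ D) (tD : Tors p D)
    {K : Subgroup G} (hK : K ≤ Γ) (hKn : ∀ g ∈ Γ, cj g K = K)
    (hKp : ∀ k ∈ K, ∃ j : ℕ, ∀ m ∈ D, k ^ p ^ j • m = m)
    (h : ∀ Q ∈ U1, Q ∉ U2 → Q ≤ Γ → IsPGroup p Q → ∃ R ≤ K, IsPGroup p R ∧ Q ⊓ K < R) (n : ℕ) :
    Van X Γ U1 n (cut U2 (fx D) (fun _ => ⊥)) (fun _ => ⊥) :=
  van_lam_aux hX tD (Nat.card G + 1) Γ K U1 U2 h1 h2 hD hK hKn hKp
    (fun Q a b c e => ⟨by omega, h Q a b c e⟩) n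

/-- `Γ` acts on `D` through a `p`-group, `U` contains the Sylow subgroups. -/
theorem van_const (hX : PX p G X) (hU : Up Γ U) (hD : Inv Γ D) (tD : Tors p D)
    (hp : ∀ k ∈ Γ, ∃ j : ℕ, ∀ m ∈ D, k ^ p ^ j • m = m)
    (h : ∀ Q ≤ Γ, Q ∉ U → IsPGroup p Q → ∃ R ≤ Γ, IsPGroup p R ∧ Q < R) (n : ℕ) :
    Van X Γ U n (fx D) (fun _ => ⊥) := by
  have hb : Up Γ {P : Subgroup G | ⊥ ≤ P} := up_ge fun g _ => cj_bot g
  rw [← van_quot hb hU (fun P _ _ => (bot_le : ⊥ ≤ P)) (wf_fx hD _)]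
  exact van_C (le_cut (fun _ _ _ => bot_le) _) (cut_le (fun _ _ _ => bot_le) _)
    (van_lam hX hb hU hD tD le_rfl (fun g hg => cj_eq_of_mem hg) hp (fun Q _ b c e => by
      rw [inf_eq_left.2 c]; exact h Q c b e) _)
    (van_acyc hX bot_le (fun g _ => cj_bot g) IsPGroup.of_bot hD tD n)

end Cfsg.Agent.GL
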