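import Cfsg.Agent.Lib.GL.B1
import Cfsg.Agent.Lib.GL.Lam

/-! S5242, row GL-Local (notes/GL.md): the local vanishing theorem. -/

set_option autoImplicit false
set_option linter.unusedSectionVars false
set_option linter.unusedVariables false

namespace Cfsg.Agent.GL

variable {G X M : Type*} [Group G] [Finite G] [MulAction G X] [AddCommGroup M] [DistribMulAction G M]
variable {p : ℕ} [Fact p.Prime]

variable (G X M) in
/-- The local theorem in degree `k`. -/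
def LocThm (p k : ℕ) : Prop := ∀ (Γ Y : Subgroup G) (D : AddSubgroup M), Gen p Γ Y D →
  ∀ U1 U2 : Set (Subgroup G), Up Γ U1 → Up Γ U2 → (∀ P ∈ U1, P ≤ Γ → Y ≤ P) → JCl Γ D U1 →
    JCl Γ D U2 → Van X Γ U1 k (cut U2 (fx D) (fun _ => ⊥)) (fun _ => ⊥)

theorem loc_step (hX : PX p G X) (k : ℕ)
    (h : ∀ (Γ Y : Subgroup G) (D : AddSubgroup M), Red p Γ Y D →
      Van X Γ (Q0 D Y) k (fx D) (fun _ => ⊥)) : LocThm G X M p (k + 1) := by
  have key : ∀ j : ℕ, ∀ (Γ Y : Subgroup G) (D : AddSubgroup M), Nat.card G < Nat.card Y + j →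
      Gen p Γ Y D → ∀ U1 U2 : Set (Subgroup G), Up Γ U1 → Up Γ U2 → (∀ P ∈ U1, P ≤ Γ → Y ≤ P) →
      JCl Γ D U1 → JCl Γ D U2 →
      Van X Γ U1 (k + 1) (cut U2 (fx D) (fun _ => ⊥)) (fun _ => ⊥) := by
    intro j
    induction j with
    | zero => exact fun Γ Y D hc => (hc.not_ge (Subgroup.card_le_card_group Y)).elim
    | succ j ih =>
    intro Γ Y D hc hg U1 U2 h1 h2 hY j1 j2
    have := hg.fin
    refine van_loc hX h1 h2 (wf_fx hg.inv _) (wf_bot _ _) (fun _ _ _ => bot_le)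
      (fun P => Nat.card (Jo D P)) (Jo D) (fun g a P _ => by rw [Jo_cj hg.inv a, card_cj])
      (fun g a P _ => Jo_cj hg.inv a P) (fun _ _ a _ => Subgroup.card_le_of_le (Jo_mono D a))
      (fun _ _ _ _ a _ _ e => Subgroup.eq_of_le_of_card_ge (Jo_mono D a) e.ge) k
      fun P0 a b c pP => ?_
    have hYk : Y ≤ ker ⊤ D := fun y hy => ⟨trivial, hg.triv y hy⟩
    have hYY : Y ≤ Jo D P0 := (le_inf (hY _ a c) hYk).trans (inf_ker_le_Jo D P0)
    have hY1 : Jo D P0 ∈ U1 := j1 P0 a c _ le_rfl (Jo_le D P0)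
    have hY2 : Jo D P0 ∉ U2 := fun h' => b (h2.up _ h' _ (Jo_le D P0) c)
    have hYΓ : Jo D P0 ≤ Γ := (Jo_le D P0).trans c
    have pY : IsPGroup p (Jo D P0) := pP.to_le (Jo_le D P0)
    have hJ := Jo_Jo D P0
    generalize Jo D P0 = Y' at *
    have hmono : ∀ Q, Y' ≤ Q → Y' ≤ Jo D Q := fun Q hQ => hJ.ge.trans (Jo_mono D hQ)
    refine ⟨{Q | Y' ≤ Q}, fun Q hQ e _ => ⟨h1.up _ hY1 _ hQ e, Subgroup.card_le_of_le (hmono Q hQ)⟩,
      fun Q0 Q _ _ _ _ e5 e6 _ _ => e5.ge.trans ((Jo_le D Q0).trans e6), ?_⟩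
    set Γ' := Γ ⊓ Subgroup.normalizer (Y' : Set G) with hΓ'
    have hcut : ∀ Q, Y' ≤ Q → Q ≤ Γ' →
        (Q ∈ Q0 D Y' ↔ Q ∈ {Q | Q ∈ U2 ∨ Nat.card Y' < Nat.card (Jo D Q)}) := by
      intro Q e1 e2
      constructor
      · exact fun h' => Or.inr (card_lt_of_lt (lt_of_le_of_ne (hmono Q e1) h'.2.symm))
      · rintro (h' | h')
        · exact ⟨e1, fun e => hY2 (j2 Q h' (e2.trans inf_le_left) _ e.le e1)⟩
        · exact ⟨e1, fun e => (e ▸ h').false⟩
    have hD' : Inv Γ' D := fun g hg' => hg.inv g hg'.1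
    have hn : ∀ g ∈ Γ', cj g Y' = Y' := fun g hg' => mem_normalizer_iff_cj.1 hg'.2
    have hle : Y' ≤ Γ' := le_inf hYΓ Subgroup.le_normalizer
    suffices hs : Van X Γ' {Q | Y' ≤ Q} (k + 1) (cut (Q0 D Y') (fx D) (fun _ => ⊥)) (fun _ => ⊥) by
      refine van_congr (fun _ _ => Iff.rfl) (fun P e1 e2 => ?_) (fun _ _ _ => rfl) hs
      by_cases h' : P ∈ Q0 D Y'
      · rw [cut_of_mem h', cut_of_mem ((hcut P e1 e2).1 h')]
      · rw [cut_of_not_mem h', cut_of_not_mem (fun h'' => h' ((hcut P e1 e2).2 h''))]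
    rcases eq_or_lt_of_le hYY with rfl | hlt
    · have hg' : Gen p Γ' Y D := ⟨hle, hn, pY, hD', hg.fin, hg.tors, hg.triv⟩
      by_cases hr : ∀ R ≤ ker Γ' D, IsPGroup p R → R ≤ Y
      · exact van_B (le_cut (fun _ _ _ => bot_le) _) (cut_le (fun _ _ _ => bot_le) _)
          (van_acyc hX hle hn pY hD' hg.tors _)
          ((van_quot (up_ge hn) hg'.up_Q0 (fun _ h _ => h.1) (wf_fx hD' _)).2 (h Γ' Y D ⟨hg', hr⟩))
      · push Not at hr
        obtain ⟨R, r1, r2, r3⟩ := hr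
        have hYK : Y ≤ ker Γ' D := fun y hy => ⟨hle hy, hg.triv y hy⟩
        refine van_lam hX (up_ge hn) hg'.up_Q0 hD' hg.tors (K := ker Γ' D) (fun _ h => h.1)
          (fun g hg => cj_ker_self hD' hg) (fun u hu => ⟨0, by simpa using hu.2⟩)
          (fun Q q1 q2 _ _ => ⟨Y ⊔ R, sup_le hYK r1,
            isPGroup_sup pY r2 fun g hg => hn g (r1 hg).1, ?_⟩) _
        have e : Jo D Q = Y := by_contra fun h' => q2 ⟨q1, h'⟩
        refine lt_of_le_of_lt (b := Y) (fun u hu => ?_) (left_lt_sup.2 r3)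
        exact e ▸ inf_ker_le_Jo D Q ⟨hu.1, trivial, hu.2.2⟩
    · have hD'' : Inv Γ' (fx D Y') := fun g hg' m hm => hn g hg' ▸ smul_mem_fx hD' hg' hm
      have hk : Y' ≤ ker ⊤ (fx D Y') := fun y hy => ⟨trivial, fun m hm => hm.2 y hy⟩
      have hfin : Finite (fx D Y') := Finite.of_injective _ (AddSubgroup.inclusion_injective (fx_le D Y'))
      have hg' : Gen p Γ' Y' (fx D Y') := ⟨hle, hn, pY, hD'', hfin,
        hg.tors.imp fun _ h m hm => h m hm.1, fun y hy => (hk hy).2⟩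
      have hup : Up Γ' (Q0 D Y') :=
        ⟨fun P hP P' e _ => ⟨hP.1.trans e, fun e' =>
          hP.2 (le_antisymm ((Jo_mono D e).trans e'.le) (hmono P hP.1))⟩,
         fun g hg'' P hP _ => ⟨(hn g hg'').ge.trans (cj_mono g hP.1), fun e => hP.2 (by
          rwa [Jo_cj hD' hg'', ← hn g hg'', cj_inj] at e)⟩⟩
      refine van_congr (fun _ _ => Iff.rfl) (fun P e1 _ => ?_) (fun _ _ _ => rfl)
        (ih Γ' Y' (fx D Y') (by have := card_lt_of_lt hlt; omega) hg' _ _ (up_ge hn) hup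
          (fun _ h _ => h) (fun P' e1 _ P e2 _ =>
            ((le_inf e1 hk).trans (inf_ker_le_Jo _ P')).trans e2) (jcl_Q0 Γ' Y' (fx_le D Y') hk))
      by_cases h' : P ∈ Q0 D Y'
      · rw [cut_of_mem h', cut_of_mem h']
      · rw [cut_of_not_mem h', cut_of_not_mem h']
        ext m
        exact ⟨fun hm => ⟨hm.1.1, hm.2⟩, fun hm => ⟨fx_anti D e1 hm, hm.2⟩⟩
  exact fun Γ Y D => key (Nat.card G + 1) Γ Y D (by omega)

theorem LocThm.q0 {k : ℕ} (h : LocThm G X M p k) (Γ Y : Subgroup G) (D : AddSubgroup M)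
    (hr : Red p Γ Y D) : Van X Γ (Q0 D Y) k (fx D) (fun _ => ⊥) := by
  have := hr.fin
  refine van_congr (fun _ _ => Iff.rfl) (fun P _ _ => cut_of_not_mem (Set.notMem_empty P))
    (fun _ _ _ => rfl) (h Γ Y D hr.toGen _ ∅ hr.toGen.up_Q0 (up_empty Γ) (fun _ h _ => h.1)
      (jcl_Q0 Γ Y le_rfl fun y hy => ⟨trivial, hr.triv y hy⟩) (fun _ h => h.elim))

theorem locThm (hX : PX p G X) (k : ℕ) : LocThm G X M p (k + 2) := by
  induction k with
  | zero =>
    refine loc_step hX 1 ?_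
    by_cases hp : p = 2
    · subst hp
      exact fun Γ Y D h => base1 hX h
    · exact (loc_step hX 0 fun Γ Y D h => base0 hp hX h).q0
  | succ k ih => exact loc_step hX _ ih.q0

end Cfsg.Agent.GL
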