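import Cfsg.Agent.Lib.GL.ZSys
import Cfsg.Agent.Lib.GL.Local
import Cfsg.Agent.Lib.GL.LamG
import Cfsg.Agent.Lib.GL.Syl

/-! S5242, row GL-Glob (notes/GL.md): the higher limits of the centre functor vanish. -/

set_option autoImplicit false
set_option linter.unusedSectionVars false
set_option linter.unusedVariables false

namespace Cfsg.Agent.GL

universe u

section Thompson
variable {G : Type*} [Group G] [Finite G] {A B P P' : Subgroup G}

/-- Abelian subgroups. -/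
def GAb (A : Subgroup G) : Prop := ∀ a ∈ A, ∀ b ∈ A, a * b = b * a

/-- The largest order of an abelian subgroup. -/
noncomputable def gaa (P : Subgroup G) : ℕ := sSup {n | ∃ A ≤ P, GAb A ∧ Nat.card A = n}

/-- The Thompson subgroup. -/
def gJ (P : Subgroup G) : Subgroup G := sSup {A | A ≤ P ∧ GAb A ∧ Nat.card A = gaa P}

/-- The weight. -/
noncomputable def gw (P : Subgroup G) : ℕ := gaa P * (Nat.card G + 1) + Nat.card (gJ P)

theorem gaa_bdd (P : Subgroup G) : BddAbove {n | ∃ A ≤ P, GAb A ∧ Nat.card A = n} :=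
  ⟨Nat.card G, by rintro _ ⟨A, -, -, rfl⟩; exact A.card_le_card_group⟩

theorem le_gaa (h : A ≤ P) (hA : GAb A) : Nat.card A ≤ gaa P := le_csSup (gaa_bdd P) ⟨A, h, hA, rfl⟩

theorem exists_gaa (P : Subgroup G) : ∃ A ≤ P, GAb A ∧ Nat.card A = gaa P :=
  Nat.sSup_mem (s := {n | ∃ A ≤ P, GAb A ∧ Nat.card A = n})
    ⟨_, ⊥, bot_le, fun a ha b hb => by rw [Subgroup.mem_bot.1 ha, one_mul, mul_one], rfl⟩ (gaa_bdd P)

theorem gaa_mono (h : P ≤ P') : gaa P ≤ gaa P' := by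
  obtain ⟨A, h1, h2, h3⟩ := exists_gaa P
  exact h3 ▸ le_gaa (h1.trans h) h2

theorem gJ_le (P : Subgroup G) : gJ P ≤ P := sSup_le fun _ h => h.1

theorem le_gJ (h : A ≤ P) (hA : GAb A) (hc : Nat.card A = gaa P) : A ≤ gJ P := le_sSup ⟨h, hA, hc⟩

theorem gJ_mono (h : P ≤ P') (e : gaa P = gaa P') : gJ P ≤ gJ P' :=
  sSup_le fun _ hA => le_gJ (hA.1.trans h) hA.2.1 (hA.2.2.trans e)

theorem gJ_eq_of_le (h1 : gJ P' ≤ P) (h2 : P ≤ P') : gaa P = gaa P' ∧ gJ P = gJ P' := by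
  have e : gaa P = gaa P' := (gaa_mono h2).antisymm (by
    obtain ⟨A, h3, h4, h5⟩ := exists_gaa P'
    exact h5 ▸ le_gaa ((le_gJ h3 h4 h5).trans h1) h4)
  exact ⟨e, (gJ_mono h2 e).antisymm (sSup_le fun _ hA =>
    le_gJ ((le_gJ hA.1 hA.2.1 hA.2.2).trans h1) hA.2.1 (hA.2.2.trans e.symm))⟩

theorem gw_eq_of_le (h1 : gJ P' ≤ P) (h2 : P ≤ P') : gw P = gw P' := by
  rw [gw, gw, (gJ_eq_of_le h1 h2).1, (gJ_eq_of_le h1 h2).2]

theorem gw_lt (h : gaa P < gaa P') : gw P < gw P' := by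
  have := (gJ P).card_le_card_group
  have h2 := Nat.mul_le_mul_right (Nat.card G + 1) (Nat.succ_le_of_lt h)
  rw [Nat.succ_mul] at h2
  unfold gw
  omega

theorem gw_mono (h : P ≤ P') : gw P ≤ gw P' := by
  rcases (gaa_mono h).eq_or_lt with e | e
  · rw [gw, gw, e]
    exact Nat.add_le_add_left (Subgroup.card_le_of_le (gJ_mono h e)) _
  · exact (gw_lt e).le

theorem gJ_eq_of_gw (h : P ≤ P') (e : gw P = gw P') : gJ P = gJ P' := by
  rcases (gaa_mono h).eq_or_lt with e' | e'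
  · rw [gw, gw, e'] at e
    exact Subgroup.eq_of_le_of_card_ge (gJ_mono h e') (Nat.add_left_cancel e).ge
  · exact absurd e (gw_lt e').ne

theorem GAb.cj (h : GAb A) (g : G) : GAb (cj g A) := by
  rintro _ ⟨a, ha, rfl⟩ _ ⟨b, hb, rfl⟩
  rw [← map_mul, h a ha b hb, map_mul]

theorem gaa_cj (g : G) (P : Subgroup G) : gaa (cj g P) = gaa P := by
  have key : ∀ (g : G) (P : Subgroup G), gaa P ≤ gaa (cj g P) := fun g P => by
    obtain ⟨A, h1, h2, h3⟩ := exists_gaa P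
    rw [← h3, ← card_cj g]
    exact le_gaa (cj_mono g h1) (h2.cj g)
  exact le_antisymm (by simpa using key g⁻¹ (cj g P)) (key g P)

theorem gJ_cj (g : G) (P : Subgroup G) : gJ (cj g P) = cj g (gJ P) := by
  have key : ∀ (g : G) (P : Subgroup G), cj g (gJ P) ≤ gJ (cj g P) := fun g P =>
    cj_le_iff.2 (sSup_le fun A hA => cj_le_iff.1 (le_gJ (cj_mono g hA.1) (hA.2.1.cj g)
      (by rw [card_cj, gaa_cj, hA.2.2])))
  refine le_antisymm ?_ (key g P)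
  have := cj_mono g (key g⁻¹ (cj g P))
  simpa using this

theorem gw_cj (g : G) (P : Subgroup G) : gw (cj g P) = gw P := by
  rw [gw, gw, gaa_cj, gJ_cj, card_cj]

theorem GAb.sup (hA : GAb A) (hB : GAb B) (h : ∀ a ∈ A, ∀ b ∈ B, a * b = b * a) : GAb (A ⊔ B) := by
  have h1 : A ⊔ B ≤ Subgroup.centralizer (A : Set G) ⊓ Subgroup.centralizer (B : Set G) :=
    sup_le (fun a ha => ⟨fun b hb => hA b hb a ha, fun b hb => (h a ha b hb).symm⟩)
      fun b hb => ⟨fun a ha => h a ha b hb, fun a ha => hB a ha b hb⟩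
  have h2 : A ⊔ B ≤ Subgroup.centralizer ((A ⊔ B : Subgroup G) : Set G) :=
    sup_le (Subgroup.le_centralizer_iff.1 (h1.trans inf_le_left))
      (Subgroup.le_centralizer_iff.1 (h1.trans inf_le_right))
  exact fun a ha b hb => h2 hb a ha

theorem mem_gJ_of_comm {x : G} (hx : x ∈ P) (h : x ∈ Subgroup.centralizer (gJ P : Set G)) :
    x ∈ gJ P := by
  obtain ⟨A, h1, h2, h3⟩ := exists_gaa P
  have h4 := le_gJ h1 h2 h3
  have h5 : GAb (A ⊔ Subgroup.zpowers x) := h2.sup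
    (by rintro _ ⟨i, rfl⟩ _ ⟨j, rfl⟩; exact (Commute.refl x).zpow_zpow i j)
    (by rintro a ha _ ⟨j, rfl⟩; exact Commute.zpow_right (h a (h4 ha)) j)
  have h6 := Subgroup.eq_of_le_of_card_ge (le_sup_left : A ≤ A ⊔ Subgroup.zpowers x)
    (h3 ▸ le_gaa (sup_le h1 (Subgroup.zpowers_le.2 hx)) h5)
  exact h4 (h6.ge (Subgroup.mem_sup_right (Subgroup.mem_zpowers x)))

theorem card_mul_card_le (H K : Subgroup G) :
    Nat.card H * Nat.card K ≤ Nat.card (H ⊔ K : Subgroup G) * Nat.card (H ⊓ K : Subgroup G) := by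
  have h1 : ∀ L : Subgroup G, Nat.card L = H.relIndex L * Nat.card (H ⊓ L : Subgroup G) := fun L => by
    rw [← (H.subgroupOf L).index_mul_card, Subgroup.relIndex, ← Subgroup.inf_subgroupOf_right,
      Nat.card_congr (Subgroup.subgroupOfEquivOfLe (inf_le_right : H ⊓ L ≤ L)).toEquiv]
  have h2 := Subgroup.relIndex_le_of_le_right (H := H) (le_sup_right : K ≤ H ⊔ K)
    Subgroup.index_ne_zero_of_finite
  rw [h1 K, h1 (H ⊔ K), inf_eq_left.2 (le_sup_left : H ≤ H ⊔ K)]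
  calc _ = H.relIndex K * (Nat.card H * Nat.card (H ⊓ K : Subgroup G)) := by ring
    _ ≤ _ := by rw [mul_assoc]; exact Nat.mul_le_mul_right _ h2

end Thompson

/-- An abelian subgroup as a module for a group normalising it. -/
structure CMod {G H M : Type*} [Group G] [Group H] [AddCommGroup M] [DistribMulAction H M]
    (ι : H →* G) (Z : Subgroup G) (φ : M → G) (e : G → M) : Prop where
  inj : Function.Injective φ
  add : ∀ a b, φ (a + b) = φ a * φ b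
  nsmul : ∀ (k : ℕ) a, φ (k • a) = φ a ^ k
  mem : ∀ a, φ a ∈ Z
  sec : ∀ z ∈ Z, φ (e z) = z
  smul : ∀ (h : H) a, φ (h • a) = ι h * φ a * (ι h)⁻¹

open scoped IsMulCommutative in
theorem exists_cmod {G : Type u} {H : Type*} [Group G] [Group H] (ι : H →* G) (Z : Subgroup G)
    (hc : ∀ a ∈ Z, ∀ b ∈ Z, a * b = b * a) (hn : ∀ h, ∀ z ∈ Z, ι h * z * (ι h)⁻¹ ∈ Z) :
    ∃ (M : Type u) (_ : AddCommGroup M) (_ : DistribMulAction H M) (φ : M → G) (e : G → M),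
      CMod ι Z φ e := by
  classical
  have : IsMulCommutative Z := ⟨⟨fun a b => Subtype.ext (hc a a.2 b b.2)⟩⟩
  let act : DistribMulAction H (Additive Z) :=
    { smul := fun h a => Additive.ofMul ⟨_, hn h _ a.toMul.2⟩
      one_smul := fun a => Additive.toMul.injective (Subtype.ext (by
        show ι 1 * a.toMul * (ι 1)⁻¹ = a.toMul
        simp))
      mul_smul := fun g h a => Additive.toMul.injective (Subtype.ext (by
        show ι (g * h) * a.toMul * (ι (g * h))⁻¹ = ι g * (ι h * a.toMul * (ι h)⁻¹) * (ι g)⁻¹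
        simp [mul_assoc]))
      smul_zero := fun h => Additive.toMul.injective (Subtype.ext (by
        show ι h * 1 * (ι h)⁻¹ = 1
        simp))
      smul_add := fun h a b => Additive.toMul.injective (Subtype.ext (by
        show ι h * (a.toMul * b.toMul) * (ι h)⁻¹ =
          ι h * a.toMul * (ι h)⁻¹ * (ι h * b.toMul * (ι h)⁻¹)
        group)) }
  exact ⟨Additive Z, inferInstance, act,
    fun a => a.toMul, fun z => if h : z ∈ Z then Additive.ofMul ⟨z, h⟩ else 0,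
    Subtype.val_injective.comp Additive.toMul.injective, fun _ _ => rfl, fun _ _ => rfl,
    fun a => a.toMul.2, fun z hz => by simp [hz], fun _ _ => rfl⟩

namespace CMod
variable {G H M : Type*} [Group G] [Group H] [AddCommGroup M] [DistribMulAction H M]
  {ι : H →* G} {Z : Subgroup G} {φ : M → G} {e : G → M} (c : CMod ι Z φ e)
include c

theorem zero : φ 0 = 1 := by simpa using c.nsmul 0 0

theorem e_eq_zero {z : G} (hz : z ∈ Z) : e z = 0 ↔ z = 1 := by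
  rw [← c.inj.eq_iff, c.sec z hz, c.zero]

theorem e_mul {z w : G} (hz : z ∈ Z) (hw : w ∈ Z) : e (z * w) - e z - e w = 0 := by
  rw [sub_sub, sub_eq_zero, ← c.inj.eq_iff, c.add, c.sec z hz, c.sec w hw, c.sec _ (Z.mul_mem hz hw)]

theorem e_conj (h : H) {z : G} (hz : z ∈ Z) : e (ι h * z * (ι h)⁻¹) = h • e z := by
  have := c.smul h (e z)
  rw [c.sec z hz] at this
  rw [← c.inj.eq_iff, this, c.sec _ (this ▸ c.mem _)]

theorem e_phi (a : M) : e (φ a) = a := c.inj (c.sec _ (c.mem a))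

theorem smul_eq_iff {h : H} {a : M} : h • a = a ↔ ι h * φ a = φ a * ι h := by
  rw [← c.inj.eq_iff, c.smul, mul_inv_eq_iff_eq_mul]

theorem tors [Finite G] {p : ℕ} [Fact p.Prime] (hZ : IsPGroup p Z) : Tors p (⊤ : AddSubgroup M) := by
  obtain ⟨k, hk⟩ := IsPGroup.iff_card.1 hZ
  refine ⟨k, fun m _ => c.inj ?_⟩
  rw [c.nsmul, c.zero, ← hk]
  exact congrArg Subtype.val (pow_card_eq_one' (x := (⟨φ m, c.mem m⟩ : Z)))

theorem card_fx (B : Subgroup H) : Nat.card (fx (⊤ : AddSubgroup M) B) =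
    Nat.card (Z ⊓ Subgroup.centralizer (B.map ι : Set G) : Subgroup G) := by
  refine Nat.card_congr (Equiv.ofBijective (fun a => ⟨φ a, c.mem a, ?_⟩) ⟨fun a b h => ?_, ?_⟩)
  · rintro _ ⟨b, hb, rfl⟩
    exact c.smul_eq_iff.1 (a.2.2 b hb)
  · exact Subtype.ext (c.inj (congrArg Subtype.val h))
  · rintro ⟨z, h1, h2⟩
    exact ⟨⟨e z, trivial, fun b hb => c.smul_eq_iff.2 (by
      rw [c.sec z h1]; exact h2 _ ⟨b, hb, rfl⟩)⟩, Subtype.ext (c.sec z h1)⟩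

end CMod

variable {G X : Type*} [Group G] [Finite G] [MulAction G X] {p : ℕ} [Fact p.Prime]

theorem Zc_le_centralizer (P : Subgroup G) : Zc p P ≤ Subgroup.centralizer (P : Set G) :=
  (Subgroup.closure_le _).2 fun _ h => h.1

theorem tors_Sy {Q : Subgroup G} (hQ : Q ∈ Cen p G) (pQ : IsPGroup p Q) :
    ∃ k : ℕ, ∀ m ∈ Sy (Zc p) (Zc p) Q, p ^ k • m ∈ Sy (Zc p) (fun _ => ⊥) Q := by
  obtain ⟨k, hk⟩ := IsPGroup.iff_card.1 pQ
  refine ⟨k, fun m hm => ?_⟩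
  obtain ⟨z, hz, h⟩ := exists_of_mem_Sy le_rfl hm
  have h1 : z ^ p ^ k = 1 :=
    hk ▸ congrArg Subtype.val (pow_card_eq_one' (x := (⟨z, ((mem_Zc hQ pQ).1 hz).1⟩ : Q)))
  have h2 := of_pow_mem_Sy (Z1 := fun _ => ⊥) hz (p ^ k)
  rw [h1] at h2
  have h3 := sub_mem (add_mem (nsmul_mem h (p ^ k))
    (of_mem_Sy (Z := Zc p) (Z1 := fun _ => ⊥) (P := Q) (one_mem _))) h2
  convert h3 using 1
  rw [smul_sub]; abel

theorem smul_sub_mem_Sy {Q : Subgroup G} (hQ : Q ∈ Cen p G) {g : G} (hg : cj g Q = Q)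
    (h : ∀ z ∈ Zc p Q, g * z * g⁻¹ = z) {m : ZG G} (hm : m ∈ Sy (Zc p) (Zc p) Q) :
    g • m - m ∈ Sy (Zc p) (fun _ => ⊥) Q := by
  obtain ⟨z, hz, h1⟩ := exists_of_mem_Sy le_rfl hm
  have h2 := (wf_Sy (zwf_Zc p ⊤) (zwf_bot ⊤ _)).eqv g trivial Q hQ le_top _ h1
  rw [hg, smul_sub, ZG.smul_of, h z hz] at h2
  simpa using sub_mem h2 h1

theorem exists_lt_sup {T K : Subgroup G} (pT : IsPGroup p T) (hT : T ≤ K) {x : G} (hx : x ∈ K)
    (hxT : x ∉ T) {k : ℕ} (hk : x ^ p ^ k = 1) (hn : cj x T = T) :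
    ∃ R ≤ K, IsPGroup p R ∧ T < R := by
  refine ⟨T ⊔ Subgroup.zpowers x, sup_le hT (Subgroup.zpowers_le.2 hx), isPGroup_sup pT ?_ ?_,
    lt_of_le_of_ne le_sup_left fun e => hxT (e.ge (Subgroup.mem_sup_right (Subgroup.mem_zpowers x)))⟩
  · rintro ⟨_, i, rfl⟩
    refine ⟨k, Subtype.ext ?_⟩
    show (x ^ i) ^ p ^ k = 1
    rw [← zpow_natCast, ← zpow_mul, mul_comm, zpow_mul, zpow_natCast, hk, one_zpow]
  · exact fun g hg => mem_normalizer_iff_cj.1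
      (Subgroup.zpowers_le.2 (mem_normalizer_iff_cj.2 hn) hg)

theorem glob_cen (hX : PX p G X) (n : ℕ) {Y : Subgroup G} (hY : Y ∈ Cen p G) (pY : IsPGroup p Y)
    {Γ : Subgroup G} (hΓ : ∀ g ∈ Γ, cj g Y = Y) (hYΓ : Y ≤ Γ) (w : ℕ) :
    Van X Γ {Q | Y ≤ Q} (n + 2) (cut {Q | Q ∈ (∅ : Set (Subgroup G)) ∨ w < gw Q}
      (Sy (Zc p) (Zc p)) (Sy (Zc p) (fun _ => ⊥))) (Sy (Zc p) (fun _ => ⊥)) := by
  classical
  have hsub : ∀ P ∈ {Q | Y ≤ Q}, P ≤ Γ → P ∈ Cen p G := fun P h _ =>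
    (up_Cen p ⊤).up Y hY P h le_top
  have hZ : ZWF Γ {Q | Y ≤ Q} (Zc p) := (zwf_Zc p Γ).mono hsub
  obtain ⟨M, _, _, φ, e, c⟩ := exists_cmod Γ.subtype (Zc p Y) ((zwf_Zc p Γ).comm Y hY hYΓ)
    fun h z hz => hΓ h h.2 ▸ (zwf_Zc p Γ).eqv h h.2 Y hY hYΓ z hz
  let Z1 : Subgroup G → Subgroup G := fun Q => if w < gw Q then ⊥ else Zc p Q
  have hZ1 : ∀ Q, Z1 Q ≤ Zc p Q := fun Q => by
    simp only [Z1]; split_ifs; exacts [bot_le, le_rfl]
  have zw1 : ZWF Γ {Q | Y ≤ Q} Z1 := by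
    refine ⟨fun P hP P' h h' => ?_, fun g hg P hP h z hz => ?_,
      fun P hP h z hz => hZ.fix P hP h z (hZ1 P hz),
      fun P hP h z hz z' hz' => hZ.comm P hP h z (hZ1 P hz) z' (hZ1 P hz')⟩
    · by_cases h1 : w < gw P
      · simp only [Z1, if_pos h1, if_pos (h1.trans_le (gw_mono h))]; exact le_rfl
      · simp only [Z1, if_neg h1]; exact (hZ1 P').trans (hZ.anti P hP P' h h')
    · simp only [Z1, gw_cj] at hz ⊢
      split_ifs at hz ⊢
      · rw [Subgroup.mem_bot.1 hz]; simp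
      · exact hZ.eqv g hg P hP h z hz
  have hY' : ∀ g ∈ (⊤ : Subgroup Γ), cj g (Y.subgroupOf Γ) = Y.subgroupOf Γ := fun g _ => by
    ext x
    rw [mem_cj]
    exact (mem_cj (g := (g : G)) (P := Y)).symm.trans (by rw [hΓ g g.2]; rfl)
  have hmap : ∀ (g : Γ) (P : Subgroup Γ), (cj g P).map Γ.subtype = cj (g : G) (P.map Γ.subtype) :=
    fun g P => by rw [cj, cj, Subgroup.map_map, Subgroup.map_map]; rfl
  have htriv : ∀ y ∈ Y.subgroupOf Γ, ∀ m ∈ (⊤ : AddSubgroup M), y • m = m := fun y hy m _ =>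
    c.smul_eq_iff.2 (Zc_le_centralizer Y (c.mem m) y hy)
  have pZ : IsPGroup p (Zc p Y) := pY.to_le fun z hz => ((mem_Zc hY pY).1 hz).1
  have gen : Gen p ⊤ (Y.subgroupOf Γ) (⊤ : AddSubgroup M) := ⟨le_top, hY',
    pY.comap_subtype, fun _ _ _ _ => trivial,
    Finite.of_injective (fun a => φ a.1) (c.inj.comp Subtype.val_injective), c.tors pZ, htriv⟩
  have u1 := up_ge hY'
  have u2 : Up ⊤ {Q : Subgroup Γ | Y.subgroupOf Γ ≤ Q ∧ w < gw (Q.map Γ.subtype)} :=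
    ⟨fun P hP P' h _ => ⟨hP.1.trans h, hP.2.trans_le (gw_mono (Subgroup.map_mono h))⟩,
      fun g hg P hP h => ⟨u1.inv g hg P hP.1 h, by rw [hmap, gw_cj]; exact hP.2⟩⟩
  have hYJ : ∀ P', Y.subgroupOf Γ ≤ P' → Y.subgroupOf Γ ≤ Jo (⊤ : AddSubgroup M) P' :=
    fun P' h => le_Jo h (best_of_le_ker fun y hy => ⟨trivial, htriv y hy⟩)
  have hJ : ∀ P', Y.subgroupOf Γ ≤ P' →
      gJ (P'.map Γ.subtype) ≤ (Jo (⊤ : AddSubgroup M) P').map Γ.subtype := fun P' h => by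
    refine sSup_le fun A ⟨h1, h2, h3⟩ => ?_
    have hA : (A.subgroupOf Γ).map Γ.subtype = A :=
      Subgroup.map_subgroupOf_eq_of_le (h1.trans (Subgroup.map_subtype_le _))
    rw [← hA]
    refine Subgroup.map_mono (le_Jo (fun x hx => (Subgroup.mem_map_iff_mem
      Subtype.val_injective).1 (h1 hx)) ⟨fun a ha b hb m _ => ?_, fun B hB => ?_⟩)
    · rw [← mul_smul, ← mul_smul, show a * b = b * a from Subtype.ext (h2 _ ha _ hb)]
    · have hB' : B.map Γ.subtype ≤ A := hA ▸ Subgroup.map_mono hB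
      rw [c.card_fx, c.card_fx, hA, ← Subgroup.card_map_of_injective (f := Γ.subtype)
        Subtype.val_injective, ← Subgroup.card_map_of_injective (f := Γ.subtype)
        (K := A.subgroupOf Γ) Subtype.val_injective, hA]
      refine (card_mul_card_le _ _).trans (Nat.mul_le_mul (h3 ▸ le_gaa (sup_le (hB'.trans h1)
        fun z hz => ?_) (GAb.sup (fun a ha b hb => h2 a (hB' ha) b (hB' hb))
          (fun a ha b hb => (zwf_Zc p Γ).comm Y hY hYΓ a ha.1 b hb.1) fun a ha b hb => hb.2 a ha))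
        (Subgroup.card_le_of_le fun z hz => ⟨hz.2.1, fun a ha => h2 a ha z (hB' hz.1)⟩))
      have hz' := ((mem_Zc hY pY).1 hz.1).1
      exact ⟨⟨z, hYΓ hz'⟩, h hz', rfl⟩
  have L := locThm (M := M) (hX.subgroup Γ) n ⊤ _ ⊤ gen _ _ u1 u2 (fun _ h _ => h)
    (fun P' h _ P h1 _ => (hYJ P' h).trans h1) fun P' h _ P h1 h2 => ⟨(hYJ P' h.1).trans h1, by
      rw [gw_eq_of_le ((hJ P' h.1).trans (Subgroup.map_mono h1)) (Subgroup.map_mono h2)]
      exact h.2⟩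
  have hle : ∀ l : List X, Y ≤ St Γ l → Z1 (St Γ l) ≤ Zc p Y := fun l h =>
    (hZ1 _).trans ((zwf_Zc p Γ).anti Y hY _ h (St_le _ _))
  have hm : ∀ l : List X, Y ≤ St Γ l ↔ Y.subgroupOf Γ ≤ St (⊤ : Subgroup Γ) l := fun l => by
    rw [St_subtype]
    exact ⟨fun h x hx => h hx, fun h x hx => h (x := ⟨x, hYΓ hx⟩) hx⟩
  refine van_congr (fun _ _ => Iff.rfl) (fun P _ _ => ?_) (fun _ _ _ => rfl)
    ((van_convZ (Z2 := fun _ => ⊥) (corr_subtype X Γ) (up_ge hΓ) u1 hZ zw1 (fun P _ _ => hZ1 P)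
      (fun _ _ _ => bot_le) (wf_cut u1 u2 (wf_fx gen.inv _) (wf_bot _ _) fun _ _ _ => bot_le)
      (wf_bot _ _) (fun _ _ _ => bot_le) e (n + 2) (fun l _ => hm l) ?_
      (fun l _ h z hz z' hz' => c.e_mul (hle l h hz) (hle l h hz')) (fun l _ h z hz => ?_)
      (fun l hl h v hv => ?_) fun l _ h z hz => c.e_eq_zero (hle l h hz)).2 L)
  · by_cases h : w < gw P
    · rw [cut_of_mem (Or.inr h)]; exact Sy_congr (if_pos h)
    · rw [cut_of_not_mem fun h' => h'.elim id h]; exact Sy_congr (if_neg h)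
  · rintro _ - g - rfl l _ h z hz
    exact c.e_conj g (hle l h hz)
  · by_cases h1 : w < gw (St Γ l)
    · simp only [Z1, if_pos h1] at hz
      rw [(c.e_eq_zero (hz ▸ one_mem _)).2 hz]
      exact zero_mem _
    · rw [cut_of_not_mem fun h' => h1 (St_subtype_map Γ l ▸ h'.2)]
      refine ⟨trivial, fun u hu => c.smul_eq_iff.2 ?_⟩
      rw [c.sec z (hle l h hz)]
      exact Zc_le_centralizer _ (hZ1 _ hz) u ⟨u.2, hu.2⟩
  · by_cases h1 : w < gw (St Γ l)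
    · rw [cut_of_mem (by exact ⟨(hm l).1 h, (St_subtype_map Γ l).symm ▸ h1⟩)] at hv
      exact ⟨1, one_mem _, by rwa [(c.e_eq_zero (one_mem _)).2 rfl, sub_zero]⟩
    · rw [cut_of_not_mem fun h' => h1 (St_subtype_map Γ l ▸ h'.2)] at hv
      refine ⟨φ v, ?_, by rw [c.e_phi, sub_self]; exact zero_mem _⟩
      simp only [Z1, if_neg h1]
      exact (mem_Zc (hsub _ h (St_le _ _)) (hX.isPGroup_St Γ (by rintro rfl; simp at hl))).2
        ⟨h ((mem_Zc hY pY).1 (c.mem v)).1, fun u hu =>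
          c.smul_eq_iff.1 (hv.2 ⟨u, hu.1⟩ ⟨trivial, hu.2⟩)⟩

theorem glob (hX : PX p G X) (n : ℕ) :
    Van X ⊤ (Cen p G) (n + 2) (Sy (Zc p) (Zc p)) (Sy (Zc p) (fun _ => ⊥)) := by
  have wV := wf_Sy (zwf_Zc p (⊤ : Subgroup G)) (zwf_Zc p ⊤)
  have wN := wf_Sy (zwf_Zc p (⊤ : Subgroup G)) (zwf_bot ⊤ _)
  refine van_congr (fun _ _ => Iff.rfl) (fun P _ _ => cut_of_not_mem (Set.notMem_empty P))
    (fun _ _ _ => rfl) (van_loc hX (up_Cen p ⊤) (up_empty ⊤) wV wN (fun _ _ _ => Sy_mono bot_le)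
      gw gJ (fun g _ P _ => gw_cj g P) (fun g _ P _ => gJ_cj g P) (fun _ _ h _ => gw_mono h)
      (fun _ _ _ _ h _ _ => gJ_eq_of_gw h) (n + 1) fun P0 h0 _ _ p0 => ?_)
  set Y := gJ P0 with hY
  have hΓ : ∀ g ∈ ⊤ ⊓ Subgroup.normalizer (Y : Set G), cj g Y = Y := fun g hg =>
    mem_normalizer_iff_cj.1 hg.2
  by_cases hc : Y ∈ Cen p G
  · refine ⟨{Q | Y ≤ Q}, fun Q hQ _ _ => ⟨(up_Cen p ⊤).up Y hc Q hQ le_top,
      (gw_eq_of_le le_rfl (gJ_le P0)).ge.trans (gw_mono hQ)⟩,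
      fun Q0 Q _ _ _ _ e h _ _ => e.ge.trans ((gJ_le Q0).trans h),
      glob_cen hX n hc (p0.to_le (gJ_le P0)) hΓ (le_inf le_top Subgroup.le_normalizer) _⟩
  have hsub : ∀ P ∈ {Q | ∃ Q0 ∈ Cen p G, gw Q0 = gw P0 ∧ gJ Q0 = Y ∧ Q0 ≤ Q}, P ∈ Cen p G :=
    fun P ⟨Q0, h1, _, _, h2⟩ => (up_Cen p ⊤).up Q0 h1 P h2 le_top
  have u1 : Up (⊤ ⊓ Subgroup.normalizer (Y : Set G))
      {Q | ∃ Q0 ∈ Cen p G, gw Q0 = gw P0 ∧ gJ Q0 = Y ∧ Q0 ≤ Q} :=
    ⟨fun P ⟨Q0, h1, h2, h3, h4⟩ P' h _ => ⟨Q0, h1, h2, h3, h4.trans h⟩,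
      fun g hg P ⟨Q0, h1, h2, h3, h4⟩ _ => ⟨cj g Q0, (up_Cen p ⊤).inv g trivial Q0 h1 le_top,
        (gw_cj g Q0).trans h2, by rw [gJ_cj, h3, hΓ g hg], cj_mono g h4⟩⟩
  have u2 : Up (⊤ ⊓ Subgroup.normalizer (Y : Set G))
      {Q | Q ∈ (∅ : Set (Subgroup G)) ∨ gw P0 < gw Q} :=
    ⟨fun P hP P' h _ => hP.imp id fun h' => h'.trans_le (gw_mono h),
      fun g _ P hP _ => hP.imp False.elim fun h' => (gw_cj g P).symm ▸ h'⟩
  refine ⟨{Q | ∃ Q0 ∈ Cen p G, gw Q0 = gw P0 ∧ gJ Q0 = Y ∧ Q0 ≤ Q},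
    fun Q hQ _ _ => ⟨hsub Q hQ, hQ.elim fun Q0 h => h.2.1.ge.trans (gw_mono h.2.2.2)⟩,
    fun Q0 Q h1 _ _ h2 h3 h4 _ _ => ⟨Q0, h1, h2, h3, h4⟩, van_lamG hX u1 u2
      ((wV.mono_group le_top).mono fun P h _ => hsub P h)
      ((wN.mono_group le_top).mono fun P h _ => hsub P h) (fun _ _ _ => Sy_mono bot_le)
      (fun Q hQ hQ' _ pQ => ⟨tors_Sy (hsub Q hQ) pQ, Subgroup.centralizer (Y : Set G),
        le_inf le_top (Subgroup.centralizer_le_normalizer _),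
        fun g hg _ => by rw [cj_centralizer, hΓ g hg], ?_⟩) (n + 1)⟩
  have hJ : gJ Q = Y := by
    obtain ⟨Q0, -, h2, h3, h4⟩ := hQ
    rw [← h3, gJ_eq_of_gw h4 ((gw_mono h4).antisymm (h2 ▸ not_lt.1 fun h => hQ' (Or.inr h)))]
  refine ⟨fun k hk hkQ => ⟨0, fun m hm => ?_⟩, ?_⟩
  · rw [pow_zero, pow_one]
    refine smul_sub_mem_Sy (hsub Q hQ) hkQ (fun z hz => ?_) hm
    obtain ⟨h1, h2⟩ := (mem_Zc (hsub Q hQ) pQ).1 hz
    rw [← hk z (hJ ▸ mem_gJ_of_comm h1 fun u hu => h2 u (gJ_le Q hu)), mul_inv_cancel_right]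
  · simp only [Cen, Set.mem_setOf_eq, not_forall] at hc
    obtain ⟨x, hx, ⟨k, hk⟩, hxY⟩ := hc
    have hle : Q ⊓ Subgroup.centralizer (Y : Set G) ≤ Y := fun u hu =>
      hJ ▸ mem_gJ_of_comm hu.1 (hJ.symm ▸ hu.2)
    refine exists_lt_sup (pQ.to_le inf_le_left) inf_le_right hx (fun h => hxY (hle h)) hk
      (mem_normalizer_iff_cj.1 (Subgroup.centralizer_le_normalizer _ fun u hu => hx u (hle hu)))

end Cfsg.Agent.GL
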