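import Cfsg.Agent.Lib.GL.FA
import Cfsg.Agent.Lib.GL.Glob

/-! S5242, row GL-KK (notes/GL.md): `lim² K = 0`. -/

set_option autoImplicit false
set_option linter.unusedSectionVars false
set_option linter.unusedVariables false

namespace Cfsg.Agent.GL

variable {G Gb X : Type*} [Group G] [Finite G] [Group Gb] [MulAction G X] [MulAction Gb X]
  {p : ℕ} [Fact p.Prime] {π : G →* Gb}

theorem kk_map_cj (π : G →* Gb) (g : G) (P : Subgroup G) :
    (cj g P).map π = cj (π g) (P.map π) := by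
  rw [cj, cj, Subgroup.map_map, Subgroup.map_map]
  congr 1
  ext x
  simp

theorem kk_comap_cj (π : G →* Gb) (g : G) (P : Subgroup Gb) :
    (cj (π g) P).comap π = cj g (P.comap π) := by
  ext x
  simp [mem_cj]

/-- The overgroups of the kernel with centric image. -/
def kkD (p : ℕ) (π : G →* Gb) : Set (Subgroup G) := {P | π.ker ≤ P ∧ P.map π ∈ Cen p Gb}

/-- `{z | [z, Q] ≤ ker π}`. -/
def kkK (π : G →* Gb) (Q : Subgroup G) : Subgroup G :=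
  (Subgroup.centralizer (Q.map π : Set Gb)).comap π

theorem kk_up (hA : π.ker ≤ Subgroup.center G) : Up ⊤ (kkD p π) :=
  ⟨fun P h P' h' _ => ⟨h.1.trans h', (up_Cen p ⊤).up _ h.2 _ (Subgroup.map_mono h') le_top⟩,
    fun g hg P h h' => ⟨(up_A hA).inv g hg P h.1 h', by
      rw [kk_map_cj]; exact (up_Cen p ⊤).inv _ trivial _ h.2 le_top⟩⟩

theorem kk_cen {P : Subgroup G} (h : P ∈ kkD p π) : P ∈ Cen p G := by
  rintro x hx ⟨k, hk⟩
  have : π x ∈ P.map π := h.2 _ (by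
    rintro _ ⟨u, hu, rfl⟩
    rw [← map_mul, ← map_mul, hx u hu]) ⟨k, by rw [← map_pow, hk, map_one]⟩
  exact (Subgroup.comap_map_eq_self h.1).le this

theorem kkK_mem {Q : Subgroup G} {k u : G} (hk : k ∈ kkK π Q) (hu : u ∈ Q) :
    u⁻¹ * (k * u * k⁻¹) ∈ π.ker := by
  rw [MonoidHom.mem_ker, map_mul, map_mul, map_mul, ← hk _ ⟨u, hu, rfl⟩]
  simp

theorem kkK_cj {Q : Subgroup G} {g : G} (h : cj g Q = Q) : cj g (kkK π Q) = kkK π Q := by
  rw [kkK, ← kk_comap_cj, cj_centralizer, ← kk_map_cj, h]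

theorem kkK_norm {Q : Subgroup G} (hQ : π.ker ≤ Q) {k : G} (hk : k ∈ kkK π Q) : cj k Q = Q := by
  ext u
  rw [mem_cj]
  refine ⟨fun h => ?_, fun h => ?_⟩
  · simpa [mul_assoc] using Q.mul_mem h (hQ (kkK_mem hk h))
  · simpa [mul_assoc] using Q.mul_mem h (hQ (kkK_mem (inv_mem hk) h))

theorem kk_exists (hπ : Function.Surjective π) (pA : IsPGroup p π.ker) {Q : Subgroup G}
    (hQ : π.ker ≤ Q) (h : Q ∉ kkD p π) : ∃ x ∈ kkK π Q, x ∉ Q ∧ ∃ k : ℕ, x ^ p ^ k = 1 := by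
  have h' : Q.map π ∉ Cen p Gb := fun h' => h ⟨hQ, h'⟩
  simp only [Cen, Set.mem_setOf_eq, not_forall] at h'
  obtain ⟨y, hy, ⟨k, hk⟩, hy'⟩ := h'
  obtain ⟨x, rfl⟩ := hπ y
  obtain ⟨j, hj⟩ := pA ⟨x ^ p ^ k, by rw [MonoidHom.mem_ker, map_pow, hk]⟩
  exact ⟨x, hy, fun e => hy' ⟨x, e, rfl⟩, k + j, by
    rw [pow_add, pow_mul]; exact congrArg Subtype.val hj⟩

theorem kk_lt (hπ : Function.Surjective π) (pA : IsPGroup p π.ker) {Q : Subgroup G}
    (hQ : π.ker ≤ Q) (h : Q ∉ kkD p π) (pQ : IsPGroup p Q) :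
    ∃ R ≤ kkK π Q, IsPGroup p R ∧ Q ⊓ kkK π Q < R := by
  obtain ⟨x, hx, hxQ, k, hk⟩ := kk_exists hπ pA hQ h
  exact exists_lt_sup (pQ.to_le inf_le_left) inf_le_right hx (fun e => hxQ e.1) hk
    (by rw [cj_inf, kkK_norm hQ hx, cj_eq_of_mem hx])

theorem kk_pow (pA : IsPGroup p π.ker) : ∃ k : ℕ, ∀ a ∈ π.ker, a ^ p ^ k = 1 := by
  obtain ⟨k, hk⟩ := IsPGroup.iff_card.1 pA
  exact ⟨k, fun a ha => hk ▸ congrArg Subtype.val (pow_card_eq_one' (x := (⟨a, ha⟩ : π.ker)))⟩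

theorem kk_conj_pow {z u a : G} (ha : a ∈ Subgroup.center G) (h : z * u * z⁻¹ = u * a) (m : ℕ) :
    z ^ m * u * (z ^ m)⁻¹ = u * a ^ m := by
  induction m with
  | zero => simp
  | succ m ih =>
    calc z ^ (m + 1) * u * (z ^ (m + 1))⁻¹ = z ^ m * (z * u * z⁻¹) * (z ^ m)⁻¹ := by group
      _ = z ^ m * u * (z ^ m)⁻¹ * a := by
        rw [h, mul_assoc _ (z ^ m)⁻¹, Subgroup.mem_center_iff.1 ha (z ^ m)⁻¹]; group
      _ = _ := by rw [ih, pow_succ, mul_assoc]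

theorem kk_le_Zc (hA : π.ker ≤ Subgroup.center G) (pA : IsPGroup p π.ker) (P : Subgroup G) :
    π.ker ≤ Zc p P := fun a ha => Subgroup.subset_closure
  ⟨fun u _ => Subgroup.mem_center_iff.1 (hA ha) u, (kk_pow pA).imp fun _ h => h a ha⟩

/-- The centre system vanishes on `kkD` in degree 3. -/
theorem kk_Z (hπ : Function.Surjective π) (hA : π.ker ≤ Subgroup.center G)
    (pA : IsPGroup p π.ker) (hX : PX p G X) :
    Van X ⊤ (kkD p π) 3 (Sy (Zc p) (Zc p)) (Sy (Zc p) (fun _ => ⊥)) := by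
  have wV := wf_Sy (zwf_Zc p (⊤ : Subgroup G)) (zwf_Zc p ⊤)
  have wN := wf_Sy (zwf_Zc p (⊤ : Subgroup G)) (zwf_bot ⊤ _)
  have hle : Le (⊤ : Subgroup G) (Cen p G) (Sy (Zc p) (fun _ => ⊥)) (Sy (Zc p) (Zc p)) :=
    fun _ _ _ => Sy_mono bot_le
  refine (van_quot (up_Cen p ⊤) (kk_up hA) (fun _ h _ => kk_cen h) wV).1
    (van_C (le_cut hle _) (cut_le hle _) (van_lamG hX (up_Cen p ⊤) (kk_up hA) wV wN hle
      (fun Q hQ hQ' _ pQ => ?_) 3) (glob hX 1))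
  obtain ⟨j, hj⟩ := kk_pow pA
  have hAQ : π.ker ≤ Q := fun a ha => ((mem_Zc hQ pQ).1 (kk_le_Zc hA pA Q ha)).1
  refine ⟨tors_Sy hQ pQ, kkK π Q, le_top, fun g _ => kkK_cj, fun k hk _ => ⟨j, fun m hm =>
    smul_sub_mem_Sy hQ (kkK_norm hAQ (pow_mem hk _)) (fun z hz => ?_) hm⟩, kk_lt hπ pA hAQ hQ' pQ⟩
  have := kkK_mem hk ((mem_Zc hQ pQ).1 hz).1
  rw [kk_conj_pow (hA this) (mul_inv_cancel_left _ _).symm, hj _ this, mul_one]

/-- The constant system vanishes on `kkD`. -/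
theorem kk_A (hπ : Function.Surjective π) (hA : π.ker ≤ Subgroup.center G)
    (pA : IsPGroup p π.ker) (hX : PX p G X) (n : ℕ) :
    Van X ⊤ (kkD p π) n (Sy (Zc p) (fun _ => π.ker)) (Sy (Zc p) (fun _ => ⊥)) := by
  have hc : ∀ a ∈ π.ker, ∀ g : G, g * a * g⁻¹ = a := fun a ha g => by
    rw [Subgroup.mem_center_iff.1 (hA ha), mul_inv_cancel_right]
  obtain ⟨M, _, _, φ, e, c⟩ := exists_cmod (MonoidHom.id G) π.ker
    (fun a _ b hb => Subgroup.mem_center_iff.1 (hA hb) a) fun h z hz => (hc z hz h).symm ▸ hz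
  have htriv : ∀ (g : G) (m : M), g • m = m := fun g m =>
    c.smul_eq_iff.2 (Subgroup.mem_center_iff.1 (hA (c.mem m)) g)
  have hD : Inv (⊤ : Subgroup G) (⊤ : AddSubgroup M) := fun _ _ _ _ => trivial
  refine (van_convZ (Z2 := fun _ => ⊥) (corr_refl X ⊤) (kk_up hA) (kk_up hA)
    ((zwf_Zc p ⊤).mono fun _ h _ => kk_cen h)
    ⟨fun _ _ _ _ _ => le_rfl, fun g _ _ _ _ z hz => (hc z hz g).symm ▸ hz,
      fun _ _ _ z hz u _ => hc z hz u,
      fun _ _ _ a _ b hb => Subgroup.mem_center_iff.1 (hA hb) a⟩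
    (fun P _ _ => kk_le_Zc hA pA P) (fun _ _ _ => bot_le) (wf_fx hD _) (wf_bot _ _)
    (fun _ _ _ => bot_le) e n (fun _ _ => Iff.rfl) ?_ (fun _ _ _ z hz w hw => c.e_mul hz hw)
    (fun _ _ _ z hz => ⟨trivial, fun u _ => htriv u _⟩)
    (fun _ _ _ v _ => ⟨φ v, c.mem v, by rw [c.e_phi, sub_self]; exact zero_mem _⟩)
    fun _ _ _ z hz => c.e_eq_zero hz).2 (van_const hX (kk_up hA) hD (c.tors pA)
      (fun k _ => ⟨0, fun m _ => htriv _ m⟩) (fun Q _ hQ pQ => ?_) n)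
  · rintro g - _ - rfl l _ _ z hz
    exact c.e_conj g hz
  · by_cases h : π.ker ≤ Q
    · obtain ⟨x, hx, hxQ, k, hk⟩ := kk_exists hπ pA h hQ
      exact exists_lt_sup pQ le_top trivial hxQ hk (kkK_norm h hx)
    · obtain ⟨x, hx, hxQ⟩ := SetLike.not_le_iff_exists.1 h
      obtain ⟨k, hk⟩ := kk_pow pA
      refine exists_lt_sup pQ le_top trivial hxQ (hk x hx) ?_
      ext u
      rw [mem_cj, mul_assoc, Subgroup.mem_center_iff.1 (hA hx) u, inv_mul_cancel_left]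

/-- The image of the centre of the preimage. -/
def kkZ (p : ℕ) (π : G →* Gb) (P : Subgroup Gb) : Subgroup Gb := (Zc p (P.comap π)).map π

theorem kkZ_le (hπ : Function.Surjective π) (P : Subgroup Gb) : kkZ p π P ≤ Zc p P := by
  refine Subgroup.map_le_iff_le_comap.2 ((Subgroup.closure_le _).2 fun x ⟨h1, k, h2⟩ =>
    Subgroup.subset_closure ⟨fun u hu => ?_, k, by rw [← map_pow, h2, map_one]⟩)
  obtain ⟨u, rfl⟩ := hπ u
  rw [← map_mul, ← map_mul, h1 u hu]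

theorem kkZ_map {P : Subgroup G} (h : π.ker ≤ P) : kkZ p π (P.map π) = (Zc p P).map π := by
  rw [kkZ, Subgroup.comap_map_eq_self h]

theorem kk_zwf (hπ : Function.Surjective π) : ZWF ⊤ (Cen p Gb) (kkZ p π) := by
  have h : ∀ P ∈ Cen p Gb, P.comap π ∈ Cen p G := fun P hP => kk_cen
    ⟨Subgroup.ker_le_comap π P, (Subgroup.map_comap_eq_self_of_surjective hπ P).symm ▸ hP⟩
  refine ⟨fun P hP P' h1 _ => Subgroup.map_mono ((zwf_Zc p ⊤).anti _ (h P hP) _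
    (Subgroup.comap_mono h1) le_top), fun g _ P hP _ => ?_,
    fun P hP h1 z hz => (zwf_Zc p ⊤).fix P hP h1 z (kkZ_le hπ P hz),
    fun P hP h1 z hz w hw => (zwf_Zc p ⊤).comm P hP h1 z (kkZ_le hπ P hz) w (kkZ_le hπ P hw)⟩
  obtain ⟨g, rfl⟩ := hπ g
  rintro _ ⟨z, hz, rfl⟩
  refine ⟨g * z * g⁻¹, ?_, by simp⟩
  rw [kk_comap_cj]
  exact (zwf_Zc p ⊤).eqv g trivial _ (h P hP) le_top z hz

theorem kk_ker_le (hact : ∀ (g : G) (x : X), π g • x = g • x) (l : List X) :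
    π.ker ≤ St ⊤ l := fun a ha => ⟨trivial, fun x _ => by
  rw [← hact, MonoidHom.mem_ker.1 ha, one_smul]⟩

theorem kk_St (hπ : Function.Surjective π) (hact : ∀ (g : G) (x : X), π g • x = g • x)
    (l : List X) : St (⊤ : Subgroup Gb) l = (St ⊤ l).map π := by
  ext g
  refine ⟨fun h => ?_, ?_⟩
  · obtain ⟨g, rfl⟩ := hπ g
    exact ⟨g, ⟨trivial, fun x hx => hact g x ▸ h.2 x hx⟩, rfl⟩
  · rintro ⟨g, h, rfl⟩
    exact ⟨trivial, fun x hx => (hact g x).trans (h.2 x hx)⟩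

theorem kk_px (hπ : Function.Surjective π) (pA : IsPGroup p π.ker)
    (hact : ∀ (g : G) (x : X), π g • x = g • x) (hX : PX p G X) : PX p Gb X := by
  refine ⟨fun x => ((hX.stab x).map π).to_le fun g hg => ?_, fun P hP => ?_⟩
  · obtain ⟨g, rfl⟩ := hπ g
    exact ⟨g, (hact g x).symm.trans hg, rfl⟩
  · obtain ⟨x, hx⟩ := hX.fix _ (hP.comap_of_ker_isPGroup π pA)
    refine ⟨x, fun g hg => ?_⟩
    obtain ⟨g, rfl⟩ := hπ g
    exact (hact g x).trans (hx g hg)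

theorem kk_corr (hπ : Function.Surjective π) (hact : ∀ (g : G) (x : X), π g • x = g • x) :
    Corr X (⊤ : Subgroup G) (⊤ : Subgroup Gb) (fun g g' => π g = g') :=
  ⟨fun g _ => ⟨_, trivial, rfl⟩, fun g _ => (hπ g).imp fun _ h => ⟨trivial, h⟩,
    fun g _ h x => h ▸ (hact g x).symm⟩

theorem kk_bar (hπ : Function.Surjective π) (hA : π.ker ≤ Subgroup.center G)
    (pA : IsPGroup p π.ker) (hact : ∀ (g : G) (x : X), π g • x = g • x) (hX : PX p G X) :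
    Van X ⊤ (Cen p Gb) 2 (Sy (Zc p) (Zc p)) (Sy (Zc p) (kkZ p π)) := by
  have : Finite Gb := Finite.of_surjective π hπ
  have hZ := (zwf_Zc p (⊤ : Subgroup G)).mono (U' := kkD p π) fun _ h _ => kk_cen h
  refine van_C (fun _ _ _ => Sy_mono bot_le) (fun P _ _ => Sy_mono (kkZ_le hπ P)) ?_
    (glob (kk_px hπ pA hact hX) 0)
  have hm : ∀ (l : List X) {z}, z ∈ Zc p (St ⊤ l) → π z ∈ kkZ p π (St ⊤ l) := fun l z hz => by
    rw [kk_St hπ hact, kkZ_map (kk_ker_le hact l)]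
    exact ⟨z, hz, rfl⟩
  refine (van_convZ (kk_corr hπ hact)
    (kk_up hA) (up_Cen p ⊤) hZ hZ (fun _ _ _ => le_rfl) (fun P _ _ => kk_le_Zc hA pA P)
    (wf_Sy (zwf_Zc p ⊤) (kk_zwf hπ)) (wf_Sy (zwf_Zc p ⊤) (zwf_bot _ _))
    (fun _ _ _ => Sy_mono bot_le) (fun z => ZG.of (π z)) 3 (fun l _ => ?_) ?_
    (fun l _ _ z hz w hw => ?_) (fun l _ _ z hz => of_mem_Sy (hm l hz)) (fun l _ _ v hv => ?_)
    fun l _ h z hz => ?_).1
    (van_C (fun _ _ _ => Sy_mono bot_le) (fun P _ _ => Sy_mono (kk_le_Zc hA pA P))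
      (kk_A hπ hA pA hX 4) (kk_Z hπ hA pA hX))
  · rw [kk_St hπ hact]
    exact and_iff_right (kk_ker_le hact l)
  · rintro g - _ - rfl l _ _ z _
    simp [ZG.smul_of]
  · rw [map_mul]
    exact of_mul_mem_Sy (kkZ_le hπ _ (hm l hz)) (kkZ_le hπ _ (hm l hw))
  · obtain ⟨z, hz, h⟩ := exists_of_mem_Sy (kkZ_le hπ _) hv
    rw [kk_St hπ hact, kkZ_map (kk_ker_le hact l)] at hz
    obtain ⟨z, hz, rfl⟩ := hz
    exact ⟨z, hz, h⟩
  · exact of_mem_Sy_iff ((zwf_Zc p ⊤).comm _ (kk_St hπ hact l ▸ h.2) le_top) bot_le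
      (kkZ_le hπ _ (hm l hz))

theorem kk_mk_conj (g z : G) : FA.mk (fun u => u⁻¹ * (g * z * g⁻¹ * u * (g * z * g⁻¹)⁻¹)) =
    g • FA.mk (fun u => u⁻¹ * (z * u * z⁻¹)) := by
  refine FA.ext fun u => ?_
  have e : u⁻¹ * (g * z * g⁻¹ * u * (g * z * g⁻¹)⁻¹) =
      g * ((g⁻¹ * u * g)⁻¹ * (z * (g⁻¹ * u * g) * z⁻¹)) * g⁻¹ := by group
  rw [FA.val_smul]
  by_cases h : (g⁻¹ * u * g)⁻¹ * (z * (g⁻¹ * u * g) * z⁻¹) ∈ Subgroup.center G
  · rw [Subgroup.mem_center_iff.1 h g, mul_inv_cancel_right] at e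
    exact ((FA.val_mk (e ▸ h)).trans e).trans
      (FA.val_mk (μ := fun u => u⁻¹ * (z * u * z⁻¹)) h).symm
  · refine (FA.val_mk' fun h' => h ?_).trans
      (FA.val_mk' (μ := fun u => u⁻¹ * (z * u * z⁻¹)) h).symm
    rw [e] at h'
    simpa [mul_assoc] using (inferInstance : (Subgroup.center G).Normal).conj_mem _ h' g⁻¹

theorem van_Kk (π : G →* Gb) (hπ : Function.Surjective π) (hA : π.ker ≤ Subgroup.center G)
    (pA : IsPGroup p π.ker) (hact : ∀ (g : G) (x : X), π g • x = g • x) (hX : PX p G X) :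
    Van X ⊤ {P | π.ker ≤ P} 2 (Kk π.ker) N1 := by
  have : Finite Gb := Finite.of_surjective π hπ
  have hle : ∀ U, Le ⊤ U N1 (Kk π.ker) := fun _ P _ _ => N1_le_Kk _ P
  obtain ⟨j, hj⟩ := kk_pow pA
  refine van_A (le_cut (hle _) (kkD p π)) (cut_le (hle _) _)
    ((van_quot (up_A hA) (kk_up hA) (fun _ h _ => h.1) (wf_Kk _ _)).2 ?_)
    (van_lamG hX (up_A hA) (kk_up hA) (wf_Kk _ _) (wf_N1 _) (hle _) (fun Q hQ hQ' _ pQ =>
      ⟨⟨j, fun f hf => ⟨(nsmul_mem hf _).1, fun u hu => by rw [FA.val_nsmul, hj _ (hf.2.1 u hu)]⟩⟩,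
        kkK π Q, le_top, fun g _ => kkK_cj, fun k hk hkQ => ⟨0, fun f hf => ?_⟩,
        kk_lt hπ pA hQ hQ' pQ⟩) 1)
  swap
  · rw [pow_zero, pow_one]
    have h1 := (wf_Kk π.ker Set.univ).eqv k trivial Q trivial le_top f hf
    rw [hkQ] at h1
    refine ⟨(sub_mem h1 hf).1, fun u hu => ?_⟩
    have h2 := kkK_mem (inv_mem hk) hu
    have h3 := Kk_le_Hh hA hQ hf
    have h4 := h3.2.1 u hu _ (hQ h2)
    rw [mul_inv_cancel_left, h3.2.2.2 _ h2, inv_inv, mul_one] at h4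
    rw [FA.val_sub, FA.val_smul, h4, mul_inv_cancel]
  let e : Gb → FA G := fun y => FA.mk fun u =>
    u⁻¹ * (Function.surjInv hπ y * u * (Function.surjInv hπ y)⁻¹)
  have he : ∀ z, e (π z) = FA.mk fun u => u⁻¹ * (z * u * z⁻¹) := fun z => by
    have : z⁻¹ * Function.surjInv hπ (π z) ∈ π.ker := by
      rw [MonoidHom.mem_ker, map_mul, map_inv, Function.surjInv_eq hπ, inv_mul_cancel]
    simp only [e]
    congr 1
    funext u
    rw [← mul_inv_cancel_left z (Function.surjInv hπ (π z)), mul_assoc z _ u,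
      ← Subgroup.mem_center_iff.1 (hA this) u]
    group
  have hconj : ∀ g y, e (π g * y * (π g)⁻¹) = g • e y := fun g y => by
    obtain ⟨z, rfl⟩ := hπ y
    rw [← map_inv, ← map_mul, ← map_mul, he, he, kk_mk_conj]
  have hK : ∀ (l : List X) {z}, π z ∈ Zc p (St (⊤ : Subgroup Gb) l) → z ∈ kkK π (St ⊤ l) :=
    fun l z hz => by
      rw [kk_St hπ hact] at hz
      exact Zc_le_centralizer _ hz
  have hval : ∀ {P z u}, z ∈ kkK π P → u ∈ P → (e (π z)).val u = u⁻¹ * (z * u * z⁻¹) :=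
    fun hz hu => by rw [he]; exact FA.val_mk (hA (kkK_mem hz hu))
  have hV : ∀ {P z}, z ∈ kkK π P → e (π z) ∈ Kk π.ker P := fun {P z} hz =>
    ⟨fun u hu => by rw [← hconj, hz _ ⟨u, hu, rfl⟩, mul_inv_cancel_right],
      fun u hu => hval hz hu ▸ kkK_mem hz hu, z, fun u hu => by
        rw [hval hz hu, mul_inv_cancel_left]⟩
  refine (van_convZ (kk_corr hπ hact).symm
    (up_Cen p ⊤) (kk_up hA) (zwf_Zc p ⊤) (zwf_Zc p ⊤) (fun _ _ _ => le_rfl)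
    (fun P _ _ => kkZ_le hπ P) (wf_Kk _ _) (wf_N1 _) (hle _) e 2 (fun l _ => ?_) ?_
    (fun l _ _ z hz w hw => ?_) (fun l _ _ z hz => ?_) (fun l _ _ v hv => ?_)
    fun l hl h z hz => ?_).1 (kk_bar hπ hA pA hact hX)
  · rw [kk_St hπ hact]
    exact (and_iff_right (kk_ker_le hact l)).symm
  · rintro _ - g - rfl l _ _ z _
    exact hconj g z
  · obtain ⟨z, rfl⟩ := hπ z
    obtain ⟨w, rfl⟩ := hπ w
    have h1 := hK l hz
    have h2 := hK l hw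
    rw [← map_mul]
    refine ⟨(sub_mem (sub_mem (hV (mul_mem h1 h2)) (hV h1)) (hV h2)).1, fun u hu => ?_⟩
    have h3 := Subgroup.mem_center_iff.1 (hA (kkK_mem h2 hu)) z⁻¹
    rw [FA.val_sub, FA.val_sub, hval (mul_mem h1 h2) hu, hval h1 hu, hval h2 hu,
      mul_assoc _ _⁻¹, ← mul_inv_rev, mul_inv_eq_one,
      ← Subgroup.mem_center_iff.1 (hA (kkK_mem h2 hu)), mul_assoc u⁻¹ (z * u * z⁻¹),
      mul_assoc (z * u), h3]
    group
  · obtain ⟨z, rfl⟩ := hπ z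
    exact hV (hK l hz)
  · obtain ⟨h1, h2, z, h3⟩ := id hv
    obtain ⟨m, hm, i, hi⟩ := exists_pPart (p := p) z j
    have h4 : ∀ u ∈ St ⊤ l, z ^ m * u * (z ^ m)⁻¹ = u * v.val u := fun u hu => by
      rw [kk_conj_pow (v.val_mem u) (h3 u hu), pow_eq_pow_of_modEq hm (hj _ (h2 u hu)), pow_one]
    have h5 : z ^ m ∈ kkK π (St ⊤ l) := by
      rintro _ ⟨u, hu, rfl⟩
      rw [← map_mul, ← map_mul, mul_inv_eq_iff_eq_mul.1 (h4 u hu), map_mul, map_mul, map_mul,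
        MonoidHom.mem_ker.1 (h2 u hu), mul_one]
    refine ⟨π (z ^ m), Subgroup.subset_closure ⟨kk_St hπ hact l ▸ h5, i, by
      rw [← map_pow, hi, map_one]⟩, (sub_mem hv (hV h5)).1, fun u hu => ?_⟩
    rw [FA.val_sub, hval h5 hu, h4 u hu, inv_mul_cancel_left, mul_inv_cancel]
  · have pP := hX.isPGroup_St ⊤ (l := l) (by rintro rfl; simp at hl)
    have hD : St ⊤ l ∈ kkD p π := ⟨kk_ker_le hact l, kk_St hπ hact l ▸ h⟩
    constructor
    · intro h1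
      obtain ⟨z, hz', rfl⟩ := (kk_St hπ hact l).le ((mem_Zc h
        (kk_St hπ hact l ▸ pP.map π)).1 hz).1
      rw [kk_St hπ hact, kkZ_map hD.1]
      refine ⟨z, (mem_Zc (kk_cen hD) pP).2 ⟨hz', fun u hu => ?_⟩, rfl⟩
      have := h1.2 u hu
      rw [hval (hK l hz) hu, inv_mul_eq_one, eq_mul_inv_iff_mul_eq] at this
      exact this
    · intro h1
      rw [kk_St hπ hact, kkZ_map hD.1] at h1
      obtain ⟨z, h1, rfl⟩ := h1
      refine ⟨(hV (hK l hz)).1, fun u hu => ?_⟩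
      rw [hval (hK l hz) hu, ← Zc_le_centralizer _ h1 u hu, mul_inv_cancel_right, inv_mul_cancel]

end Cfsg.Agent.GL
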