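import Cfsg.Agent.Lib.GL.Core

/-! S5242, row GL-Loc (notes/GL.md): degree 0, and filtration + localisation. -/

set_option autoImplicit false
set_option linter.unusedSectionVars false
set_option linter.unusedVariables false

namespace Cfsg.Agent.GL

variable {G X M : Type*} [Group G] [Finite G] [MulAction G X] [AddCommGroup M] [DistribMulAction G M]
variable {p : ℕ} [Fact p.Prime] {Γ : Subgroup G} {U1 U2 : Set (Subgroup G)}
  {V N : Subgroup G → AddSubgroup M}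

/-- The piece of `W / cut U2 V N` lives on `U1 ∩ U2`. -/
theorem van_quot' {W : Subgroup G → AddSubgroup M} {n : ℕ} (h1 : Up Γ U1) (h2 : Up Γ U2)
    (hW : WF Γ U1 W) (h : ∀ P ∈ U1, P ≤ Γ → P ∉ U2 → W P = V P) :
    Van X Γ U1 n W (cut U2 V N) ↔ Van X Γ (U1 ∩ U2) n W N := by
  rw [van_U h1 (h1.inter h2) (fun _ h _ => h.1) hW (fun P a b c => by
    have c' : P ∉ U2 := fun h' => c ⟨a, h'⟩
    rw [cut_of_not_mem c', h P a b c'])]
  exact ⟨van_congr (fun _ _ => Iff.rfl) (fun _ _ _ => rfl) (fun P h _ => cut_of_mem h.2),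
    van_congr (fun _ _ => Iff.rfl) (fun _ _ _ => rfl) (fun P h _ => (cut_of_mem h.2).symm)⟩

theorem van_zero (hX : PX p G X) (h1 : Up Γ U1) (h2 : Up Γ U2) (hN : WF Γ U1 N)
    (h : ∀ P ∈ U1, P ∉ U2 → P ≤ Γ → IsPGroup p P → ∃ Q ∈ U2, P ≤ Q ∧ Q ≤ Γ ∧ IsPGroup p Q) :
    Van X Γ U1 0 (cut U2 V N) N := by
  intro f hf hf1 hf2
  refine ⟨0, Eqv.zero _, Co.zero _ _ _ _, fun l hl hlU => ?_⟩
  obtain ⟨x, rfl⟩ := List.length_eq_one_iff.1 hl
  simp only [d_zero, sub_zero]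
  by_cases h2' : St Γ [x] ∈ U2
  · have := hf1 [x] rfl hlU
    rwa [cut_of_mem h2'] at this
  obtain ⟨Q, hQ, hPQ, hQΓ, pQ⟩ := h _ hlU h2' (St_le _ _) (hX.isPGroup_St Γ (by simp))
  obtain ⟨y, hy⟩ := hX.fix Q pQ
  have hQy : Q ≤ St Γ [y] := fun g hg => ⟨hQΓ hg, by simpa using hy g hg⟩
  have hxy : St Γ [x] ≤ St Γ [y] := hPQ.trans hQy
  have e : St Γ [x, y] = St Γ [x] := le_antisymm (St_anti Γ (by simp)) fun g hg =>
    ⟨hg.1, by simpa using ⟨hg.2 x (by simp), (hxy hg).2 y (by simp)⟩⟩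
  have a := hf1 [y] rfl (h1.up _ hlU _ hxy (St_le _ _))
  rw [cut_of_mem (h2.up _ hQ _ hQy (St_le _ _))] at a
  have b := hf2 [x, y] rfl (e ▸ hlU)
  rw [e, d_two] at b
  have := (N _).sub_mem (hN.anti _ hlU _ hxy (St_le _ _) a) b
  simpa using this

theorem eq_of_normalizer_le {P Q : Subgroup G} (pP : IsPGroup p P) (h : Q ≤ P)
    (hn : ∀ g ∈ P, cj g Q = Q → g ∈ Q) : Q = P := by
  by_contra hne
  have : Group.IsNilpotent P := pP.isNilpotent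
  have hlt : Q.subgroupOf P < ⊤ := lt_top_iff_ne_top.2 fun e =>
    hne (le_antisymm h (Subgroup.subgroupOf_eq_top.1 e))
  obtain ⟨g, hg1, hg2⟩ := SetLike.exists_of_lt
    (Group.normalizerCondition_of_isNilpotent (G := P) _ hlt)
  refine hg2 (hn g g.2 ?_)
  ext x
  rw [mem_cj]
  by_cases hx : x ∈ P
  · exact ((Subgroup.mem_normalizer_iff''.1 hg1) ⟨x, hx⟩).symm
  · exact ⟨fun h' => (hx (by
      have := h h'
      rwa [P.mul_mem_cancel_right g.2, P.mul_mem_cancel_left (P.inv_mem g.2)] at this)).elim,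
      fun h' => (hx (h h')).elim⟩

theorem exists_normalizer_of_lt {P Q : Subgroup G} (pP : IsPGroup p P) (h : Q < P) :
    ∃ g ∈ P, cj g Q = Q ∧ g ∉ Q := by
  by_contra hc
  push Not at hc
  exact h.ne (eq_of_normalizer_le pP h.le hc)

theorem van_level (hX : PX p G X) (h1 : Up Γ U1) (h2 : Up Γ U2) (hV : WF Γ U1 V) (hN : WF Γ U1 N)
    (hle : Le Γ U1 N V) (ψ : Subgroup G → Subgroup G)
    (hψ : ∀ g ∈ Γ, ∀ P ≤ Γ, ψ (cj g P) = cj g (ψ P))
    (hconst : ∀ P P', P ∈ U1 → P' ∉ U2 → P ≤ P' → P' ≤ Γ → IsPGroup p P' → ψ P = ψ P') (n : ℕ)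
    (h : ∀ P0 ∈ U1, P0 ∉ U2 → P0 ≤ Γ → IsPGroup p P0 → ∃ U' : Set (Subgroup G),
      (∀ Q ∈ U', Q ≤ Γ → Q ≤ Subgroup.normalizer (ψ P0 : Set G) → Q ∈ U1) ∧
      (∀ Q0 Q, Q0 ∈ U1 → Q0 ∉ U2 → IsPGroup p Q0 → ψ Q0 = ψ P0 → Q0 ≤ Q → Q ≤ Γ →
        Q ≤ Subgroup.normalizer (ψ P0 : Set G) → Q ∈ U') ∧
      Van X (Γ ⊓ Subgroup.normalizer (ψ P0 : Set G)) U' (n + 1) (cut U2 V N) N) :
    Van X Γ U1 (n + 1) (cut U2 V N) N := by
  classical
  intro f hf hf1 hf2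
  have hW := wf_cut h1 h2 hV hN hle
  let In : Subgroup G → List X → Prop := fun Y l =>
    St Γ l ∈ U1 ∧ St Γ l ∉ U2 ∧ ψ (St Γ l) = Y
  have hIn : ∀ γ ∈ Γ, ∀ Y l, In (cj γ Y) (tr γ l) ↔ In Y l := by
    intro γ hγ Y l
    simp only [In, St_tr hγ, h1.mem_cj hγ (St_le _ _), h2.mem_cj hγ (St_le _ _),
      hψ γ hγ _ (St_le _ _), cj_inj]
  let R : Subgroup G → (List X → M) → Prop := fun Y g =>
    (∀ l, ¬ In Y l → g l = 0) ∧ (∀ l, l.length = n + 1 → In Y l → g l ∈ V (St Γ l)) ∧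
      ∀ l, l.length = n + 2 → In Y l → f l - d g l ∈ N (St Γ l)
  let a1 : MulAction Γ (Subgroup G) :=
    { smul := fun g P => cj (g : G) P
      one_smul := fun P => cj_one P
      mul_smul := fun g h P => cj_mul _ _ P }
  let a2 : MulAction Γ (List X → M) :=
    { smul := fun γ g l => (γ : G) • g (tr (γ : G)⁻¹ l)
      one_smul := fun g => funext fun l => show (1 : G) • g (tr (1 : G)⁻¹ l) = g l by simp
      mul_smul := fun γ δ g => funext fun l =>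
        show ((γ : G) * δ) • g (tr ((γ : G) * δ)⁻¹ l) = (γ : G) • (δ : G) • g (tr (δ : G)⁻¹ (tr (γ : G)⁻¹ l)) by
          rw [mul_inv_rev, tr_mul, mul_smul] }
  obtain ⟨g, hg, hgR⟩ := @Lead.exists_equivariant Γ (Subgroup G) (List X → M) _ a1 a2 R (by
    rintro ⟨γ, hγ⟩ Y g ⟨r1, r2, r3⟩
    refine ⟨fun l hl => ?_, fun l hl hl' => ?_, fun l hl hl' => ?_⟩
    · show γ • g (tr γ⁻¹ l) = 0
      rw [r1 _ (fun h' => hl (show In (cj γ Y) l by simpa using (hIn γ hγ Y _).2 h')), smul_zero]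
    · obtain ⟨l, rfl⟩ : ∃ l', l = tr γ l' := ⟨tr γ⁻¹ l, by simp⟩
      have h' := (hIn γ hγ Y l).1 hl'
      show γ • g (tr γ⁻¹ (tr γ l)) ∈ _
      rw [tr_inv_tr, St_tr hγ]
      exact hV.eqv γ hγ _ h'.1 (St_le _ _) _ (r2 l (by simpa using hl) h')
    · obtain ⟨l, rfl⟩ : ∃ l', l = tr γ l' := ⟨tr γ⁻¹ l, by simp⟩
      have h' := (hIn γ hγ Y l).1 hl'
      have e : d (fun l => γ • g (tr γ⁻¹ l)) (tr γ l) = γ • d g l :=
        d_tr γ g _ (fun l => by simp) l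
      show f (tr γ l) - d (fun l => γ • g (tr γ⁻¹ l)) (tr γ l) ∈ _
      rw [e, hf γ hγ, ← smul_sub, St_tr hγ]
      exact hN.eqv γ hγ _ h'.1 (St_le _ _) _ (r3 l (by simpa using hl) h')) (by
    intro Y
    by_cases hY : ∃ l : List X, l.length = n + 2 ∧ In Y l
    swap
    · refine ⟨0, ⟨fun _ _ => rfl, fun _ _ _ => (V _).zero_mem, fun l hl hl' => (hY ⟨l, hl, hl'⟩).elim⟩,
        fun γ _ => funext fun l => show (γ : G) • (0 : M) = 0 from smul_zero _⟩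
    obtain ⟨l0, hl0, a, b, rfl⟩ := hY
    obtain ⟨U', u1, u2, u3⟩ := h _ a b (St_le _ _) (hX.isPGroup_St' Γ hl0)
    set Y := ψ (St Γ l0) with hYdef
    set Γ' := Γ ⊓ Subgroup.normalizer (Y : Set G) with hΓ'
    have hle' : ∀ l : List X, St Γ' l ≤ St Γ l := St_mono inf_le_left
    have hU1 : ∀ l : List X, St Γ' l ∈ U' → St Γ' l ∈ U1 := fun l hl =>
      u1 _ hl ((St_le _ _).trans inf_le_left) ((St_le _ _).trans inf_le_right)
    obtain ⟨g, hg, hg1, hg2⟩ := u3 f (hf.mono inf_le_left)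
      (fun l hl hlU => hW.anti _ (hU1 l hlU) _ (hle' l) (St_le _ _)
        (hf1 l hl (h1.up _ (hU1 l hlU) _ (hle' l) (St_le _ _))))
      (fun l hl hlU => hN.anti _ (hU1 l hlU) _ (hle' l) (St_le _ _)
        (hf2 l hl (h1.up _ (hU1 l hlU) _ (hle' l) (St_le _ _))))
    have hnorm : ∀ Q ≤ Γ, ψ Q = Y → ∀ u ∈ Γ, cj u Q = Q → u ∈ Γ' := by
      intro Q hQ hQY u hu hu'
      refine ⟨hu, mem_normalizer_iff_cj.2 ?_⟩
      rw [← hQY, ← hψ u hu Q hQ, hu']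
    have heq : ∀ l, In Y l → St Γ' l = St Γ l := fun l hl =>
      le_antisymm (hle' l) fun u hu =>
        ⟨hnorm _ (St_le _ _) hl.2.2 u hu.1 (cj_eq_of_mem hu), hu.2⟩
    have hU' : ∀ l l' : List X, l ≠ [] → In Y l → l' ⊆ l → St Γ' l' ∈ U' := fun l l' hl hl' hs =>
      u2 _ _ hl'.1 hl'.2.1 (hX.isPGroup_St Γ hl) hl'.2.2 ((heq l hl').ge.trans (St_anti _ hs))
        ((St_le _ _).trans inf_le_left) ((St_le _ _).trans inf_le_right)
    refine ⟨fun l => if In Y l then g l else 0, ⟨fun l hl => if_neg hl, fun l hl hl' => ?_,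
      fun l hl hl' => ?_⟩, ?_⟩
    · have := hg1 l hl (hU' l l (by rintro rfl; simp at hl) hl' (List.Subset.refl _))
      rw [heq l hl', cut_of_not_mem hl'.2.1] at this
      simpa [hl'] using this
    · have hne : l ≠ [] := by rintro rfl; simp at hl
      have e1 := hg2 l hl (hU' l l hne hl' (List.Subset.refl _))
      rw [heq l hl'] at e1
      have e2 : d (g - fun l => if In Y l then g l else 0) l ∈ N (St Γ l) := by
        refine d_mem fun l' s1 s2 => ?_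
        by_cases hl2 : In Y l'
        · simp [hl2]
        have pP : IsPGroup p (St Γ l') := hX.isPGroup_St' Γ (n := n) (by omega)
        have hll : St Γ l ≤ St Γ' l' := (heq l hl').ge.trans (St_anti _ s1.subset)
        have hΓl : St Γ' l' ≤ Γ := (St_le _ _).trans inf_le_left
        have hQ2 : St Γ' l' ∈ U2 := by
          by_contra hQ2
          have e3 : ψ (St Γ' l') = Y := by
            rw [← hconst _ _ hl'.1 hQ2 hll hΓl (pP.to_le (hle' l')), hl'.2.2]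
          have e4 : St Γ' l' = St Γ l' := eq_of_normalizer_le pP (hle' l') fun u hu hu' =>
            ⟨hnorm _ hΓl e3 u hu.1 hu', hu.2⟩
          exact hl2 ⟨h1.up _ hl'.1 _ (St_anti _ s1.subset) (St_le _ _), e4 ▸ hQ2, e4 ▸ e3⟩
        have := hg1 l' (by omega) (hU' l l' hne hl' s1.subset)
        rw [cut_of_mem hQ2] at this
        simpa [hl2] using hN.anti _ hl'.1 _ hll hΓl this
      have := (N _).add_mem e1 e2
      rw [d_sub] at this
      simpa using this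
    · rintro ⟨γ, hγ⟩ hγY
      have hγY' : cj γ Y = Y := hγY
      funext l
      obtain ⟨l, rfl⟩ : ∃ l', l = tr γ l' := ⟨tr γ⁻¹ l, by simp⟩
      show γ • (if In Y (tr γ⁻¹ (tr γ l)) then g (tr γ⁻¹ (tr γ l)) else 0) =
        if In Y (tr γ l) then g (tr γ l) else 0
      have := hIn γ hγ Y l
      rw [hγY'] at this
      rw [tr_inv_tr, hg γ ⟨hγ, mem_normalizer_iff_cj.2 hγY'⟩]
      by_cases hc : In Y l
      · rw [if_pos hc, if_pos (this.2 hc)]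
      · rw [if_neg hc, if_neg (fun h' => hc (this.1 h')), smul_zero])
  refine ⟨fun l => g (ψ (St Γ l)) l, fun γ hγ l => ?_, fun l hl hlU => ?_, fun l hl hlU => ?_⟩
  · have := congrFun (hg ⟨γ, hγ⟩ (ψ (St Γ l))) (tr γ l)
    show g (ψ (St Γ (tr γ l))) (tr γ l) = _
    rw [St_tr hγ, hψ γ hγ _ (St_le _ _)]
    refine this.trans ?_
    show γ • g _ (tr γ⁻¹ (tr γ l)) = _
    rw [tr_inv_tr]
  · by_cases h' : St Γ l ∈ U2
    · show g _ l ∈ _
      rw [(hgR _).1 l (fun h'' => h''.2.1 h')]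
      exact AddSubgroup.zero_mem _
    · rw [cut_of_not_mem h']
      exact (hgR _).2.1 l hl ⟨hlU, h', rfl⟩
  · by_cases h' : St Γ l ∈ U2
    · have e1 := hf1 l hl hlU
      rw [cut_of_mem h'] at e1
      have e2 : d (fun l => g (ψ (St Γ l)) l) l = d 0 l := d_congr fun l' s1 _ =>
        (hgR _).1 l' fun h'' => h''.2.1 (h2.up _ h' _ (St_anti _ s1.subset) (St_le _ _))
      simpa [e2] using e1
    · have e2 : d (fun l => g (ψ (St Γ l)) l) l = d (g (ψ (St Γ l))) l := d_congr fun l' s1 s2 => by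
        by_cases h3 : St Γ l' ∈ U2
        · rw [(hgR _).1 l' fun h'' => h''.2.1 h3, (hgR _).1 l' fun h'' => h''.2.1 h3]
        · rw [hconst _ _ hlU h3 (St_anti _ s1.subset) (St_le _ _)
            (hX.isPGroup_St' Γ (n := n) (by omega))]
      rw [Pi.sub_apply, e2]
      exact (hgR _).2.2 l hl ⟨hlU, h', rfl⟩

/-- Filter `U1 \ U2` by the monotone weight `w`; on each level localise at `ψ P`. -/
theorem van_loc (hX : PX p G X) (h1 : Up Γ U1) (h2 : Up Γ U2) (hV : WF Γ U1 V) (hN : WF Γ U1 N)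
    (hle : Le Γ U1 N V) (w : Subgroup G → ℕ) (ψ : Subgroup G → Subgroup G)
    (hw : ∀ g ∈ Γ, ∀ P ≤ Γ, w (cj g P) = w P) (hψ : ∀ g ∈ Γ, ∀ P ≤ Γ, ψ (cj g P) = cj g (ψ P))
    (hmono : ∀ P P', P ≤ P' → P' ≤ Γ → w P ≤ w P')
    (hconst : ∀ P P', P ∈ U1 → P' ∉ U2 → P ≤ P' → P' ≤ Γ → IsPGroup p P' → w P = w P' → ψ P = ψ P')
    (n : ℕ)
    (h : ∀ P0 ∈ U1, P0 ∉ U2 → P0 ≤ Γ → IsPGroup p P0 → ∃ U' : Set (Subgroup G),
      (∀ Q ∈ U', Q ≤ Γ → Q ≤ Subgroup.normalizer (ψ P0 : Set G) → Q ∈ U1 ∧ w P0 ≤ w Q) ∧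
      (∀ Q0 Q, Q0 ∈ U1 → Q0 ∉ U2 → IsPGroup p Q0 → w Q0 = w P0 → ψ Q0 = ψ P0 → Q0 ≤ Q → Q ≤ Γ →
        Q ≤ Subgroup.normalizer (ψ P0 : Set G) → Q ∈ U') ∧
      Van X (Γ ⊓ Subgroup.normalizer (ψ P0 : Set G)) U' (n + 1)
        (cut {Q | Q ∈ U2 ∨ w P0 < w Q} V N) N) :
    Van X Γ U1 (n + 1) (cut U2 V N) N := by
  have hUp : ∀ j, Up Γ {Q | Q ∈ U2 ∨ j ≤ w Q} := fun j =>
    ⟨fun P hP P' a b => hP.imp (h2.up P · P' a b) (·.trans (hmono P P' a b)),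
      fun g hg P hP a => hP.imp (h2.inv g hg P · a) (fun b => (hw g hg P a).symm ▸ b)⟩
  have key : ∀ j, Van X Γ U1 (n + 1) (cut {Q | Q ∈ U2 ∨ j ≤ w Q} V N) N := by
    intro j
    induction j with
    | zero => exact van_of_le fun P _ _ => (cut_of_mem (Or.inr (Nat.zero_le _))).le
    | succ j ih =>
      refine van_A (le_cut hle _) (fun P hP hPΓ => ?_) ?_ ih
      · by_cases h' : P ∈ {Q | Q ∈ U2 ∨ j ≤ w Q}
        · rw [cut_of_mem h']; exact le_cut hle _ P hP hPΓ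
        · rw [cut_of_not_mem h', cut_of_not_mem (fun h'' : P ∈ U2 ∨ j + 1 ≤ w P =>
            h' (h''.imp id (Nat.le_of_succ_le)))]
      have hU := h1.inter (hUp j)
      have hs : ∀ P ∈ U1 ∩ {Q | Q ∈ U2 ∨ j ≤ w Q}, P ≤ Γ → P ∈ U1 := fun _ h _ => h.1
      rw [van_quot' h1 (hUp j) (wf_cut h1 (hUp _) hV hN hle) (fun P hP hPΓ h' =>
        cut_of_not_mem (fun h'' : P ∈ U2 ∨ j + 1 ≤ w P => h' (h''.imp id (Nat.le_of_succ_le))))]
      have hj : ∀ P ∈ U1 ∩ {Q | Q ∈ U2 ∨ j ≤ w Q}, ∀ P', P ≤ P' → P' ≤ Γ →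
          P' ∉ {Q | Q ∈ U2 ∨ j + 1 ≤ w Q} → P' ∉ U2 ∧ w P = j ∧ w P' = j := by
        intro P hP P' a b c
        have c1 : P' ∉ U2 := fun h' => c (Or.inl h')
        have c2 : ¬ j + 1 ≤ w P' := fun h' => c (Or.inr h')
        have c3 : j ≤ w P := hP.2.resolve_left fun h' => c1 (h2.up _ h' _ a b)
        have := hmono P P' a b
        exact ⟨c1, by omega, by omega⟩
      refine van_level hX hU (hUp _) (hV.mono hs) (hN.mono hs) (fun P h => hle P h.1) ψ hψ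
        (fun P P' a b c e pP => ?_) n (fun P0 a b c pP => ?_)
      · obtain ⟨c1, c2, c3⟩ := hj P a P' c e b
        exact hconst P P' a.1 c1 c e pP (c2.trans c3.symm)
      · obtain ⟨c1, c2, -⟩ := hj P0 a P0 le_rfl c b
        obtain ⟨U', u1, u2, u3⟩ := h P0 a.1 c1 c pP
        refine ⟨U', fun Q hQ e1 e2 => ⟨(u1 Q hQ e1 e2).1, Or.inr (c2 ▸ (u1 Q hQ e1 e2).2)⟩,
          fun Q0 Q e1 e2 e3 e4 e5 e6 e7 => ?_, ?_⟩
        · obtain ⟨d1, d2, -⟩ := hj Q0 e1 Q0 le_rfl (e5.trans e6) e2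
          exact u2 Q0 Q e1.1 d1 e3 (d2.trans c2.symm) e4 e5 e6 e7
        · rw [c2] at u3
          exact u3
  obtain ⟨j, hj⟩ : ∃ j, ∀ P, w P < j := by
    obtain ⟨j, hj⟩ := (Set.finite_range w).bddAbove
    exact ⟨j + 1, fun P => Nat.lt_succ_of_le (hj ⟨P, rfl⟩)⟩
  refine van_congr (fun _ _ => Iff.rfl) (fun P _ _ => ?_) (fun _ _ _ => rfl) (key j)
  by_cases h' : P ∈ U2
  · rw [cut_of_mem h', cut_of_mem (Or.inl h')]
  · rw [cut_of_not_mem h', cut_of_not_mem (fun h'' : P ∈ U2 ∨ j ≤ w P =>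
      h''.elim h' (fun h3 => (hj P).not_ge h3))]

end Cfsg.Agent.GL
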