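import Cfsg.Agent.Lib.GL.Tw
import Cfsg.Agent.Lib.GL.Ext
import Cfsg.Agent.Lib.GL.Easy

/-! S5242, row GL-Main (notes/GL.md). -/

set_option autoImplicit false
set_option linter.unusedSectionVars false
set_option linter.unusedVariables false

namespace Cfsg.Agent.GL

open Cfsg Cfsg.FusionSystem

theorem isRealizable_of_factor {Ω Ω' : Type*} [Group Ω] [Group Ω'] {S : Subgroup Ω} [Finite S]
    {S' : Subgroup Ω'} {p : ℕ} [Fact p.Prime] (hS : IsPGroup p S) {F : FusionSystem S}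
    (hF : F.IsSaturated p) {A : Subgroup Ω} (hA : F.IsCentral A) {θ : S →* Ω'}
    {E : FusionSystem S'} (hE : F.IsFactorSystem A θ E) (h : E.IsRealizable p) :
    F.IsRealizable p := by
  classical
  obtain ⟨Gb, _, _, ι', hι', T, hT⟩ := h
  let θ' : S →* S' := θ.codRestrict S' fun s => hE.2.2.1 ▸ ⟨s, rfl⟩
  let π0 : S →* Gb := ι'.comp θ'
  have hker : ∀ s : S, s ∈ π0.ker ↔ (s : Ω) ∈ A := fun s => by
    rw [← hE.2.1, MonoidHom.mem_ker]
    exact ⟨fun h => congrArg Subtype.val ((injective_iff_map_eq_one ι').1 hι'.1 _ h),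
      fun h => (congrArg ι' (Subtype.ext h : θ' s = 1)).trans (map_one ι')⟩
  have hc : Cover F A π0 := cover_of_realized hA.isNormal.stronglyClosed hE hι' fun x hx => by
    rw [homFun_of_mem θ hx, homFun_of_mem π0 hx]
    exact homFun_coe ι' (θ' ⟨x, hx⟩)
  have hr : π0.range = T := by
    rw [hT]
    refine le_antisymm (by rintro _ ⟨s, rfl⟩; exact ⟨_, rfl⟩) ?_
    rintro _ ⟨y, rfl⟩
    obtain ⟨s, hs⟩ : (y : Ω') ∈ θ.range := hE.2.2.1.symm ▸ y.2
    exact ⟨s, congrArg ι' (Subtype.ext hs)⟩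
  obtain ⟨G, _, _, π, ι, hπ, hι, hπι, hk, hcen⟩ := exists_ext hS π0
    (fun a ha => Subgroup.mem_center_iff.2 fun s =>
      Subtype.ext (central_comm hA ((hker a).1 ha) s.2))
    (hr ▸ T.not_dvd_index) (fun g => by
      let P : Subgroup Ω := ((cj g π0.range).comap π0).map S.subtype
      have hP : ∀ x : S, g⁻¹ * π0 x * g ∈ π0.range → (x : Ω) ∈ P := fun x hx =>
        ⟨x, mem_cj.2 hx, rfl⟩
      have hAP : A ≤ P := fun a ha => hP ⟨a, hA.le ha⟩ (by
        rw [(hker ⟨a, hA.le ha⟩).2 ha]; simp)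
      obtain ⟨f, a, b⟩ := hc.h2 g⁻¹ P hAP (Subgroup.map_subtype_le _) (by
        rintro _ ⟨x, hx, rfl⟩
        rw [inv_inv]
        exact (homFun_coe π0 x).symm ▸ mem_cj.1 hx)
      refine ⟨fun x => if h : f x ∈ S then ⟨f x, h⟩ else 1, fun x y hx hy => ?_, fun x hx => ?_,
        fun x hx => ?_⟩
      · have h1 := hP x hx
        have h2 := hP y hy
        have h3 : ((x * y : S) : Ω) ∈ P := mul_mem h1 h2
        simp only [dif_pos (a.mem h1), dif_pos (a.mem h2), dif_pos (a.mem h3)]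
        exact Subtype.ext (a.map_mul h1 h2)
      · have h1 := hAP ((hker x).1 hx)
        simp only [dif_pos (a.mem h1)]
        exact Subtype.ext (hA.apply_eq a h1 ((hker x).1 hx))
      · have h1 := hP x hx
        have := b x h1
        rw [homFun_coe, inv_inv, homFun_of_mem π0 (a.mem h1)] at this
        simp only [dif_pos (a.mem h1)]
        exact this)
  have hrange : ι.range = π0.range.comap π := by
    refine le_antisymm (by rintro _ ⟨s, rfl⟩; exact ⟨s, (hπι s).symm⟩) ?_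
    rintro g ⟨s, hs⟩
    have : (ι s)⁻¹ * g ∈ π.ker := by
      rw [MonoidHom.mem_ker, map_mul, map_inv, hπι, hs, inv_mul_cancel]
    rw [hk] at this
    obtain ⟨a, -, ha⟩ := this
    exact ⟨s * a, by rw [map_mul, ha, mul_inv_cancel_left]⟩
  let S1 : Sylow p G := (hS.of_surjective _ ι.rangeRestrict_surjective).toSylow (by
    rw [hrange, Subgroup.index_comap_of_surjective _ hπ, hr]; exact T.not_dvd_index)
  have hS1 : ι.range = (S1 : Subgroup G) := rfl
  have hk1 : ∀ x ∈ S, homFun ι x = 1 ↔ x ∈ (⊥ : Subgroup Ω) := fun x hx => by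
    rw [homFun_of_mem ι hx, Subgroup.mem_bot]
    exact ⟨fun h => congrArg Subtype.val ((injective_iff_map_eq_one ι).1 hι _ h),
      fun h => by subst h; exact map_one ι⟩
  obtain ⟨F1, hF1⟩ := H8.exists_factorSystem F (stronglyClosed_bot F) ι hk1 hS1
  have hπι' : ∀ x ∈ S, π (homFun ι x) = homFun π0 x := fun x hx => by
    rw [homFun_of_mem ι hx, homFun_of_mem π0 hx, hπι]
  have hAk : img A (homFun ι) = π.ker := by
    rw [Lead.img_homFun_eq hA.le, hk]
    congr 1
    ext s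
    exact (hker s).symm
  have hAP : ∀ P' : Subgroup G, π.ker ≤ P' → A ≤ preimageAlong ι P' := fun P' h a ha =>
    H8.mem_preimageAlong.2 ⟨hA.le ha, h (hAk ▸ mem_img_of_mem _ ha)⟩
  obtain ⟨β, hβ, hβr⟩ := twist S1 hcen (hAk ▸ H8.factor_img_le hF1 hA.le) F1
    (H8.factor_isSaturated hF hS (stronglyClosed_bot F) hF1) (by
      refine isCentral_iff.2 ⟨hAk ▸ H8.factor_img_le hF1 hA.le, fun P' f' hf' => ?_⟩
      obtain ⟨hP', f, a, b⟩ := (H8.factor_isMor_iff hF1).1 hf'
      obtain ⟨g, c, e1, e2⟩ := hA.exists_ext a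
      obtain ⟨g', hg'⟩ := H8.factor_exists_induced hF1 (stronglyClosed_bot F) c
      have m := H8.factor_isMor_of_le hF1 c bot_le hg'
      rw [((isHomOn_homFun ι).mono c.le).img_sup, H8.factor_img_preimage hF1 hP', hAk] at m
      refine ⟨g', m, fun y hy => ?_, fun y hy => ?_⟩
      · obtain ⟨x, hx, rfl⟩ := H8.factor_exists_preimage hF1 hP' hy
        rw [hg' x (Subgroup.mem_sup_left hx), e1 x hx, b x hx]
      · rw [← hAk] at hy
        obtain ⟨x, hx, rfl⟩ := (Lead.mem_img_homFun hA.le).1 hy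
        rw [hg' x (Subgroup.mem_sup_right hx), e2 x hx]) (by
      intro P' f' hf' hP
      obtain ⟨hP', f, a, b⟩ := (H8.factor_isMor_iff hF1).1 hf'
      obtain ⟨g, hg⟩ := hc.h1 _ f a (hAP P' hP)
      obtain ⟨g, rfl⟩ := hπ g
      refine ⟨g, fun y hy => ?_⟩
      obtain ⟨x, hx, rfl⟩ := H8.factor_exists_preimage hF1 hP' hy
      rw [MonoidHom.mem_ker, b x hx, map_mul, map_inv, map_mul, map_mul, map_inv,
        hπι' _ (a.mem hx), hπι' _ (a.le hx), hg x hx, inv_mul_cancel]) (by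
      intro g P' hP hP' hg
      obtain ⟨f, a, b⟩ := hc.h2 (π g) _ (hAP P' hP) (H8.preimageAlong_le ι P') (fun x hx => by
        obtain ⟨h1, h2⟩ := H8.mem_preimageAlong.1 hx
        have h3 : g * homFun ι x * g⁻¹ ∈ π0.range.comap π := hrange ▸ hg (mem_cj_of_mem g h2)
        rwa [Subgroup.mem_comap, map_mul, map_mul, map_inv, hπι' x h1] at h3)
      obtain ⟨f', hf'⟩ := H8.factor_exists_induced hF1 (stronglyClosed_bot F) a
      refine ⟨f', (H8.factor_isMor_iff hF1).2 ⟨hP', f, a, hf'⟩, fun y hy => ?_⟩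
      obtain ⟨x, hx, rfl⟩ := H8.factor_exists_preimage hF1 hP' hy
      rw [MonoidHom.mem_ker, hf' x hx, map_mul, map_inv, map_mul, map_mul, map_inv,
        hπι' _ (a.mem hx), hπι' _ (a.le hx), b x hx, inv_mul_cancel])
  let ι1 : S →* (S1 : Subgroup G) := ι.rangeRestrict
  have hcov : Cover F ⊥ (β.comp ι1) := cover_of_realized (stronglyClosed_bot F) hF1 hβ fun x hx => by
    rw [homFun_of_mem ι hx, homFun_of_mem _ hx]
    exact homFun_coe β (ι1 ⟨x, hx⟩)
  refine isRealizable_of (hcov.realized (hβ.1.comp fun x y e => hι (congrArg Subtype.val e))) S1 ?_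
  rw [MonoidHom.range_comp, (MonoidHom.range_eq_top (f := ι1)).2 ι.rangeRestrict_surjective,
    ← MonoidHom.range_eq_map, hβr]

end Cfsg.Agent.GL
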