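import Cfsg.Agent.Lib.GL.Best
import Cfsg.Agent.Lib.GL.Syl
import Cfsg.Agent.Lib.H9.PGroup
import Cfsg.Agent.Lib.H1.SylowIn

/-! S5242, row GL-Norm (notes/GL.md): Glauberman's norm argument, and the base case for odd `p`. -/

set_option autoImplicit false
set_option linter.unusedSectionVars false
set_option linter.unusedVariables false

namespace Cfsg.Agent.GL

variable {G X M : Type*} [Group G] [Finite G] [MulAction G X] [AddCommGroup M] [DistribMulAction G M]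
variable {p : ℕ} [Fact p.Prime]

/-- The norm from `J0` to `J`. -/
noncomputable def nrm (J J0 : Subgroup G) (w : M) : M :=
  ∑ᶠ q : J ⧸ J0.subgroupOf J, ((q.out : J) : G) • w

theorem out_smul {J J0 : Subgroup G} {w : M} (hw : ∀ u ∈ J ⊓ J0, u • w = w) (j : J) :
    (((j : J ⧸ J0.subgroupOf J).out : J) : G) • w = (j : G) • w := by
  obtain ⟨u, hu⟩ := QuotientGroup.mk_out_eq_mul (J0.subgroupOf J) j
  rw [hu, Subgroup.coe_mul, mul_smul, hw _ ⟨u.1.2, u.2⟩]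

theorem nrm_eq_sum {J J0 : Subgroup G} {w : M} (hw : ∀ u ∈ J ⊓ J0, u • w = w) {ι : Type*}
    (g : ι → J) (hg : Function.Bijective fun i => (g i : J ⧸ J0.subgroupOf J)) :
    nrm J J0 w = ∑ᶠ i, (g i : G) • w :=
  (finsum_eq_of_bijective _ hg fun i => (out_smul hw (g i)).symm).symm

theorem bijective_mul_out {J J0 : Subgroup G} (u : J) :
    Function.Bijective fun q : J ⧸ J0.subgroupOf J => ((u * q.out : J) : J ⧸ J0.subgroupOf J) := by
  convert MulAction.bijective (β := J ⧸ J0.subgroupOf J) u using 2 with q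
  rw [← smul_eq_mul, MulAction.Quotient.coe_smul_out]

theorem nrm_mem {J J0 : Subgroup G} {W : AddSubgroup M} (hW : Inv J W) {w : M}
    (hw : w ∈ fx W (J ⊓ J0)) : nrm J J0 w ∈ fx W J := by
  refine ⟨finsum_induction (· ∈ W) W.zero_mem (fun _ _ => W.add_mem) fun q => hW _ q.out.2 _ hw.1, fun u hu => ?_⟩
  conv_rhs => rw [nrm_eq_sum hw.2 _ (bijective_mul_out ⟨u, hu⟩)]
  rw [nrm, smul_finsum' u (Set.toFinite _)]
  exact finsum_congr fun q => (mul_smul _ _ _).symm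

theorem nsmul_nrm (J J0 : Subgroup G) (c : ℕ) (w : M) : c • nrm J J0 w = nrm J J0 (c • w) := by
  rw [nrm, smul_finsum' c (Set.toFinite _)]
  exact finsum_congr fun q => (smul_comm _ _ _).symm

theorem nrm_zero (J J0 : Subgroup G) : nrm J J0 (0 : M) = 0 := by
  simp [nrm]

theorem nrm_of_fix {J : Subgroup G} (J0 : Subgroup G) {w : M} (hw : ∀ u ∈ J, u • w = w) :
    nrm J J0 w = J0.relIndex J • w := by
  have := Fintype.ofFinite (J ⧸ J0.subgroupOf J)
  rw [nrm, finsum_congr fun q => hw _ q.out.2, finsum_eq_sum_of_fintype, Finset.sum_const,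
    Finset.card_univ, Subgroup.relIndex, Subgroup.index, Nat.card_eq_fintype_card]

theorem nrm_trans {J J1 J0 : Subgroup G} (h0 : J0 ≤ J1) (h1 : J1 ≤ J) {w : M}
    (hw : ∀ u ∈ J0, u • w = w) : nrm J J0 w = nrm J J1 (nrm J1 J0 w) := by
  rw [nrm_eq_sum (fun u hu => hw u hu.2)
    (fun q : (J ⧸ J1.subgroupOf J) × (J1 ⧸ J0.subgroupOf J1) =>
      q.1.out * Subgroup.inclusion h1 q.2.out) ⟨?_, fun q => ?_⟩]
  · have := Fintype.ofFinite (J ⧸ J1.subgroupOf J)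
    have := Fintype.ofFinite (J1 ⧸ J0.subgroupOf J1)
    simp only [nrm, finsum_eq_sum_of_fintype, Fintype.sum_prod_type, Finset.smul_sum, ← mul_smul]
    rfl
  · rintro ⟨a, b⟩ ⟨a', b'⟩ e
    have e1 := Subgroup.mem_subgroupOf.1 (QuotientGroup.eq.1 e)
    obtain rfl : a = a' := by
      rw [← a.out_eq', ← a'.out_eq', QuotientGroup.eq, Subgroup.mem_subgroupOf]
      have := J1.mul_mem (J1.mul_mem b.out.2 (h0 e1)) (J1.inv_mem b'.out.2)
      simpa [mul_assoc] using this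
    refine Prod.ext rfl ?_
    change b = b'
    rw [← b.out_eq', ← b'.out_eq', QuotientGroup.eq, Subgroup.mem_subgroupOf]
    simpa [mul_assoc] using e1
  · obtain ⟨j, rfl⟩ := QuotientGroup.mk_surjective q
    obtain ⟨u, hu⟩ := QuotientGroup.mk_out_eq_mul (J1.subgroupOf J) j
    obtain ⟨v, hv⟩ := QuotientGroup.mk_out_eq_mul (J0.subgroupOf J1) ⟨_, J1.inv_mem u.2⟩
    refine ⟨(j, (⟨_, J1.inv_mem u.2⟩ : J1)), Eq.symm ?_⟩
    simp only [hu, hv]
    rw [QuotientGroup.eq, Subgroup.mem_subgroupOf]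
    simpa [mul_assoc] using Subgroup.mem_subgroupOf.1 v.2

theorem nrm_prime {J J1 : Subgroup G} (pJ : IsPGroup p J) (h1 : J1 ≤ J) (hi : J1.relIndex J = p)
    {a : G} (ha : a ∈ J) (ha' : a ∉ J1) {w : M} (hw : ∀ u ∈ J1, u • w = w) :
    nrm J J1 w = ∑ i ∈ Finset.range p, a ^ i • w := by
  rw [nrm_eq_sum (fun u hu => hw u hu.2) (fun i : Fin p => (⟨a, ha⟩ : J) ^ (i : ℕ))
    ((Nat.bijective_iff_injective_and_card _).2 ⟨fun i j e => ?_, by rw [Nat.card_fin]; exact hi.symm⟩),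
    finsum_eq_sum_of_fintype, Finset.sum_range]
  · rfl
  · have e1 : a ^ ((j : ℤ) - i) ∈ J1 := by
      have := Subgroup.mem_subgroupOf.1 (QuotientGroup.eq.1 e)
      rw [sub_eq_neg_add, zpow_add]
      simpa using this
    rw [H9.zpow_mem_iff_dvd ha' (H9.pow_mem_of_relIndex_prime pJ h1 hi ha)] at e1
    have := Int.eq_zero_of_abs_lt_dvd e1 (by rw [abs_lt]; omega)
    omega

theorem exists_index_prime {J J0 : Subgroup G} (pJ : IsPGroup p J) (h : J0 < J) :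
    ∃ J1, J0 ≤ J1 ∧ J1 ≤ J ∧ J1.relIndex J = p := by
  exact H9.exists_le_relIndex_eq_of_lt pJ h

/-- The norm vanishes if every subgroup of index `p` above `J0` misses a norm-good subgroup. -/
theorem nrm_eq_zero {J J0 : Subgroup G} (pJ : IsPGroup p J) (h : J0 < J) {W : AddSubgroup M}
    (hW : Inv J W) {w : M} (hw : w ∈ fx W J0) (hp : p • w = 0)
    (hA : ∀ J1, J0 ≤ J1 → J1 ≤ J → J1.relIndex J = p → ∃ a ∈ J, a ∉ J1 ∧
      ∀ v ∈ fx W J1, p • v = 0 → ∑ i ∈ Finset.range p, a ^ i • v = 0) : nrm J J0 w = 0 := by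
  obtain ⟨J1, h0, h1, hi⟩ := exists_index_prime pJ h
  obtain ⟨a, ha, ha', hs⟩ := hA J1 h0 h1 hi
  have hv : nrm J1 J0 w ∈ fx W J1 :=
    nrm_mem (fun g hg => hW g (h1 hg)) (fx_anti W inf_le_right hw)
  rw [nrm_trans h0 h1 hw.2, nrm_prime pJ h1 hi ha ha' hv.2,
    hs _ hv (by rw [nsmul_nrm, hp, nrm_zero])]

theorem relIndex_eq_prime {A J J1 : Subgroup G} (hAJ : A ≤ J) (pJ : IsPGroup p J) (h1 : J1 ≤ J)
    (hi : J1.relIndex J = p) (hA1 : ¬ A ≤ J1) : J1.relIndex A = p := by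
  have := (Subgroup.normal_subgroupOf_iff_le_normalizer h1).2
    (H9.le_normalizer_of_relIndex_eq pJ h1 hi)
  have h2 := Subgroup.relIndex_dvd_index_of_normal (J1.subgroupOf J) (A.subgroupOf J)
  rw [Subgroup.relIndex_subgroupOf hAJ] at h2
  exact ((Nat.dvd_prime Fact.out).1 (hi ▸ h2)).resolve_left fun e =>
    hA1 (Subgroup.relIndex_eq_one.1 e)

/-- For a norm-good `A ≤ J` not inside the subgroup `J1` of index `p`. -/
theorem NG.norm_zero {D W : AddSubgroup M} (hW : W ≤ D) {A J J1 : Subgroup G} (hA : NG p D A)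
    (hAJ : A ≤ J) (pJ : IsPGroup p J) (h1 : J1 ≤ J) (hi : J1.relIndex J = p) (hA1 : ¬ A ≤ J1) :
    ∃ a ∈ J, a ∉ J1 ∧ ∀ v ∈ fx W J1, p • v = 0 → ∑ i ∈ Finset.range p, a ^ i • v = 0 := by
  obtain ⟨a, ha, ha'⟩ := SetLike.not_le_iff_exists.1 hA1
  refine ⟨a, hAJ ha, ha', fun v hv hp => ?_⟩
  have := hA.2.2.2 (J1 ⊓ A) inf_le_right
    (by rw [Subgroup.inf_relIndex_right, relIndex_eq_prime hAJ pJ h1 hi hA1])
    ⟨hW hv.1, fun u hu => hv.2 u hu.1⟩
  rw [Finset.sum_congr rfl fun i _ => this.2 _ (A.pow_mem ha i), Finset.sum_const,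
    Finset.card_range, hp]

theorem Tors.exists_inv {W : AddSubgroup M} (tW : Tors p W) {n : ℕ} (hn : ¬ p ∣ n) :
    ∃ c : ℕ, ∀ m ∈ W, c • n • m = m := by
  obtain ⟨k, hk⟩ := tW
  have hp : p.Prime := Fact.out
  have h1 := Nat.ModEq.pow_totient (((hp.coprime_iff_not_dvd).2 hn).symm.pow_right k)
  have h2 := Nat.totient_pos.2 (pow_pos hp.pos k)
  have h3 : 1 ≤ n ^ (p ^ k).totient :=
    pow_pos (Nat.pos_of_ne_zero fun e : n = 0 => hn (e ▸ dvd_zero p)) _
  obtain ⟨t, ht⟩ := (Nat.modEq_iff_dvd' h3).1 h1.symm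
  refine ⟨n ^ ((p ^ k).totient - 1), fun m hm => ?_⟩
  rw [smul_smul, ← pow_succ, Nat.sub_add_cancel h2, (Nat.sub_eq_iff_eq_add h3).1 ht, add_smul,
    mul_comm, mul_smul, hk m hm, smul_zero, zero_add, one_smul]

theorem finsum_orbits {K Q : Type*} [Group K] [Finite K] [MulAction K Q] [Finite Q] (F : Q → M) :
    ∑ᶠ q, F q = ∑ᶠ ω : MulAction.orbitRel.Quotient K Q,
      ∑ᶠ c : K ⧸ MulAction.stabilizer K ω.out, F (c.out • ω.out) := by
  have := Fintype.ofFinite (MulAction.orbitRel.Quotient K Q)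
  have := fun x : Q => Fintype.ofFinite (K ⧸ MulAction.stabilizer K x)
  rw [← finsum_eq_of_bijective (g := F) (f := fun x => F (x.2.out • x.1.out))
    (fun x : Σ ω : MulAction.orbitRel.Quotient K Q, K ⧸ MulAction.stabilizer K ω.out =>
      x.2.out • x.1.out) ⟨?_, fun q => ?_⟩ fun _ => rfl]
  · simp only [finsum_eq_sum_of_fintype, Fintype.sum_sigma]
  · rintro ⟨ω, c⟩ ⟨ω', c'⟩ e
    dsimp only at e
    obtain rfl : ω = ω' := by
      rw [← ω.out_eq', ← ω'.out_eq', Quotient.eq'']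
      exact ⟨c.out⁻¹ * c'.out, by simp only [mul_smul, ← e, inv_smul_smul]⟩
    congr 1
    rw [← c.out_eq', ← c'.out_eq', QuotientGroup.eq, MulAction.mem_stabilizer_iff, mul_smul, ← e,
      inv_smul_smul]
  · obtain ⟨k, hk⟩ : q ∈ MulAction.orbit K (Quotient.mk'' q : MulAction.orbitRel.Quotient K Q).out :=
      (MulAction.orbitRel K Q).symm (Quotient.mk_out' q)
    refine ⟨⟨Quotient.mk'' q, (k : K ⧸ _)⟩, ?_⟩
    obtain ⟨u, hu⟩ := QuotientGroup.mk_out_eq_mul (MulAction.stabilizer K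
      (Quotient.mk'' q : MulAction.orbitRel.Quotient K Q).out) k
    dsimp only
    rw [hu, mul_smul, u.2]
    exact hk

/-- `T` Sylow in `H`, `J` weakly closed in `T`, `T N_H(J) ≤ H0`. -/
theorem norm_fix {H T J H0 : Subgroup G} (hT : T ≤ H0) (h0 : H0 ≤ H) (pT : IsPGroup p T)
    (hs : ¬ p ∣ T.relIndex H) (hJ : J ≤ T) (wc : ∀ h ∈ H, cj h J ≤ T → cj h J = J)
    (hN : ∀ h ∈ H, cj h J = J → h ∈ H0) {W : AddSubgroup M} (hW : Inv H W) (tW : Tors p W)
    (hn : ∀ h ∈ H, ∀ v ∈ fx W H0, p • v = 0 → ¬ J ≤ cj h H0 → nrm J (J ⊓ cj h H0) (h • v) = 0) :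
    fx W H0 ≤ fx W H := by
  have e0 := Subgroup.relIndex_mul_relIndex T H0 H hT h0
  have hJH : J ≤ H := (hJ.trans hT).trans h0
  have h1 : ∀ h ∈ H, J ≤ cj h H0 → h ∈ H0 := fun h hh hle => by
    obtain ⟨k, hk, e⟩ := exists_cj_le hT pT (fun e => hs (e0 ▸ e.mul_right _))
      (cj_le_iff.2 (by rwa [inv_inv])) (isPGroup_cj h⁻¹ (pT.to_le hJ))
    rw [← cj_mul] at e
    have hk' := H.mul_mem (h0 hk) (H.inv_mem hh)
    exact H0.inv_mem_iff.1 ((H0.mul_mem_cancel_left hk).1 (hN _ hk' (wc _ hk' e)))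
  have hm : ∀ v ∈ fx W H0, nrm H H0 v ∈ fx W H := fun v hv =>
    nrm_mem hW (fx_anti W inf_le_right hv)
  have h2 : ∀ v ∈ fx W H0, p • v = 0 → v ∈ fx W H := fun v hv hp => by
    suffices nrm H H0 v = v from this ▸ hm v hv
    let _ : MulAction J (H ⧸ H0.subgroupOf H) := MulAction.compHom _ (Subgroup.inclusion hJH)
    have hst : ∀ q : H ⧸ H0.subgroupOf H,
        MulAction.stabilizer J q = (J ⊓ cj (q.out : G) H0).subgroupOf J := fun q => by
      ext j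
      rw [MulAction.mem_stabilizer_iff, Subgroup.mem_subgroupOf, Subgroup.mem_inf,
        and_iff_right j.2, mem_cj, eq_comm]
      conv_lhs => rw [← q.out_eq']
      exact QuotientGroup.eq.trans (by simp [Subgroup.mem_subgroupOf, mul_assoc])
    have h3 : ∀ q : H ⧸ H0.subgroupOf H, ∑ᶠ c : J ⧸ MulAction.stabilizer J q,
        (((c.out • q).out : H) : G) • v = nrm J (J ⊓ cj (q.out : G) H0) ((q.out : G) • v) := by
      intro q
      rw [hst q]
      refine finsum_congr fun c => ?_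
      rw [← mul_smul, show c.out • q = ((Subgroup.inclusion hJH c.out * q.out : H) :
        H ⧸ H0.subgroupOf H) from (MulAction.Quotient.coe_smul_out _ _ q).symm]
      exact out_smul (fun u hu => hv.2 u hu.2) (Subgroup.inclusion hJH c.out * q.out)
    rw [nrm, finsum_orbits (K := J), finsum_congr fun ω => h3 _,
      finsum_eq_single _ (Quotient.mk'' ((1 : H) : H ⧸ H0.subgroupOf H)) fun ω hω => ?_]
    · obtain ⟨j, hj⟩ := Quotient.mk_out' (s₁ := MulAction.orbitRel J (H ⧸ H0.subgroupOf H))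
        ((1 : H) : H ⧸ H0.subgroupOf H)
      generalize Quotient.out _ = q at hj ⊢
      have h4 : (q.out : G) ∈ H0 := by
        rw [← q.out_eq'] at hj
        have := Subgroup.mem_subgroupOf.1 (QuotientGroup.eq.1 hj)
        exact (H0.mul_mem_cancel_left (H0.inv_mem (hT (hJ j.2)))).1 (by simpa using this)
      rw [hv.2 _ h4, nrm_of_fix _ fun u hu => hv.2 u (hT (hJ hu)), cj_eq_of_mem h4,
        inf_eq_left.2 (hJ.trans hT), Subgroup.relIndex_self, one_smul]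
    · refine hn _ ω.out.out.2 v hv hp fun hle => hω ?_
      rw [← ω.out_eq', ← ω.out.out_eq']
      congr 1
      exact QuotientGroup.eq.2 (by
        simpa [Subgroup.mem_subgroupOf] using h1 _ ω.out.out.2 hle)
  obtain ⟨c, hc⟩ := tW.exists_inv fun e => hs (e0 ▸ Dvd.dvd.mul_left e _)
  obtain ⟨k, hk⟩ := tW
  suffices ∀ i, ∀ v ∈ fx W H0, p ^ i • v = 0 → v ∈ fx W H from fun v hv => this k v hv (hk v hv.1)
  intro i
  induction i with
  | zero => intro v _ h; rw [pow_zero, one_smul] at h; exact h ▸ AddSubgroup.zero_mem _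
  | succ i ih =>
    intro v hv h
    have h3 := ih _ (AddSubgroup.nsmul_mem _ hv p) (by rw [smul_smul, ← pow_succ, h])
    have h4 := AddSubgroup.nsmul_mem _ (hm v hv) c
    have h5 := h2 _ (AddSubgroup.sub_mem _ hv (fx_anti W h0 h4)) (by
      rw [smul_sub, smul_comm, nsmul_nrm H H0 p, nrm_of_fix _ h3.2, hc _ h3.1, sub_self])
    simpa using AddSubgroup.add_mem _ h5 h4

/-- A 1-cocycle on `H` vanishing on a Sylow subgroup is a coboundary. -/
theorem cocycle_cob {H T : Subgroup G} (hT : T ≤ H) (hs : ¬ p ∣ T.relIndex H) {W : AddSubgroup M}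
    (hW : Inv H W) (tW : Tors p W) (t : G → M) (hm : ∀ h ∈ H, t h ∈ W)
    (hc : ∀ g ∈ H, ∀ h ∈ H, t (g * h) = t g + g • t h) (h0 : ∀ s ∈ T, t s = 0) :
    ∃ u ∈ fx W T, ∀ h ∈ H, t h = h • u - u := by
  obtain ⟨c, hc'⟩ := tW.exists_inv hs
  have := Fintype.ofFinite (H ⧸ T.subgroupOf H)
  have h1 : ∀ j : H, t ((j : H ⧸ T.subgroupOf H).out : H) = t j := fun j => by
    obtain ⟨u, hu⟩ := QuotientGroup.mk_out_eq_mul (T.subgroupOf H) j
    rw [hu, Subgroup.coe_mul, hc _ j.2 _ u.1.2, h0 (u : H) u.2, smul_zero, add_zero]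
  have key : ∀ h ∈ H, t h = h • -(c • ∑ q : H ⧸ T.subgroupOf H, t (q.out : H)) -
      -(c • ∑ q : H ⧸ T.subgroupOf H, t (q.out : H)) := fun h hh => by
    have h2 := (bijective_mul_out (J0 := T) ⟨h, hh⟩).sum_comp fun q => t (q.out : H)
    simp only [h1, Subgroup.coe_mul, hc h hh _ (Subtype.prop _), Finset.sum_add_distrib,
      Finset.sum_const, Finset.card_univ, ← Finset.smul_sum, ← Nat.card_eq_fintype_card] at h2
    rw [smul_neg, neg_sub_neg, smul_comm h, ← smul_sub, sub_eq_iff_eq_add.2 h2.symm]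
    exact (hc' _ (hm h hh)).symm
  refine ⟨_, ⟨W.neg_mem (W.nsmul_mem (W.sum_mem fun q _ => hm _ q.out.2) c), fun s hs' => ?_⟩, key⟩
  exact sub_eq_zero.1 ((key s (hT hs')).symm.trans (h0 s hs'))

theorem exists_sub_zsmul_mem {C D : AddSubgroup M} (hC : C ≤ D) (hi : C.relIndex D = p) {v w : M}
    (hv : v ∈ D) (hv' : v ∉ C) (hw : w ∈ D) : ∃ k : ℤ, w - k • v ∈ C := by
  have h1 := AddSubgroup.relIndex_mul_relIndex C (C ⊔ AddSubgroup.zmultiples v) D le_sup_left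
    (sup_le hC ((AddSubgroup.zmultiples_le).2 hv))
  rw [hi] at h1
  have h2 := ((Nat.dvd_prime Fact.out).1 (Dvd.intro_left _ h1)).resolve_right fun e => by
    rw [e, Nat.mul_eq_right (Fact.out : p.Prime).ne_zero, AddSubgroup.relIndex_eq_one] at h1
    exact hv' (h1 (AddSubgroup.mem_sup_right (AddSubgroup.mem_zmultiples v)))
  obtain ⟨c, hc, _, ⟨k, rfl⟩, rfl⟩ := AddSubgroup.mem_sup.1 (AddSubgroup.relIndex_eq_one.1 h2 hw)
  exact ⟨k, by simpa using hc⟩

theorem TV.sum_zero (hp : p ≠ 2) {D : AddSubgroup M} {A : Subgroup G} (hD : Inv A D)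
    (hA : TV p D A) {a : G} (ha : a ∈ A) {v : M} (hv : v ∈ D) (h0 : p • v = 0) :
    ∑ i ∈ Finset.range p, a ^ i • v = 0 := by
  have hpr : p.Prime := Fact.out
  have h1 : p • (a • v - v) = 0 := by rw [smul_sub, smul_comm, h0, smul_zero, sub_zero]
  have h2 : a • (a • v - v) = a • v - v := by
    by_cases hv' : v ∈ fx D A
    · rw [hv'.2 a ha, sub_self, smul_zero]
    obtain ⟨k, hk⟩ := exists_sub_zsmul_mem (fx_le D A) hA.2.2.2 hv hv' (hD a ha v hv)
    have h3 : a • (a • v - v) = k • (a • v - v) := by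
      have := hk.2 a ha
      rw [smul_sub, smul_comm a k] at this
      rw [smul_sub, smul_sub, sub_eq_sub_iff_sub_eq_sub, this]
    have h4 : ∀ n : ℕ, a ^ n • (a • v - v) = k ^ n • (a • v - v) := fun n => by
      induction n with
      | zero => simp
      | succ n ih => rw [pow_succ, mul_smul, h3, smul_comm, ih, pow_succ', mul_smul]
    obtain ⟨j, hj⟩ := H9.exists_pow_eq_one hA.2.1 ha
    obtain ⟨t, ht⟩ : (p : ℤ) ∣ k ^ p ^ j - k := by
      rw [← ZMod.intCast_zmod_eq_zero_iff_dvd]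
      push_cast
      rw [ZMod.pow_card_pow, sub_self]
    have h5 := h4 (p ^ j)
    rw [hj, one_smul, sub_eq_iff_eq_add.1 ht, add_smul, mul_comm, mul_smul, natCast_zsmul, h1,
      smul_zero, zero_add] at h5
    rw [h3, ← h5]
  have h3 : ∀ i : ℕ, a ^ i • v = v + i • (a • v - v) := fun i => by
    induction i with
    | zero => simp
    | succ i ih => rw [pow_succ', mul_smul, ih, smul_add, smul_comm a i, h2, succ_nsmul]; abel
  obtain ⟨t, ht⟩ := H9.dvd_choose_two_of_odd (hpr.odd_of_ne_two hp)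
  rw [Finset.sum_congr rfl fun i _ => h3 i, Finset.sum_add_distrib, Finset.sum_const,
    Finset.card_range, h0, zero_add, ← Finset.sum_smul, Finset.sum_range_id, ← Nat.choose_two_right,
    ht, mul_comm, mul_smul, h1, smul_zero]

theorem base0 (hp : p ≠ 2) (hX : PX p G X) {Γ Y : Subgroup G} {D : AddSubgroup M}
    (h : Red p Γ Y D) : Van X Γ (Q0 D Y) 0 (fx D) (fun _ => ⊥) := by
  classical
  intro f hf hf1 hf2
  have := h.fin
  have hU := h.toGen.up_Q0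
  obtain ⟨S, hS⟩ := H1.exists_isSylowIn p Γ
  obtain ⟨x0, hx0⟩ := hX.fix S hS.isPGroup
  have e0 : St Γ [x0] = S := hS.eq_of_le (hX.isPGroup_St Γ (by simp)) (St_le _ _)
    fun g hg => ⟨hS.le hg, by simpa using hx0 g hg⟩
  have e1 : ∀ γ ∈ Γ, St Γ [γ • x0] = cj γ S := fun γ hγ => e0 ▸ St_tr hγ [x0]
  have e2 : ∀ x : X, ∃ γ ∈ Γ, St Γ [x] ≤ cj γ S := fun x => by
    obtain ⟨k, hk, e⟩ := exists_cj_le hS.le hS.isPGroup hS.not_dvd
      (St_le _ _) (hX.isPGroup_St Γ (l := [x]) (by simp))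
    exact ⟨k⁻¹, Γ.inv_mem hk, cj_le_iff.1 e⟩
  have e3 : ∀ x y : X, ∀ P ∈ Q0 D Y, P ≤ St Γ [x] → P ≤ St Γ [y] → f [y] = f [x] := by
    intro x y P hP h1 h2
    have := hf2 [x, y] rfl (hU.up P hP _ (fun g hg => ⟨(h1 hg).1, by
      simpa using ⟨(h1 hg).2 x (by simp), (h2 hg).2 y (by simp)⟩⟩) (St_le _ _))
    rwa [d_two, AddSubgroup.mem_bot, sub_eq_zero] at this
  by_cases hSQ : S ∈ Q0 D Y
  swap
  · refine ⟨0, Eqv.zero _, fun l _ _ => AddSubgroup.zero_mem _, fun l hl hlQ => (hSQ ?_).elim⟩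
    obtain ⟨x, rfl⟩ := List.length_eq_one_iff.1 hl
    obtain ⟨γ, hγ, e⟩ := e2 x
    simpa using hU.inv γ⁻¹ (Γ.inv_mem hγ) _ (hU.up _ hlQ _ e (cj_le_of_mem hγ hS.le))
      (cj_le_of_mem hγ hS.le)
  have hm : f [x0] ∈ fx D S := e0 ▸ hf1 [x0] rfl (e0 ▸ hSQ)
  have e4 : ∀ γ ∈ Γ, f [γ • x0] = γ • f [x0] := fun γ hγ => hf γ hγ [x0]
  suffices hm' : f [x0] ∈ fx D Γ by
    refine ⟨fun l => if l = [] then f [x0] else 0, fun γ hγ l => ?_, fun l hl _ => ?_,
      fun l hl hlQ => ?_⟩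
    · cases l with
      | nil => simp [hm'.2 γ hγ]
      | cons a l => simp
    · obtain rfl := List.length_eq_zero_iff.1 hl
      simpa using hm'
    · obtain ⟨x, rfl⟩ := List.length_eq_one_iff.1 hl
      obtain ⟨γ, hγ, e⟩ := e2 x
      rw [AddSubgroup.mem_bot, Pi.sub_apply, d_one, if_pos rfl,
        ← e3 x (γ • x0) _ hlQ le_rfl (e1 γ hγ ▸ e), e4 γ hγ, hm'.2 γ hγ, sub_self]
  set J := Y ⊔ sSup {A | A ≤ S ∧ (NG p D A ∨ TV p D A)} with hJ
  have hJS : J ≤ S := sup_le hSQ.1 (sSup_le fun _ hA => hA.1)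
  have pJ := hS.isPGroup.to_le hJS
  have hJQ : J ∈ Q0 D Y := by
    obtain ⟨-, A, k1, k2, k3⟩ := (h.mem_Q0 hS.le hS.isPGroup).1 hSQ
    obtain ⟨A', l1, l2⟩ := k2.exists_min h.tors k3 (hS.isPGroup.to_le k1)
    exact (h.mem_Q0 (hJS.trans hS.le) pJ).2 ⟨le_sup_left, A',
      (le_sSup (by exact ⟨l1.trans k1, l2⟩)).trans le_sup_right,
      l2.elim (fun l => ⟨l.1, l.2.1⟩) fun l => ⟨l.1, l.not_le⟩⟩
  refine norm_fix (H0 := Γ ⊓ MulAction.stabilizer G (f [x0])) (le_inf hS.le hm.2) inf_le_left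
    hS.isPGroup hS.not_dvd hJS (fun γ hγ hle => ?_) (fun γ hγ e => ⟨hγ, ?_⟩) h.inv h.tors
    (fun γ hγ v hv hpv hne => ?_) ⟨hm.1, fun u hu => hu.2⟩
  · refine Subgroup.eq_of_le_of_card_ge ?_ (card_cj γ J).ge
    rw [cj_le_iff]
    refine sup_le (cj_le_iff.1 ((h.nrm γ hγ).le.trans le_sup_left)) (sSup_le fun A hA => ?_)
    refine cj_le_iff.1 ((le_sSup ?_).trans le_sup_right)
    exact ⟨(cj_mono γ ((le_sSup hA).trans le_sup_right)).trans hle,
      hA.2.imp (NG.cj h.inv hγ) (TV.cj h.inv hγ)⟩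
  · change γ • f [x0] = f [x0]
    rw [← e4 γ hγ]
    exact e3 _ _ J hJQ (e0 ▸ hJS) (by rw [e1 γ hγ, ← e]; exact cj_mono γ hJS)
  · have hJD : Inv J D := fun g hg => h.inv g (hS.le (hJS hg))
    refine nrm_eq_zero pJ (inf_lt_left.2 hne) hJD (fx_anti D inf_le_right (smul_mem_fx h.inv hγ hv))
      (by rw [smul_comm, hpv, smul_zero]) fun J1 k1 k2 k3 => ?_
    have k4 : Y ≤ J1 := by
      refine le_trans ?_ k1
      refine le_inf le_sup_left fun y hy => mem_cj.2 ⟨Γ.mul_mem (Γ.mul_mem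
        (Γ.inv_mem hγ) (h.le hy)) hγ, ?_⟩
      change _ • _ = _
      rw [mul_smul, mul_smul, h.triv y hy _ (h.inv γ hγ _ hm.1), inv_smul_smul]
    obtain ⟨A, hA, hA1⟩ : ∃ A ∈ {A | A ≤ S ∧ (NG p D A ∨ TV p D A)}, ¬ A ≤ J1 := by
      by_contra hno
      push Not at hno
      rw [Subgroup.relIndex_eq_one.2 (sup_le k4 (sSup_le hno))] at k3
      exact (Fact.out : p.Prime).one_lt.ne k3
    have hAJ : A ≤ J := (le_sSup hA).trans le_sup_right
    rcases hA.2 with l | l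
    · exact l.norm_zero le_rfl hAJ pJ k2 k3 hA1
    · obtain ⟨a, ha, ha'⟩ := SetLike.not_le_iff_exists.1 hA1
      exact ⟨a, hAJ ha, ha', fun v hv => l.sum_zero hp (fun g hg => hJD g (hAJ hg)) ha hv.1⟩

end Cfsg.Agent.GL
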