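import Cfsg.Agent.Lib.GL.Tv
import Cfsg.Agent.Lib.GL.Norm
import Cfsg.Agent.Lib.GL.Syl
import Cfsg.Agent.Lib.GL.Loc

/-! S5242, row GL-Star (notes/GL.md): solitary transvections. -/

set_option autoImplicit false
set_option linter.unusedSectionVars false
set_option linter.unusedVariables false

namespace Cfsg.Agent.GL

variable {G D : Type*} [Group G] [Finite G] [AddCommGroup D] [Finite D] [DistribMulAction G D]
  [FaithfulSMul G D]

variable (D) in
/-- The transvections in `P`. -/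
def stTS (P : Subgroup G) : Set G := {τ | τ ∈ P ∧ IsTv D τ}

theorem st_eq_of_card {A B : Subgroup G} (h : A ≤ B) (hc : Nat.card B ≤ Nat.card A) : A = B :=
  Subgroup.eq_of_le_of_card_ge h hc

theorem st_cj_eq_of_le {g : G} {A : Subgroup G} (h : cj g A ≤ A) : cj g A = A :=
  st_eq_of_card h (card_cj g A).ge

theorem st_JT_JT (P : Subgroup G) : JT D (JT D P) = JT D P :=
  le_antisymm (JT_le _) ((Subgroup.closure_le _).2 fun τ hτ => mem_JT hτ.2 (mem_JT hτ.2 hτ.1))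

theorem st_JT_wc {T : Subgroup G} {h : G} (hh : cj h (JT D T) ≤ T) : cj h (JT D T) = JT D T := by
  apply st_cj_eq_of_le
  calc cj h (JT D T) = cj h (JT D (JT D T)) := by rw [st_JT_JT]
    _ = JT D (cj h (JT D T)) := (JT_cj h _).symm
    _ ≤ JT D T := JT_mono hh

theorem st_ncard_le {R T : Subgroup G} {g : G} (h : cj g R ≤ T) :
    (stTS D R).ncard ≤ (stTS D T).ncard := by
  refine Set.ncard_le_ncard_of_injOn (fun x => g * x * g⁻¹) (fun x hx => ?_) (fun x _ y _ hxy => ?_)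
    (Set.toFinite _)
  · exact ⟨h (mem_cj_of_mem g hx.1), hx.2.conj g⟩
  · simpa using hxy

theorem st_ncard_cj (g : G) (T : Subgroup G) : (stTS D (cj g T)).ncard = (stTS D T).ncard :=
  le_antisymm (st_ncard_le (g := g⁻¹) (by simp)) (st_ncard_le (g := g) le_rfl)

theorem st_ncard_syl {H T R : Subgroup G} (hT : T ≤ H) (pT : IsPGroup 2 T)
    (hs : ¬ 2 ∣ T.relIndex H) (hR : R ≤ H) (pR : IsPGroup 2 R) :
    (stTS D R).ncard ≤ (stTS D T).ncard := by
  obtain ⟨h, -, hle⟩ := exists_cj_le hT pT hs hR pR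
  exact st_ncard_le hle

theorem st_cj_closure_of_comm {A : Set G} {g : G} (h : ∀ x ∈ A, Commute x g) :
    cj g (Subgroup.closure A) = Subgroup.closure A := by
  apply st_cj_eq_of_le
  rw [cj_le_iff, Subgroup.closure_le]
  intro x hx
  change x ∈ cj g⁻¹ _
  rw [mem_cj, inv_inv, ← (h x hx).eq, mul_inv_cancel_right]
  exact Subgroup.subset_closure hx

theorem st_pgroup_sup {A B : Set G} (pA : IsPGroup 2 (Subgroup.closure A))
    (pB : IsPGroup 2 (Subgroup.closure B)) (h : ∀ x ∈ A, ∀ y ∈ B, Commute x y) :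
    IsPGroup 2 (Subgroup.closure A ⊔ Subgroup.closure B : Subgroup G) := by
  refine isPGroup_sup pA pB fun g hg => ?_
  rw [← mem_normalizer_iff_cj]
  refine (Subgroup.closure_le (Subgroup.normalizer (Subgroup.closure A : Set G))).2 ?_ hg
  intro y hy
  exact mem_normalizer_iff_cj.2 (st_cj_closure_of_comm fun x hx => h x hx y hy)

theorem st_not_commute {τ σ : G} (h : IsTv D τ) (h' : IsTv D σ) (h3 : orderOf (τ * σ) = 3) :
    ¬ Commute τ σ := by
  obtain ⟨φ, c, h⟩ := h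
  obtain ⟨φ', c', h'⟩ := h'
  intro hc
  have h1 := ((h.three_iff h').1 h3).1
  rw [((h.commute_iff h').1 hc).1] at h1
  exact zero_ne_one h1

theorem st_inv_eq {τ : G} (h : IsTv D τ) : τ⁻¹ = τ := by
  obtain ⟨φ, c, h⟩ := h
  exact inv_eq_of_mul_eq_one_right h.mul_self

theorem st_zmod2 (x : ZMod 2) : x = 0 ∨ x = 1 := by
  revert x; decide

/-- The transvections of a 2-group without norm-good offender act quadratically. -/
theorem st_quad {T : Subgroup G} (pT : IsPGroup 2 T) (hng : ¬ HasNG D T) {a b : G}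
    (ha : a ∈ JT D T) (hb : b ∈ JT D T) (v : D) : a • (b • v - v) = b • v - v := by
  induction hb using Subgroup.closure_induction generalizing v with
  | mem b hb =>
    obtain ⟨φ', c', hb'⟩ := hb.2
    have hc : a • c' = c' := by
      induction ha using Subgroup.closure_induction with
      | mem a ha =>
        obtain ⟨φ, c, ha'⟩ := ha.2
        exact ha'.act_zero ((ha'.commute_iff hb').1
          (commute_of_not_hasNG pT hng ha.2 hb.2 ha.1 hb.1)).1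
      | one => simp
      | mul x y _ _ hx hy => rw [mul_smul, hy, hx]
      | inv x _ hx => rw [inv_smul_eq_iff, hx]
    rw [hb'.act, add_sub_cancel_left, smul_comm, hc]
  | one => simp
  | mul x y _ _ hx hy =>
    have : (x * y) • v - v = (x • (y • v) - y • v) + (y • v - v) := by rw [mul_smul]; abel
    rw [this, smul_add, hx, hy]
  | inv x _ hx =>
    have : x⁻¹ • v - v = -(x • (x⁻¹ • v) - x⁻¹ • v) := by rw [smul_inv_smul]; abel
    rw [this, smul_neg, hx]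

theorem st_nrm_two {J J1 : Subgroup G} (pJ : IsPGroup 2 J) (h1 : J1 ≤ J) (hi : J1.relIndex J = 2)
    {a : G} (ha : a ∈ J) (ha' : a ∉ J1) {w : D} (hw : ∀ u ∈ J1, u • w = w) :
    nrm J J1 w = w + a • w := by
  rw [nrm_prime pJ h1 hi ha ha' hw]
  simp [Finset.sum_range_succ]

theorem st_exists_not_mem {J J1 : Subgroup G} (h1 : J1 ≤ J) (hi : J1.relIndex J = 2) :
    ∃ a ∈ J, a ∉ J1 := by
  by_contra! h
  have : J1.relIndex J = 1 := Subgroup.relIndex_eq_one.2 h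
  omega

theorem st_inv_top (H : Subgroup G) : Inv H (⊤ : AddSubgroup D) := fun _ _ _ _ => trivial

/-- A non-zero norm under a quadratic group comes from a subgroup of index 2. -/
theorem st_nrm_ne {J J0 : Subgroup G} (pJ : IsPGroup 2 J) (h0 : J0 < J)
    (hq : ∀ a ∈ J, ∀ b ∈ J, ∀ v : D, a • (b • v - v) = b • v - v) {w : D}
    (hw : ∀ u ∈ J0, u • w = w) (h2 : 2 • w = 0) (hn : nrm J J0 w ≠ 0) :
    ∀ a ∈ J, a ∉ J0 → nrm J J0 w = w + a • w := by
  obtain ⟨J1, h01, h1, hi⟩ := exists_index_prime pJ h0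
  rcases h01.eq_or_lt with rfl | hlt
  · exact fun a ha ha' => st_nrm_two pJ h1 hi ha ha' hw
  exfalso
  apply hn
  have pJ1 : IsPGroup 2 J1 := pJ.to_le h1
  obtain ⟨J2, h02, h21, hi2⟩ := exists_index_prime pJ1 hlt
  obtain ⟨a, ha, ha'⟩ := st_exists_not_mem h1 hi
  obtain ⟨b, hb, hb'⟩ := st_exists_not_mem h21 hi2
  have m2 : nrm J2 J0 w ∈ fx (⊤ : AddSubgroup D) J2 :=
    nrm_mem (st_inv_top _) ⟨trivial, fun u hu => hw u hu.2⟩
  have m1 : nrm J1 J0 w ∈ fx (⊤ : AddSubgroup D) J1 :=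
    nrm_mem (st_inv_top _) ⟨trivial, fun u hu => hw u hu.2⟩
  have e2 : 2 • nrm J2 J0 w = 0 := by
    rw [nsmul_nrm, h2]; simp [nrm]
  rw [nrm_trans h01 h1 hw, st_nrm_two pJ h1 hi ha ha' m1.2, nrm_trans h02 h21 hw,
    st_nrm_two pJ1 h21 hi2 hb hb' m2.2]
  generalize nrm J2 J0 w = x at e2 ⊢
  have e3 : x + b • x = b • x - x := by
    rw [two_smul] at e2
    rw [eq_sub_iff_add_eq, add_comm x, add_assoc, e2, add_zero]
  rw [e3, hq a ha b (h1 hb), ← two_smul ℕ, smul_sub, smul_comm, e2]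
  simp

theorem st_core {H T T' H1 : Subgroup G} (hTH : T ≤ H) (pT : IsPGroup 2 T)
    (hs : ¬ 2 ∣ T.relIndex H) (hng : ¬ HasNG D T) (hT' : T' ≤ H1) (h1 : H1 ≤ H)
    (pT' : IsPGroup 2 T') (hng' : ¬ HasNG D T')
    (hcard : (stTS D T').ncard = (stTS D T).ncard) (h0 : JT D T ⊓ H1 ≤ T')
    (hnle : ¬ JT D T ≤ H1) {w n : D} (h2 : 2 • w = 0) (hn : n ≠ 0)
    (key : ∀ a ∈ JT D T, a ∉ H1 → n = w + a • w) :
    ∃ τ ∈ T, τ ∉ H1 ∧ ∃ τ', Sol D T' τ' τ := by
  have hww : w + w = 0 := by rwa [two_smul] at h2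
  -- transvections of `T` outside `H1` have vector `n`
  have k1 : ∀ τ ∈ T, τ ∉ H1 → ∀ φ c, Tv τ φ c → φ w = 1 ∧ c = n := by
    intro τ hτ hτ1 φ c h
    have e := key τ (mem_JT ⟨φ, c, h⟩ hτ) hτ1
    rcases st_zmod2 (φ w) with h0 | h0
    · rw [h.act_zero h0, hww] at e
      exact absurd e hn
    · rw [h.act_one h0, ← add_assoc, hww, zero_add] at e
      exact ⟨h0, e.symm⟩
  obtain ⟨τ, hτ, hτ1⟩ : ∃ τ ∈ stTS D T, τ ∉ H1 := by
    by_contra! h
    exact hnle ((Subgroup.closure_le _).2 h)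
  obtain ⟨φ, c, tτ⟩ := hτ.2
  obtain ⟨φw, rfl⟩ := k1 τ hτ.1 hτ1 φ c tτ
  -- products of two of them are transvections inside `H1`
  have k2 : ∀ τ2 ∈ stTS D T, τ2 ∉ H1 → τ2 ≠ τ → ∃ ψ, Tv (τ * τ2) ψ c ∧ τ * τ2 ∈ H1 := by
    intro τ2 h2 h21 hne
    obtain ⟨φ2, c2, t2⟩ := h2.2
    obtain ⟨φ2w, rfl⟩ := k1 τ2 h2.1 h21 φ2 c2 t2
    have t3 := tτ.mul_of_eq t2 hne.symm
    refine ⟨_, t3, ?_⟩
    by_contra h3
    have := (k1 _ (T.mul_mem hτ.1 h2.1) h3 _ _ t3).1
    rw [AddMonoidHom.add_apply, φw, φ2w] at this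
    exact absurd this (by decide)
  set A : Set G := {σ | σ ∈ stTS D T ∧ σ ∈ H1} with hA
  have hA' : A ⊆ stTS D T' := fun σ hσ => ⟨h0 ⟨mem_JT hσ.1.2 hσ.1.1, hσ.2⟩, hσ.1.2⟩
  have hτA : τ ∉ A := fun h => hτ1 h.2
  have hins : (insert τ A).ncard ≤ (stTS D T).ncard :=
    Set.ncard_le_ncard (Set.insert_subset hτ fun σ hσ => hσ.1) (Set.toFinite _)
  rw [Set.ncard_insert_of_notMem hτA (Set.toFinite _)] at hins
  -- any transvection of `T'` outside `A` generates with `τ` an `S₃`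
  have k3 : ∀ τ' ∈ stTS D T', τ' ∉ A → orderOf (τ * τ') = 3 := by
    intro τ' hτ' hτ'A
    by_contra h3
    have hτ'T : τ' ∉ T := fun h => hτ'A ⟨⟨h, hτ'.2⟩, hT' hτ'.1⟩
    have pA : IsPGroup 2 (Subgroup.closure A) :=
      pT.to_le ((Subgroup.closure_le _).2 fun σ hσ => hσ.1.1)
    have pR := st_pgroup_sup pA (IsTv.isPGroup hτ.2 hτ'.2 h3) (by
      intro x hx y hy
      rcases hy with rfl | rfl
      · exact commute_of_not_hasNG pT hng hx.1.2 hτ.2 hx.1.1 hτ.1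
      · exact commute_of_not_hasNG pT' hng' hx.1.2 hτ'.2 (hA' hx).1 hτ'.1)
    set R := Subgroup.closure A ⊔ Subgroup.closure {τ, τ'} with hR
    have hRH : R ≤ H := by
      refine sup_le ((Subgroup.closure_le _).2 fun σ hσ => hTH hσ.1.1)
        ((Subgroup.closure_le _).2 ?_)
      rintro σ (rfl | rfl)
      · exact hTH hτ.1
      · exact h1 (hT' hτ'.1)
    have hle := st_ncard_syl (D := D) hTH pT hs hRH pR
    have mA : ∀ σ ∈ A, σ ∈ R := fun σ hσ =>
      (le_sup_left : _ ≤ R) (Subgroup.subset_closure hσ)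
    have mτ : τ ∈ R := (le_sup_right : _ ≤ R) (Subgroup.subset_closure (by simp))
    have mτ' : τ' ∈ R := (le_sup_right : _ ≤ R) (Subgroup.subset_closure (by simp))
    have hsub : insert τ' (stTS D T) ⊆ stTS D R := by
      refine Set.insert_subset ⟨mτ', hτ'.2⟩ fun σ hσ => ⟨?_, hσ.2⟩
      by_cases hσ1 : σ ∈ H1
      · exact mA σ ⟨hσ, hσ1⟩
      by_cases hστ : σ = τ
      · exact hστ ▸ mτ
      obtain ⟨ψ, t3, h3⟩ := k2 σ hσ hσ1 hστ
      have := mA _ ⟨⟨T.mul_mem hτ.1 hσ.1, _, _, t3⟩, h3⟩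
      exact (R.mul_mem_cancel_left mτ).1 this
    have := Set.ncard_le_ncard hsub (Set.toFinite _)
    rw [Set.ncard_insert_of_notMem (fun h => hτ'T h.1) (Set.toFinite _)] at this
    omega
  obtain ⟨τ', hτ', hτ'A⟩ : ∃ τ' ∈ stTS D T', τ' ∉ A := by
    by_contra! h
    have := Set.ncard_le_ncard (show stTS D T' ⊆ A from h) (Set.toFinite _)
    omega
  have h3 := k3 τ' hτ' hτ'A
  obtain ⟨φ', c', tτ'⟩ := hτ'.2
  have hφ'c := ((tτ.three_iff tτ').1 h3).2
  have k4 : stTS D T ⊆ insert τ A := by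
    intro σ hσ
    by_contra hσ'
    have hστ : σ ≠ τ := fun h => hσ' (Or.inl h)
    have hσ1 : σ ∉ H1 := fun h => hσ' (Or.inr ⟨hσ, h⟩)
    obtain ⟨ψ, t3, h3⟩ := k2 σ hσ hσ1 hστ
    have hm : τ * σ ∈ A := ⟨⟨T.mul_mem hτ.1 hσ.1, _, _, t3⟩, h3⟩
    have := ((t3.commute_iff tτ').1
      (commute_of_not_hasNG pT' hng' ⟨_, _, t3⟩ hτ'.2 (hA' hm).1 hτ'.1)).2
    rw [this] at hφ'c
    exact zero_ne_one hφ'c
  have hc4 := Set.ncard_le_ncard k4 (Set.toFinite _)
  rw [Set.ncard_insert_of_notMem hτA (Set.toFinite _)] at hc4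
  refine ⟨τ, hτ.1, hτ1, τ', hτ'.1, hτ'.2, hτ.2, ?_, fun σ hσ hσt hne => ?_⟩
  · exact (tτ'.three_iff tτ).2 ((tτ.three_iff tτ').1 h3).symm
  · by_cases hσA : σ ∈ A
    · exact commute_of_not_hasNG pT hng hσt hτ.2 hσA.1.1 hτ.1
    exfalso
    have hsub : insert σ (insert τ' A) ⊆ stTS D T' :=
      Set.insert_subset ⟨hσ, hσt⟩ (Set.insert_subset hτ' hA')
    have := Set.ncard_le_ncard hsub (Set.toFinite _)
    rw [Set.ncard_insert_of_notMem (by rintro (h | h); exacts [hne h, hσA h]) (Set.toFinite _),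
      Set.ncard_insert_of_notMem hτ'A (Set.toFinite _)] at this
    omega

theorem st_hasNG_cj {P : Subgroup G} (h : HasNG D P) (g : G) : HasNG D (cj g P) :=
  let ⟨A, h1, h2⟩ := h
  ⟨cj g A, cj_mono g h1, h2.cj (st_inv_top ⊤) (Subgroup.mem_top g)⟩

theorem st_hasNG_cj_iff {P : Subgroup G} {g : G} : HasNG D (cj g P) ↔ HasNG D P :=
  ⟨fun h => by simpa using st_hasNG_cj h g⁻¹, fun h => st_hasNG_cj h g⟩

/-- The failure of the norm argument produces a solitary transvection. -/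
theorem star (tD : Tors 2 (⊤ : AddSubgroup D)) {H T H0 : Subgroup G} (hT : T ≤ H0) (h0 : H0 ≤ H)
    (pT : IsPGroup 2 T) (hs : ¬ 2 ∣ T.relIndex H) (hng : ¬ HasNG D T)
    (hN : ∀ h ∈ H, cj h (JT D T) = JT D T → h ∈ H0) {W : AddSubgroup D} (hW : Inv H W)
    (hne : ¬ fx W H0 ≤ fx W H) : ∃ ρ, ∃ ρ' ∈ H, ρ' ∉ H0 ∧ Sol D T ρ ρ' := by
  by_contra hcon
  apply hne
  have tW : Tors 2 W := let ⟨k, hk⟩ := tD; ⟨k, fun m _ => hk m trivial⟩
  refine norm_fix hT h0 pT hs (JT_le T) (fun h _ hh => st_JT_wc hh) hN hW tW ?_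
  intro h hh v hv h2 hJ
  by_contra hn
  apply hcon
  have pJ : IsPGroup 2 (JT D T) := pT.to_le (JT_le T)
  have hlt : JT D T ⊓ cj h H0 < JT D T :=
    lt_of_le_of_ne inf_le_left fun e => hJ (e ▸ inf_le_right)
  have hw := (smul_mem_fx hW hh hv).2
  have h2' : 2 • h • v = 0 := by rw [smul_comm, h2, smul_zero]
  have key := st_nrm_ne pJ hlt (fun a ha b hb => st_quad pT hng ha hb)
    (fun u hu => hw u hu.2) h2' hn
  have hs1 : ¬ 2 ∣ (cj h T).relIndex (cj h H0) := by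
    rw [relIndex_cj]; exact (syl_of_le hs hT h0).1
  obtain ⟨h1, hh1, hle⟩ := exists_cj_le (cj_mono h hT) (isPGroup_cj h pT) hs1
    (inf_le_right : JT D T ⊓ cj h H0 ≤ _) (pJ.to_le inf_le_left)
  have hH1 : cj h H0 ≤ H := cj_le_of_mem hh h0
  have hk : cj (h1⁻¹ * h) H0 = cj h H0 := by
    rw [cj_mul, cj_eq_of_mem ((cj h H0).inv_mem hh1)]
  have hkH : h1⁻¹ * h ∈ H := H.mul_mem (H.inv_mem (hH1 hh1)) hh
  rw [cj_le_iff, ← cj_mul] at hle
  generalize h1⁻¹ * h = k at hk hkH hle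
  obtain ⟨τ, hτ, hτ1, τ', hsol⟩ := st_core (T' := cj k T) (hT.trans h0) pT hs hng
    (hk ▸ cj_mono k hT) hH1 (isPGroup_cj k pT) (fun e => hng (st_hasNG_cj_iff.1 e))
    (st_ncard_cj k T) hle hJ h2' hn (fun a ha ha' => key a ha fun e => ha' e.2)
  have := hsol.conj k⁻¹
  rw [cj_inv_cj] at this
  refine ⟨_, _, H.mul_mem (H.mul_mem (H.inv_mem hkH) (h0 (hT hτ))) (H.inv_mem (H.inv_mem hkH)),
    fun e => hτ1 ?_, this⟩
  rw [← hk, mem_cj]
  simpa using e

theorem st_syl_top (S : Sylow 2 G) : ¬ 2 ∣ (S : Subgroup G).relIndex ⊤ := by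
  rw [Subgroup.relIndex_top_right]; exact S.not_dvd_index

theorem st_partner_three (S : Sylow 2 G) (hng : ¬ HasNG D (S : Subgroup G)) {ρ θ1 θ2 : G}
    (h1 : Sol D S ρ θ1) (h2 : Sol D S ρ θ2) (hne : θ1 ≠ θ2) : orderOf (θ1 * θ2) = 3 := by
  by_contra h3
  have n1 : θ1 ∉ (S : Subgroup G) := fun h => st_not_commute h1.tv h1.tv' h1.three
    (commute_of_not_hasNG S.isPGroup' hng h1.tv h1.tv' h1.mem h)
  have n2 : θ2 ∉ (S : Subgroup G) := fun h => st_not_commute h2.tv h2.tv' h2.three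
    (commute_of_not_hasNG S.isPGroup' hng h2.tv h2.tv' h2.mem h)
  set A : Set G := stTS D S \ {ρ} with hA
  have pA : IsPGroup 2 (Subgroup.closure A) :=
    S.isPGroup'.to_le ((Subgroup.closure_le _).2 fun σ hσ => hσ.1.1)
  have pR := st_pgroup_sup pA (IsTv.isPGroup h1.tv' h2.tv' h3) (by
    intro x hx y hy
    rcases hy with rfl | rfl
    · exact h1.comm x hx.1.1 hx.1.2 hx.2
    · exact h2.comm x hx.1.1 hx.1.2 hx.2)
  set R := Subgroup.closure A ⊔ Subgroup.closure {θ1, θ2} with hR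
  have hle := st_ncard_syl (D := D) le_top S.isPGroup' (st_syl_top S) le_top pR
  have hsub : insert θ1 (insert θ2 A) ⊆ stTS D R := by
    refine Set.insert_subset ⟨(le_sup_right : _ ≤ R) (Subgroup.subset_closure (by simp)), h1.tv'⟩
      (Set.insert_subset ⟨(le_sup_right : _ ≤ R) (Subgroup.subset_closure (by simp)), h2.tv'⟩
        fun σ hσ => ⟨(le_sup_left : _ ≤ R) (Subgroup.subset_closure hσ), hσ.1.2⟩)
  have := Set.ncard_le_ncard hsub (Set.toFinite _)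
  rw [Set.ncard_insert_of_notMem (by rintro (h | h); exacts [hne h, n1 h.1.1]) (Set.toFinite _),
    Set.ncard_insert_of_notMem (fun h => n2 h.1.1) (Set.toFinite _)] at this
  have h4 := Set.ncard_sdiff_singleton_add_one (show ρ ∈ stTS D S from ⟨h1.mem, h1.tv⟩)
    (Set.toFinite _)
  rw [← hA] at h4
  omega

theorem Sol.st_other {T : Subgroup G} {ρ ρ' : G} (h : Sol D T ρ ρ') : Sol D T ρ (ρ * ρ' * ρ) := by
  have := h.conj ρ
  rwa [cj_eq_of_mem h.mem, mul_inv_cancel_right, st_inv_eq h.tv] at this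

/-- A solitary transvection of a Sylow subgroup has exactly two partners. -/
theorem Sol.partner (S : Sylow 2 G) (hng : ¬ HasNG D (S : Subgroup G)) {ρ ρ' θ : G}
    (h : Sol D S ρ ρ') (h' : Sol D S ρ θ) : θ = ρ' ∨ θ = ρ * ρ' * ρ := by
  by_contra! hc
  obtain ⟨φ, c, t1⟩ := h.tv
  obtain ⟨φ', c', t2⟩ := h.tv'
  obtain ⟨ψ, e, t3⟩ := h'.tv'
  have a1 := (t1.three_iff t2).1 h.three
  have t4 := t1.third t2 a1.1 a1.2
  have a2 := ((t1.three_iff t3).1 h'.three).2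
  have a3 := ((t2.three_iff t3).1 (st_partner_three S hng h h' hc.1.symm)).2
  have a4 := ((t4.three_iff t3).1 (st_partner_three S hng h.st_other h' hc.2.symm)).2
  rw [map_add, a2, a3] at a4
  exact absurd a4 (by decide)

theorem st_conj_ne {τ s : G} (h : ¬ Commute s τ) : s * τ * s⁻¹ ≠ τ := fun e =>
  h (by rw [Commute, SemiconjBy, ← mul_inv_eq_iff_eq_mul, e])

/-- If all transvections of `T` are solitary, there is no further offender in `S`. -/
theorem all_in (tD : Tors 2 (⊤ : AddSubgroup D)) {S T : Subgroup G} (pS : IsPGroup 2 S) (hT : T ≤ S)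
    (hng : ¬ HasNG D T) (hsol : ∀ τ ∈ T, IsTv D τ → ∃ τ', Sol D T τ τ')
    (hfix : ∀ s ∈ S, (∀ τ ∈ T, IsTv D τ → Commute s τ) → s ∈ T) :
    (∀ τ ∈ S, IsTv D τ → τ ∈ T) ∧ ¬ HasNG D S := by
  have pT : IsPGroup 2 T := pS.to_le hT
  set N : Subgroup G := S ⊓ Subgroup.normalizer (JT D T : Set G) with hNdef
  have hNT : ∀ g ∈ N, ∀ τ ∈ T, IsTv D τ → g * τ * g⁻¹ ∈ T := by
    intro g hg τ hτ ht
    have := mem_cj_of_mem g (mem_JT ht hτ)
    rw [mem_normalizer_iff_cj.1 hg.2] at this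
    exact JT_le T this
  have hTN : T ≤ N := fun g hg => ⟨hT hg, mem_normalizer_iff_cj.2 (by
    rw [← JT_cj, cj_eq_of_mem hg])⟩
  -- partner functional detects the centraliser
  have hdet : ∀ {τ τ' : G} {φ φ' : D →+ ZMod 2} {c c' : D}, Tv τ φ c → Tv τ' φ' c' →
      Sol D T τ τ' → ∀ g ∈ N, ¬ Commute g τ → φ' (g • c) = 0 := by
    intro τ τ' φ φ' c c' t1 t2 hs g hg hne
    exact (((t1.conj g).commute_iff t2).1 (hs.comm _ (hNT g hg τ hs.mem hs.tv) (hs.tv.conj g)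
      (st_conj_ne hne))).2
  have ha : ∀ σ ∈ N, IsTv D σ → σ ∈ T := by
    intro σ hσ ht
    refine hfix σ hσ.1 fun τ hτ hτt => ?_
    by_contra hne
    obtain ⟨τ', hs⟩ := hsol τ hτ hτt
    obtain ⟨φ, c, t1⟩ := hτt
    obtain ⟨φ', c', t2⟩ := hs.tv'
    obtain ⟨ψ, e, t3⟩ := ht
    have a1 := ((t1.three_iff t2).1 hs.three).2
    have a2 := hdet t1 t2 hs σ hσ hne
    have m2 := hNT σ hσ τ hτ ⟨_, _, t1⟩
    have t4 := t1.conj σ
    have a3 := ((t1.commute_iff t4).1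
      (commute_of_not_hasNG pT hng ⟨_, _, t1⟩ ⟨_, _, t4⟩ hτ m2)).1
    have a4 : φ e = 0 := by
      rcases st_zmod2 (ψ c) with h0 | h0
      · rw [t3.act_zero h0, a1] at a2
        exact absurd a2 one_ne_zero
      · rwa [t3.act_one h0, map_add, t1.ker, zero_add] at a3
    have a5 : φ.comp (DistribSMul.toAddMonoidHom D σ⁻¹) = φ := by
      ext v
      rw [st_inv_eq ⟨_, _, t3⟩]
      change φ (σ • v) = φ v
      rw [t3.act, map_add, map_nsmul, a4, smul_zero, add_zero]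
    rw [a5] at t4
    exact hng (t1.hasNG t4 (st_conj_ne hne).symm hτ m2)
  have hb : ¬ HasNG D N := by
    rintro ⟨A, hAN, hA⟩
    obtain ⟨a0, ha0, ha0T⟩ : ∃ a ∈ A, a ∉ T := by
      by_contra! h
      exact hng ⟨A, h, hA⟩
    obtain ⟨τ, hτ, hτt, hne⟩ : ∃ τ ∈ T, IsTv D τ ∧ ¬ Commute a0 τ := by
      by_contra! h
      exact ha0T (hfix a0 (hAN ha0).1 h)
    obtain ⟨τ', hs⟩ := hsol τ hτ hτt
    obtain ⟨φ, c, t1⟩ := hτt
    obtain ⟨φ', c', t2⟩ := hs.tv'
    have a1 := ((t1.three_iff t2).1 hs.three).2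
    set B : Subgroup G := A ⊓ Subgroup.centralizer {τ} with hB
    have mB : ∀ g, g ∈ B ↔ g ∈ A ∧ Commute g τ := fun g => by
      rw [hB, Subgroup.mem_inf, Subgroup.mem_centralizer_singleton_iff]; rfl
    have hBA : B < A := lt_of_le_of_ne inf_le_left fun e => hne ((mB a0).1 (e ▸ ha0)).2
    obtain ⟨A0, hB0, h0A, hi⟩ := exists_index_prime hA.2.2.1 hBA
    have hBc : ∀ g ∈ B, g • c = c := by
      intro g hg
      have t4 := t1.conj g
      rw [((mB g).1 hg).2.eq, mul_inv_cancel_right] at t4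
      exact (t4.unique t1).2
    have hv : nrm A0 B c ∈ fx (⊤ : AddSubgroup D) A :=
      hA.2.2.2 A0 h0A hi (nrm_mem (st_inv_top _) ⟨trivial, fun u hu => hBc u hu.2⟩)
    obtain ⟨a, ha, ha'⟩ := st_exists_not_mem h0A hi
    have hval : ∀ g ∈ A, g ∉ B → φ' (g • c) = 0 := fun g hg hgB =>
      hdet t1 t2 hs g (hAN hg) fun e => hgB ((mB g).2 ⟨hg, e⟩)
    have e1 : ∀ g : G, φ' (g • nrm A0 B c) =
        ∑ᶠ q : A0 ⧸ B.subgroupOf A0, φ' ((g * ((q.out : A0) : G)) • c) := by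
      intro g
      have := (φ'.comp (DistribSMul.toAddMonoidHom D g)).map_finsum
        (f := fun q : A0 ⧸ B.subgroupOf A0 => ((q.out : A0) : G) • c) (Set.toFinite _)
      simpa [nrm, mul_smul] using this
    have e2 : φ' (a • nrm A0 B c) = 0 := by
      rw [e1]
      refine finsum_eq_zero_of_forall_eq_zero fun q => hval _ (A.mul_mem ha (h0A q.out.2)) fun e => ?_
      exact ha' ((A0.mul_mem_cancel_right q.out.2).1 (hB0 e))
    have e3 : φ' ((1 : G) • nrm A0 B c) = 1 := by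
      have hq : ∀ q : A0 ⧸ B.subgroupOf A0, ((q.out : A0) : G) ∈ B ↔
          q = ((1 : A0) : A0 ⧸ B.subgroupOf A0) := fun q => by
        rw [← Subgroup.mem_subgroupOf, eq_comm]
        conv_rhs => rw [← QuotientGroup.out_eq' q, QuotientGroup.eq, inv_one, one_mul]
      rw [e1, finsum_eq_single _ ((1 : A0) : A0 ⧸ B.subgroupOf A0)]
      · rw [one_mul, hBc _ ((hq _).2 rfl), a1]
      · intro q hq1
        rw [one_mul]
        exact hval _ (h0A q.out.2) fun e => hq1 ((hq q).1 e)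
    rw [hv.2 a ha] at e2
    rw [one_smul, e2] at e3
    exact zero_ne_one e3
  have hJ : JT D N = JT D T :=
    le_antisymm ((Subgroup.closure_le _).2 fun σ hσ => mem_JT hσ.2 (ha σ hσ.1 hσ.2)) (JT_mono hTN)
  have hNS : N = S := eq_of_normalizer_le pS inf_le_left fun g hg e =>
    ⟨hg, mem_normalizer_iff_cj.2 (by rw [← hJ, ← JT_cj, e])⟩
  rw [hNS] at ha hb
  exact ⟨ha, hb⟩

end Cfsg.Agent.GL
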