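import Cfsg.Agent.Lib.GL.Star

/-! S5242, row GL-T2 (notes/GL.md): partial 1-cocycles for `p = 2`. -/

set_option autoImplicit false
set_option linter.unusedSectionVars false
set_option linter.unusedVariables false

namespace Cfsg.Agent.GL

variable {G D : Type*} [Group G] [Finite G] [AddCommGroup D] [Finite D] [DistribMulAction G D]
  [FaithfulSMul G D]

/-- Partial cocycles. -/
structure T2PC (S : Subgroup G) (t : G → D) : Prop where
  h0 : ∀ s ∈ S, t s = 0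
  hc : ∀ g h : G, Off D (S ⊓ cj g S ⊓ cj (g * h) S) → t (g * h) = t g + g • t h

/-- `N_S(Q)`. -/
def t2N (S Q : Subgroup G) : Subgroup G := S ⊓ Subgroup.normalizer (Q : Set G)

theorem mem_t2N {S Q : Subgroup G} {g : G} : g ∈ t2N S Q ↔ g ∈ S ∧ cj g Q = Q := by
  rw [t2N, Subgroup.mem_inf, mem_normalizer_iff_cj]

theorem le_t2N {S Q : Subgroup G} (h : Q ≤ S) : Q ≤ t2N S Q := fun g hg =>
  mem_t2N.2 ⟨h hg, cj_eq_of_mem hg⟩

theorem t2_card_lt {A B : Subgroup G} (h : A < B) : Nat.card A < Nat.card B :=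
  lt_of_not_ge fun hc => h.ne (st_eq_of_card h.le hc)

theorem lt_t2N {S Q : Subgroup G} (pS : IsPGroup 2 S) (h : Q < S) : Q < t2N S Q := by
  obtain ⟨g, hg, e, hgQ⟩ := exists_normalizer_of_lt pS h
  exact lt_of_le_of_ne (le_t2N h.le) fun e' => hgQ (e' ▸ mem_t2N.2 ⟨hg, e⟩)

theorem t2_cj_conj {Q : Subgroup G} {n : G} (hn : cj n Q = Q) (β : G) :
    cj (β⁻¹ * n * β) (cj β⁻¹ Q) = cj β⁻¹ Q := by
  rw [cj_mul, cj_cj_inv, cj_mul, hn]

/-- Transport of a subgroup of `N(Q)` into `S`. -/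
theorem t2_cj_le_t2N {S Q R : Subgroup G} {β : G} (hR : R ≤ Subgroup.normalizer (Q : Set G))
    (hβ : cj β⁻¹ R ≤ S) : cj β⁻¹ R ≤ t2N S (cj β⁻¹ Q) := by
  refine le_inf hβ ?_
  rw [← cj_normalizer]
  exact cj_mono _ hR

variable {S : Subgroup G} {t : G → D}

theorem T2PC.coc (h : T2PC S t) {Q : Subgroup G} (hQ : Off D Q) {g k : G} (h1 : Q ≤ S)
    (h2 : Q ≤ cj g S) (h3 : Q ≤ cj (g * k) S) : t (g * k) = t g + g • t k :=
  h.hc g k (hQ.mono (le_inf (le_inf h1 h2) h3))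

theorem T2PC.sub (h : T2PC S t) {u : D} (hu : ∀ s ∈ S, s • u = u) :
    T2PC S (fun g => t g - (g • u - u)) where
  h0 s hs := by simp [h.h0 s hs, hu s hs]
  hc g k ho := by
    rw [h.hc g k ho, mul_smul, smul_sub, smul_sub]; abel

theorem t2_le_cj {Q : Subgroup G} (h1 : Q ≤ S) {g : G} (hg : cj g Q = Q) : Q ≤ cj g S :=
  hg ▸ cj_mono g h1

theorem T2PC.cocN (h : T2PC S t) {Q : Subgroup G} (hQ : Off D Q) (h1 : Q ≤ S) {g k : G}
    (hg : cj g Q = Q) (hk : cj k Q = Q) : t (g * k) = t g + g • t k :=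
  h.coc hQ h1 (t2_le_cj h1 hg) (t2_le_cj h1 (by rw [cj_mul, hk, hg]))

theorem T2PC.cob (tD : Tors 2 (⊤ : AddSubgroup D)) (h : T2PC S t) {Q T : Subgroup G}
    (hQ : Off D Q) (h1 : Q ≤ S) (hT : T ≤ Subgroup.normalizer (Q : Set G)) (hTS : T ≤ S)
    (hs : ¬ 2 ∣ T.relIndex (Subgroup.normalizer (Q : Set G))) :
    ∃ u ∈ fx (⊤ : AddSubgroup D) T, ∀ g, cj g Q = Q → t g = g • u - u := by
  obtain ⟨u, hu, hu'⟩ := cocycle_cob hT hs (st_inv_top _) tD t (fun _ _ => trivial)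
    (fun g hg k hk => h.cocN hQ h1 (mem_normalizer_iff_cj.1 hg) (mem_normalizer_iff_cj.1 hk))
    (fun s hs => h.h0 s (hTS hs))
  exact ⟨u, hu, fun g hg => hu' g (mem_normalizer_iff_cj.2 hg)⟩

/-- Moving `Q` by `β` with `t β = 0`. -/
theorem T2PC.move (h : T2PC S t) {Q : Subgroup G} (hQ : Off D Q) (h1 : Q ≤ S) {β n : G}
    (hβ : Q ≤ cj β S) (tβ : t β = 0) (hn : cj n Q = Q) (tn : t (β⁻¹ * n * β) = 0) :
    t (n * β) = 0 ∧ t n = 0 := by
  have h3 : Q ≤ cj (n * β) S := by rw [cj_mul, ← hn]; exact cj_mono n hβ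
  have e : n * β = β * (β⁻¹ * n * β) := by group
  have e1 : t (n * β) = 0 := by
    have := h.coc hQ (g := β) (k := β⁻¹ * n * β) h1 hβ (e ▸ h3)
    rw [← e, tβ, tn, smul_zero, add_zero] at this
    exact this
  refine ⟨e1, ?_⟩
  have := h.coc hQ h1 (t2_le_cj h1 hn) h3
  rw [e1, tβ, smul_zero, add_zero] at this
  exact this.symm

theorem T2PC.claimA (S : Sylow 2 G) (h : T2PC (S : Subgroup G) t) (m : ℕ)
    (hS : ∀ n, cj n (S : Subgroup G) = S → t n = 0)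
    (hgood : ∀ Q ≤ (S : Subgroup G), Off D Q → m < Nat.card (t2N S Q) →
      ∀ n, cj n Q = Q → t n = 0) (g : G) (ho : Off D ((S : Subgroup G) ⊓ cj g S))
    (hm : m ≤ Nat.card ((S : Subgroup G) ⊓ cj g S : Subgroup G)) : t g = 0 := by
  induction hk : Nat.card (S : Subgroup G) - Nat.card ((S : Subgroup G) ⊓ cj g S : Subgroup G)
    using Nat.strong_induction_on generalizing g with
  | _ k ih =>
  set Q : Subgroup G := (S : Subgroup G) ⊓ cj g S with hQ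
  have ih' : ∀ γ : G, Off D ((S : Subgroup G) ⊓ cj γ S) →
      Nat.card Q < Nat.card ((S : Subgroup G) ⊓ cj γ S : Subgroup G) → t γ = 0 := by
    intro γ hγ hlt
    have := Subgroup.card_le_of_le (inf_le_left : (S : Subgroup G) ⊓ cj γ S ≤ S)
    exact ih _ (by omega) γ hγ (by omega) rfl
  have pS := S.isPGroup'
  by_cases hQS : Q = S
  · refine hS g (st_eq_of_card ?_ (card_cj g _).le).symm
    exact hQS.symm.le.trans inf_le_right
  have l1 : Q < S := lt_of_le_of_ne inf_le_left hQS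
  have l2 : Q < cj g S := lt_of_le_of_ne inf_le_right fun e => by
    have := t2_card_lt l1
    rw [e, card_cj] at this
    exact lt_irrefl _ this
  have r1 := lt_t2N pS l1
  have r2 := lt_t2N (isPGroup_cj g pS) l2
  obtain ⟨T, hT1, hTN, pT, hTs⟩ := exists_syl (p := 2)
    (inf_le_right : t2N S Q ≤ Subgroup.normalizer (Q : Set G)) (pS.to_le inf_le_left)
  obtain ⟨β', hβ⟩ := exists_cj_le_sylow S pT
  obtain ⟨β, rfl⟩ : ∃ β, β' = β⁻¹ := ⟨β'⁻¹, (inv_inv _).symm⟩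
  obtain ⟨n', hn', hR2⟩ := exists_cj_le hTN pT hTs
    (inf_le_right : t2N (cj g S) Q ≤ Subgroup.normalizer (Q : Set G))
    ((isPGroup_cj g pS).to_le inf_le_left)
  obtain ⟨n, rfl⟩ : ∃ n, n' = n⁻¹ := ⟨n'⁻¹, (inv_inv _).symm⟩
  have hn : cj n Q = Q := mem_normalizer_iff_cj.1 ((Subgroup.inv_mem_iff _).1 hn')
  have hTβ : T ≤ cj β S := by rwa [cj_le_iff, inv_inv] at hβ
  have hQT : Q < T := lt_of_lt_of_le r1 hT1
  have hR1 : t2N S Q ≤ (S : Subgroup G) ⊓ cj β S := le_inf inf_le_left (hT1.trans hTβ)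
  have tβ : t β = 0 := ih' β (ho.mono (r1.le.trans hR1))
    (lt_of_lt_of_le (t2_card_lt r1) (Subgroup.card_le_of_le hR1))
  have tn : t (β⁻¹ * n * β) = 0 := by
    refine hgood _ ((cj_mono _ hQT.le).trans hβ) (ho.cj _) ?_ _ (t2_cj_conj hn β)
    have := Subgroup.card_le_of_le (t2_cj_le_t2N hTN hβ)
    rw [card_cj] at this
    have := t2_card_lt hQT
    omega
  have tnβ := (h.move ho l1.le (hQT.le.trans hTβ) tβ hn tn).1
  have hR : cj (n * β)⁻¹ (t2N (cj g S) Q) ≤ (S : Subgroup G) ⊓ cj ((n * β)⁻¹ * g) S := by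
    refine le_inf ?_ ?_
    · rw [mul_inv_rev, cj_mul]
      exact (cj_mono _ hR2).trans hβ
    · rw [cj_mul _ g]
      exact cj_mono _ inf_le_left
  have tγ : t ((n * β)⁻¹ * g) = 0 := by
    refine ih' _ (((ho.mono r2.le).cj _).mono hR) ?_
    have := Subgroup.card_le_of_le hR
    rw [card_cj] at this
    exact lt_of_lt_of_le (t2_card_lt r2) this
  have h3 : Q ≤ cj (n * β) S := by
    rw [cj_mul, ← hn]; exact cj_mono n (hQT.le.trans hTβ)
  have := h.coc ho (g := n * β) (k := (n * β)⁻¹ * g) l1.le h3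
    (by rw [mul_inv_cancel_left]; exact l2.le)
  rwa [mul_inv_cancel_left, tnβ, tγ, smul_zero, add_zero] at this

variable (D) in
/-- Generated by the norm-good offenders. -/
def t2JN (P : Subgroup G) : Subgroup G := sSup {A | A ≤ P ∧ NG 2 (⊤ : AddSubgroup D) A}

theorem t2JN_le (P : Subgroup G) : t2JN D P ≤ P := sSup_le fun _ h => h.1

theorem t2JN_cj_le {P P' : Subgroup G} {g : G} (h : cj g (t2JN D P) ≤ P') :
    cj g (t2JN D P) ≤ t2JN D P' := by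
  rw [cj_le_iff]
  refine sSup_le fun A hA => ?_
  rw [← cj_le_iff]
  exact le_sSup ⟨(cj_mono g (le_sSup hA)).trans h, hA.2.cj (st_inv_top ⊤) (Subgroup.mem_top g)⟩

theorem t2JN_wc {P : Subgroup G} {g : G} (h : cj g (t2JN D P) ≤ P) : cj g (t2JN D P) = t2JN D P :=
  st_cj_eq_of_le (t2JN_cj_le h)

variable (D) in
open Classical in
/-- `J*(P)`. -/
noncomputable def t2J (P : Subgroup G) : Subgroup G := if HasNG D P then t2JN D P else JT D P

theorem t2J_pos {P : Subgroup G} (h : HasNG D P) : t2J D P = t2JN D P := if_pos h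
theorem t2J_neg {P : Subgroup G} (h : ¬ HasNG D P) : t2J D P = JT D P := if_neg h

theorem t2J_le (P : Subgroup G) : t2J D P ≤ P := by
  by_cases h : HasNG D P
  · rw [t2J_pos h]; exact t2JN_le P
  · rw [t2J_neg h]; exact JT_le P

theorem t2J_cj {P : Subgroup G} {g : G} (hg : cj g P = P) : cj g (t2J D P) = t2J D P := by
  have h1 : cj g (t2J D P) ≤ P := (cj_mono g (t2J_le P)).trans hg.le
  by_cases h : HasNG D P
  · rw [t2J_pos h] at h1 ⊢; exact t2JN_wc h1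
  · rw [t2J_neg h] at h1 ⊢; exact st_JT_wc h1

theorem t2J_off (tD : Tors 2 (⊤ : AddSubgroup D)) {P : Subgroup G} (h : Off D P)
    (pP : IsPGroup 2 P) : Off D (t2J D P) := by
  by_cases hn : HasNG D P
  · rw [t2J_pos hn]
    obtain ⟨A, h1, h2⟩ := hn
    exact HasNG.off ⟨A, le_sSup ⟨h1, h2⟩, h2⟩
  · rw [t2J_neg hn]
    obtain ⟨τ, h1, h2⟩ := (h.cases tD pP).resolve_left hn
    exact h2.off (mem_JT h2 h1)

/-- The norm argument when there are norm-good offenders. -/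
theorem t2_norm_ng (tD : Tors 2 (⊤ : AddSubgroup D)) {H T H0 : Subgroup G} (hT : T ≤ H0)
    (h0 : H0 ≤ H) (pT : IsPGroup 2 T) (hs : ¬ 2 ∣ T.relIndex H)
    (hN : ∀ h ∈ H, cj h (t2JN D T) = t2JN D T → h ∈ H0) :
    fx (⊤ : AddSubgroup D) H0 ≤ fx ⊤ H := by
  refine norm_fix hT h0 pT hs (t2JN_le T) (fun h _ hh => t2JN_wc hh) hN (st_inv_top _) tD ?_
  intro h hh v hv h2 hJ
  have pJ : IsPGroup 2 (t2JN D T) := pT.to_le (t2JN_le T)
  have hlt : t2JN D T ⊓ cj h H0 < t2JN D T :=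
    lt_of_le_of_ne inf_le_left fun e => hJ (e ▸ inf_le_right)
  refine nrm_eq_zero pJ hlt (st_inv_top _)
    (fx_anti _ inf_le_right (smul_mem_fx (st_inv_top H) hh hv))
    (by rw [smul_comm, h2, smul_zero]) fun J1 h01 h1 hi => ?_
  obtain ⟨A, hA, hA1⟩ : ∃ A ∈ {A | A ≤ T ∧ NG 2 (⊤ : AddSubgroup D) A}, ¬ A ≤ J1 := by
    by_contra! hc
    have : J1.relIndex (t2JN D T) = 1 := Subgroup.relIndex_eq_one.2 (sSup_le hc)
    omega
  exact NG.norm_zero le_rfl hA.2 (le_sSup hA) pJ h1 hi hA1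

theorem Sol.t2_JT {T T' : Subgroup G} {ρ ρ' : G} (h : Sol D T ρ ρ') (e : JT D T' = JT D T) :
    Sol D T' ρ ρ' :=
  ⟨JT_le T' (e ▸ mem_JT h.tv h.mem), h.tv, h.tv', h.three,
    fun σ hσ ht hne => h.comm σ (JT_le T (e ▸ mem_JT ht hσ)) ht hne⟩

variable (D) in
/-- The other transvections. -/
def t2K (T : Subgroup G) (ρ : G) : Subgroup G := Subgroup.closure (stTS D T \ {ρ})

theorem t2K_le (T : Subgroup G) (ρ : G) : t2K D T ρ ≤ JT D T :=
  Subgroup.closure_mono fun _ h => h.1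

theorem t2K_off {T : Subgroup G} {ρ σ : G} (h1 : σ ∈ T) (h2 : IsTv D σ) (hne : σ ≠ ρ) :
    Off D (t2K D T ρ) := h2.off (Subgroup.subset_closure ⟨⟨h1, h2⟩, hne⟩)

theorem Sol.t2_cj {T : Subgroup G} {ρ θ : G} (h : Sol D T ρ θ) : cj θ (t2K D T ρ) = t2K D T ρ :=
  st_cj_closure_of_comm fun x hx => h.comm x hx.1.1 hx.1.2 hx.2

theorem T2PC.sol_val (h : T2PC S t) (pS : IsPGroup 2 S) (hng : ¬ HasNG D S) {ρ θ σ : G}
    (hs : Sol D S ρ θ) (h1 : σ ∈ S) (h2 : IsTv D σ) (hne : σ ≠ ρ) {ψ : D →+ ZMod 2} {e : D}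
    (tθ : Tv θ ψ e) : (t θ = 0 ∨ t θ = e) ∧ t (ρ * θ * ρ) = ρ • t θ := by
  have ho := t2K_off h1 h2 hne
  have hK : t2K D S ρ ≤ S := (t2K_le S ρ).trans (JT_le S)
  have nθ := hs.t2_cj
  have nρ : cj ρ (t2K D S ρ) = t2K D S ρ :=
    st_cj_closure_of_comm fun x hx => commute_of_not_hasNG pS hng hx.1.2 hs.tv hx.1.1 hs.mem
  have tρ0 := h.h0 ρ hs.mem
  obtain ⟨φ, c, tρ⟩ := hs.tv
  have a := (tρ.three_iff tθ).1 hs.three
  have e1 : t (ρ * θ * ρ) = ρ • t θ := by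
    rw [h.cocN ho hK (by rw [cj_mul, nθ, nρ]) nρ, h.cocN ho hK nρ nθ, tρ0]; simp
  have e2 : t (θ * ρ * θ) = t θ + θ • ρ • t θ := by
    rw [h.cocN ho hK (by rw [cj_mul, nρ, nθ]) nθ, h.cocN ho hK nθ nρ, tρ0]; simp [mul_smul]
  have e3 : ρ * θ * ρ = θ * ρ * θ := by
    refine (tρ.third tθ a.1 a.2).ext ?_
    rw [add_comm φ, add_comm c]
    exact tθ.third tρ a.2 a.1
  refine ⟨?_, e1⟩
  rw [← e3, e1] at e2
  generalize t θ = x at e2
  have ee := tθ.two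
  rcases st_zmod2 (φ x) with hx | hx <;> rcases st_zmod2 (ψ x) with hy | hy
  · rw [tρ.act_zero hx, tθ.act_zero hy] at e2
    exact Or.inl (left_eq_add.1 e2)
  · rw [tρ.act_zero hx, tθ.act_one hy] at e2
    right
    have := left_eq_add.1 e2
    calc x = x + (e + e) := by rw [ee, add_zero]
      _ = e := by rw [← add_assoc, this, zero_add]
  · rw [tρ.act_one hx, smul_add, tθ.act_zero hy, tθ.act_one a.2] at e2
    right
    have : x + e = 0 := by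
      have e4 : x + c = (x + c) + (x + e) := by nth_rewrite 1 [e2]; abel
      exact left_eq_add.1 e4
    calc x = x + (e + e) := by rw [ee, add_zero]
      _ = e := by rw [← add_assoc, this, zero_add]
  · rw [tρ.act_one hx, smul_add, tθ.act_one hy, tθ.act_one a.2] at e2
    left
    have e4 : x + c = (x + c) + (x + (e + e)) := by nth_rewrite 1 [e2]; abel
    rw [ee, add_zero] at e4
    exact left_eq_add.1 e4

theorem T2PC.sol_conj (h : T2PC S t) (h1 : ∀ n, cj n (JT D S) = JT D S → t n = 0) {ρ θ σ g : G}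
    (hs : Sol D S ρ θ) (hσ : σ ∈ S) (h2 : IsTv D σ) (hne : σ ≠ ρ) (hg : cj g (JT D S) = JT D S) :
    t (g * θ * g⁻¹) = g • t θ := by
  have ho := t2K_off hσ h2 hne
  have hK : t2K D S ρ ≤ S := (t2K_le S ρ).trans (JT_le S)
  have hK' : cj g (t2K D S ρ) ≤ S := ((cj_mono g (t2K_le S ρ)).trans hg.le).trans (JT_le S)
  have nθ := hs.t2_cj
  have hg' : cj g⁻¹ (JT D S) = JT D S := by rw [← cj_inj (g := g), cj_cj_inv, hg]
  have e1 : t (θ * g⁻¹) = t θ := by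
    rw [h.coc ho hK (t2_le_cj hK nθ) (by
      rw [cj_mul, ← nθ]; exact cj_mono _ (cj_le_iff.1 hK')), h1 _ hg', smul_zero, add_zero]
  rw [mul_assoc, h.coc (ho.cj g) hK' (cj_mono g hK) (by
    rw [cj_mul, cj_mul]
    refine cj_mono _ ?_
    rw [← nθ]; exact cj_mono _ (cj_le_iff.1 hK')), h1 _ hg, zero_add, e1]

variable (D) in
open Classical in
/-- The vector of a transvection. -/
noncomputable def t2c (ρ : G) : D := if h : IsTv D ρ then h.choose_spec.choose else 0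

theorem t2c_eq {ρ : G} {φ : D →+ ZMod 2} {c : D} (h : Tv ρ φ c) : t2c D ρ = c := by
  have h' : IsTv D ρ := ⟨φ, c, h⟩
  rw [t2c, dif_pos h']
  exact (h'.choose_spec.choose_spec.unique h).2

theorem T2PC.norm2 (S : Sylow 2 G) (h : T2PC (S : Subgroup G) t) (hng : ¬ HasNG D (S : Subgroup G))
    (h1 : ∀ n : G, cj n (JT D (S : Subgroup G)) = JT D S → t n = 0)
    (h2 : ∀ ρ, ∃ σ ∈ (S : Subgroup G), IsTv D σ ∧ σ ≠ ρ) :
    ∃ u : D, (∀ n : G, cj n (JT D (S : Subgroup G)) = JT D S → n • u = u) ∧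
      ∀ ρ θ, Sol D S ρ θ → t θ = θ • u - u := by
  classical
  set I : Finset G := (Set.toFinite {ρ | ∃ θ, Sol D S ρ θ ∧ t θ ≠ 0}).toFinset with hI
  have mI : ∀ ρ, ρ ∈ I ↔ ∃ θ, Sol D S ρ θ ∧ t θ ≠ 0 := fun ρ => by
    rw [hI, Set.Finite.mem_toFinset]; rfl
  have hconj : ∀ n : G, cj n (JT D (S : Subgroup G)) = JT D S → ∀ ρ ∈ I, n * ρ * n⁻¹ ∈ I := by
    intro n hn ρ hρ
    obtain ⟨θ, hs, ht⟩ := (mI ρ).1 hρ
    obtain ⟨σ, hσ, hσt, hne⟩ := h2 ρ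
    refine (mI _).2 ⟨_, (hs.conj n).t2_JT (by rw [JT_cj, hn]), ?_⟩
    rw [h.sol_conj h1 hs hσ hσt hne hn]
    exact fun e => ht (by simpa using congrArg (n⁻¹ • ·) e)
  refine ⟨∑ ρ ∈ I, t2c D ρ, fun n hn => ?_, fun ρ θ hs => ?_⟩
  · have hn' : cj n⁻¹ (JT D (S : Subgroup G)) = JT D S := by
      rw [← cj_inj (g := n), cj_cj_inv, hn]
    rw [Finset.smul_sum]
    refine Finset.sum_nbij' (fun ρ => n * ρ * n⁻¹) (fun ρ => n⁻¹ * ρ * n⁻¹⁻¹) (hconj n hn)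
      (hconj _ hn') (fun ρ _ => by group) (fun ρ _ => by group) fun ρ hρ => ?_
    obtain ⟨θ, hs, -⟩ := (mI ρ).1 hρ
    obtain ⟨φ, c, tρ⟩ := hs.tv
    rw [t2c_eq tρ, t2c_eq (tρ.conj n)]
  · obtain ⟨ψ, e, tθ⟩ := hs.tv'
    obtain ⟨φ, c, tρ⟩ := hs.tv
    obtain ⟨σ, hσ, hσt, hne⟩ := h2 ρ
    have a := (tρ.three_iff tθ).1 hs.three
    have hz : ∀ τ ∈ I, τ ≠ ρ → ψ (t2c D τ) = 0 := by
      intro τ hτ hτρ
      obtain ⟨θ', hs', -⟩ := (mI τ).1 hτ
      obtain ⟨φ', c', tτ⟩ := hs'.tv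
      rw [t2c_eq tτ]
      exact ((tτ.commute_iff tθ).1 (hs.comm τ hs'.mem hs'.tv hτρ)).2
    have hv := h.sol_val S.isPGroup' hng hs hσ hσt hne tθ
    by_cases hρ : ρ ∈ I
    · have e1 : ψ (∑ τ ∈ I, t2c D τ) = 1 := by
        rw [map_sum, Finset.sum_eq_single_of_mem ρ hρ hz, t2c_eq tρ, a.2]
      rw [tθ.act_one e1, add_sub_cancel_left]
      refine hv.1.resolve_left fun e0 => ?_
      obtain ⟨θ', hs', ht'⟩ := (mI ρ).1 hρ
      rcases hs.partner S hng hs' with rfl | rfl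
      · exact ht' e0
      · exact ht' (by rw [hv.2, e0, smul_zero])
    · have e1 : ψ (∑ τ ∈ I, t2c D τ) = 0 := by
        rw [map_sum]
        exact Finset.sum_eq_zero fun τ hτ => hz τ hτ fun e => hρ (e ▸ hτ)
      rw [tθ.act_zero e1, sub_self]
      by_contra e0
      exact hρ ((mI ρ).2 ⟨θ, hs, e0⟩)

theorem T2PC.main (tD : Tors 2 (⊤ : AddSubgroup D)) (S : Sylow 2 G) (h : T2PC (S : Subgroup G) t)
    (h1 : ∀ n, cj n (t2J D (S : Subgroup G)) = t2J D S → t n = 0)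
    (h2 : ¬ HasNG D (S : Subgroup G) → ∀ ρ θ, Sol D S ρ θ →
      (∃ σ ∈ (S : Subgroup G), IsTv D σ ∧ σ ≠ ρ) → t θ = 0) (g : G)
    (ho : Off D ((S : Subgroup G) ⊓ cj g S)) : t g = 0 := by
  have pS := S.isPGroup'
  have hS : ∀ n, cj n (S : Subgroup G) = S → t n = 0 := fun n hn => h1 n (t2J_cj hn)
  set B : Set (Subgroup G) := {Q | Q ≤ S ∧ Off D Q ∧ ∃ n, cj n Q = Q ∧ t n ≠ 0} with hB
  by_cases hBe : B.Nonempty
  swap
  · refine h.claimA S 0 hS (fun Q hQ hoQ _ n hn => ?_) g ho (Nat.zero_le _)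
    by_contra e
    exact hBe ⟨Q, hQ, hoQ, n, hn, e⟩
  exfalso
  obtain ⟨Q, ⟨hQ, hoQ, n0, hn0, tn0⟩, hmax⟩ :=
    Set.exists_max_image B (fun Q => Nat.card (t2N S Q)) (Set.toFinite _) hBe
  set T := t2N S Q with hT
  have hgood : ∀ Q' ≤ (S : Subgroup G), Off D Q' → Nat.card T < Nat.card (t2N S Q') →
      ∀ n, cj n Q' = Q' → t n = 0 := by
    intro Q' hQ' ho' hlt n hn
    by_contra e
    exact absurd (hmax Q' ⟨hQ', ho', n, hn, e⟩) (not_le.2 hlt)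
  have hA := h.claimA S (Nat.card T) hS hgood
  have hTS : T ≤ S := inf_le_left
  have hTH : T ≤ Subgroup.normalizer (Q : Set G) := inf_le_right
  have hQT : Q ≤ T := le_t2N hQ
  have pT : IsPGroup 2 T := pS.to_le hTS
  have hs : ¬ 2 ∣ T.relIndex (Subgroup.normalizer (Q : Set G)) := by
    intro hd
    obtain ⟨R, hRH, pR, hTR⟩ := exists_lt_of_dvd hTH pT hd
    obtain ⟨β', hβ⟩ := exists_cj_le_sylow S pR
    obtain ⟨β, rfl⟩ : ∃ β, β' = β⁻¹ := ⟨β'⁻¹, (inv_inv _).symm⟩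
    have hRβ : R ≤ cj β S := by rwa [cj_le_iff, inv_inv] at hβ
    have hT1 : T ≤ (S : Subgroup G) ⊓ cj β S := le_inf hTS (hTR.le.trans hRβ)
    have tβ : t β = 0 := hA β (hoQ.mono (hQT.trans hT1)) (Subgroup.card_le_of_le hT1)
    have tn : t (β⁻¹ * n0 * β) = 0 := by
      refine hgood _ ((cj_mono _ (hQT.trans hTR.le)).trans hβ) (hoQ.cj _) ?_ _ (t2_cj_conj hn0 β)
      have := Subgroup.card_le_of_le (t2_cj_le_t2N hRH hβ)
      rw [card_cj] at this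
      exact lt_of_lt_of_le (t2_card_lt hTR) this
    exact tn0 (h.move hoQ hQ (hQT.trans (hTR.le.trans hRβ)) tβ hn0 tn).2
  obtain ⟨w, hw, hw'⟩ := h.cob tD hoQ hQ hTH hTS hs
  set H := Subgroup.normalizer (Q : Set G) with hH
  set H0 := H ⊓ MulAction.stabilizer G w with hH0
  have mH0 : ∀ x ∈ H, x ∈ H0 ↔ t x = 0 := fun x hx => by
    rw [hw' x (mem_normalizer_iff_cj.1 hx), sub_eq_zero]
    exact ⟨fun e => e.2, fun e => ⟨hx, e⟩⟩
  have hT0 : T ≤ H0 := fun x hx => ⟨hTH hx, hw.2 x hx⟩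
  have hbig : T < S → ∀ K ≤ (S : Subgroup G), Off D K → t2N S T ≤ t2N S K →
      ∀ n, cj n K = K → t n = 0 := fun hlt K hK hoK hle =>
    hgood K hK hoK (lt_of_lt_of_le (t2_card_lt (lt_t2N pS hlt)) (Subgroup.card_le_of_le hle))
  have hJ : ∀ x, cj x (t2J D T) = t2J D T → t x = 0 := by
    rcases hTS.eq_or_lt with e | hlt
    · rw [e]; exact h1
    · exact hbig hlt _ ((t2J_le T).trans hTS) (t2J_off tD (hoQ.mono hQT) pT)
        fun x hx => mem_t2N.2 ⟨(mem_t2N.1 hx).1, t2J_cj (mem_t2N.1 hx).2⟩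
  have hne : ¬ fx (⊤ : AddSubgroup D) H0 ≤ fx ⊤ H := by
    intro hle
    have hn := mem_normalizer_iff_cj.2 hn0
    have := (hle ⟨trivial, fun x hx => hx.2⟩).2 n0 hn
    exact tn0 ((mH0 n0 hn).1 ⟨hn, this⟩)
  by_cases hng : HasNG D T
  · rw [t2J_pos hng] at hJ
    exact hne (t2_norm_ng tD hT0 inf_le_left pT hs fun x hx e => (mH0 x hx).2 (hJ x e))
  rw [t2J_neg hng] at hJ
  obtain ⟨ρ, ρ', hρ'H, hρ'0, hsol⟩ := star tD hT0 inf_le_left pT hs hng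
    (fun x hx e => (mH0 x hx).2 (hJ x e)) (st_inv_top _) hne
  have tρ' : t ρ' ≠ 0 := fun e => hρ'0 ((mH0 _ hρ'H).2 e)
  obtain ⟨σ, hσ, hσt⟩ := (hoQ.cases tD (pS.to_le hQ)).resolve_left fun e => hng (e.mono hQT)
  have hρQ : ρ ∉ Q := by
    intro hρ
    obtain ⟨φ, c, t1⟩ := hsol.tv
    obtain ⟨φ', c', t2⟩ := hsol.tv'
    have a := (t1.three_iff t2).1 hsol.three
    have t3 := t2.third t1 a.2 a.1
    have hm := mem_cj_of_mem ρ' hρ
    rw [mem_normalizer_iff_cj.1 hρ'H, st_inv_eq hsol.tv'] at hm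
    have := ((t1.commute_iff t3).1
      (commute_of_not_hasNG pT hng hsol.tv ⟨_, _, t3⟩ hsol.mem (hQT hm))).1
    rw [map_add, a.1, t1.ker] at this
    exact absurd this (by decide)
  have hσρ : σ ≠ ρ := fun e => hρQ (e ▸ hσ)
  rcases hTS.eq_or_lt with e | hlt
  · rw [e] at hng hsol
    exact tρ' (h2 hng ρ ρ' hsol ⟨σ, hQ hσ, hσt, hσρ⟩)
  have horb : ∀ τ ∈ T, IsTv D τ → ∃ x ∈ t2N S T, ρ = x * τ * x⁻¹ := by
    intro τ hτ hτt
    by_contra! hc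
    have hI : ∀ y ∈ {y | ∃ x ∈ t2N S T, y = x * τ * x⁻¹}, y ∈ T ∧ IsTv D y ∧ y ≠ ρ := by
      rintro _ ⟨x, hx, rfl⟩
      refine ⟨?_, hτt.conj x, (hc x hx).symm⟩
      have := mem_cj_of_mem x hτ
      rwa [(mem_t2N.1 hx).2] at this
    refine tρ' (hbig hlt (Subgroup.closure {y | ∃ x ∈ t2N S T, y = x * τ * x⁻¹})
      ((Subgroup.closure_le _).2 fun y hy => hTS (hI y hy).1)
      (hτt.off (Subgroup.subset_closure ⟨1, Subgroup.one_mem _, by simp⟩)) (fun z hz => ?_) ρ'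
      (st_cj_closure_of_comm fun y hy => hsol.comm y (hI y hy).1 (hI y hy).2.1 (hI y hy).2.2))
    refine mem_t2N.2 ⟨(mem_t2N.1 hz).1, st_cj_eq_of_le ?_⟩
    rw [cj_le_iff, Subgroup.closure_le]
    rintro _ ⟨x, hx, rfl⟩
    change _ ∈ cj z⁻¹ _
    rw [mem_cj, inv_inv]
    exact Subgroup.subset_closure ⟨z * x, Subgroup.mul_mem _ hz hx, by group⟩
  have hsolall : ∀ τ ∈ T, IsTv D τ → ∃ τ', Sol D T τ τ' := by
    intro τ hτ hτt
    obtain ⟨x, hx, e⟩ := horb τ hτ hτt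
    have := hsol.conj x⁻¹
    rw [(mem_t2N.1 ((t2N S T).inv_mem hx)).2, show x⁻¹ * ρ * x⁻¹⁻¹ = τ by rw [e]; group] at this
    exact ⟨_, this⟩
  have hfix : ∀ s ∈ (S : Subgroup G), (∀ τ ∈ T, IsTv D τ → Commute s τ) → s ∈ T := by
    intro s hs hcomm
    have hJQ : ∀ x, cj x Q = Q → cj x (JT D Q) = JT D Q := fun x hx => by rw [← JT_cj, hx]
    have hle : T ≤ t2N S (JT D Q) := fun x hx =>
      mem_t2N.2 ⟨(mem_t2N.1 hx).1, hJQ x (mem_t2N.1 hx).2⟩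
    have heq : T = t2N S (JT D Q) := st_eq_of_card hle
      (hmax _ ⟨(JT_le Q).trans hQ, hσt.off (mem_JT hσt hσ), n0, hJQ n0 hn0, tn0⟩)
    rw [heq]
    exact mem_t2N.2 ⟨hs, st_cj_closure_of_comm fun x hx => (hcomm x (hQT hx.1) hx.2).symm⟩
  obtain ⟨hall, hngS⟩ := all_in tD pS hTS hng hsolall hfix
  exact tρ' (h2 hngS ρ ρ' ⟨hTS hsol.mem, hsol.tv, hsol.tv', hsol.three,
    fun τ hτ hτt => hsol.comm τ (hall τ hτ hτt) hτt⟩ ⟨σ, hQ hσ, hσt, hσρ⟩)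

theorem t2 (tD : Tors 2 (⊤ : AddSubgroup D)) (S : Sylow 2 G) (t : G → D) (h0 : ∀ s ∈ S, t s = 0)
    (hc : ∀ g h : G, Off D ((S : Subgroup G) ⊓ cj g S ⊓ cj (g * h) S) → t (g * h) = t g + g • t h) :
    ∃ u : D, (∀ s ∈ S, s • u = u) ∧ ∀ g, Off D ((S : Subgroup G) ⊓ cj g S) → t g = g • u - u := by
  have h : T2PC (S : Subgroup G) t := ⟨h0, hc⟩
  have pS := S.isPGroup'
  by_cases hoS : Off D (S : Subgroup G)
  swap
  · exact ⟨0, fun s _ => smul_zero s, fun g hg => absurd (hg.mono inf_le_left) hoS⟩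
  have hSN : (S : Subgroup G) ≤ Subgroup.normalizer (t2J D (S : Subgroup G) : Set G) :=
    fun s hs => mem_normalizer_iff_cj.2 (t2J_cj (cj_eq_of_mem hs))
  obtain ⟨u, hu, hu'⟩ := h.cob tD (t2J_off tD hoS pS) (t2J_le _) hSN le_rfl
    (syl_of_le (st_syl_top S) hSN le_top).1
  have h' := h.sub hu.2
  have h1 : ∀ n, cj n (t2J D (S : Subgroup G)) = t2J D S → t n - (n • u - u) = 0 :=
    fun n hn => by rw [hu' n hn, sub_self]
  by_cases hcase : ¬ HasNG D (S : Subgroup G) ∧ ∀ ρ, ∃ σ ∈ (S : Subgroup G), IsTv D σ ∧ σ ≠ ρ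
  · have h1' := h1
    rw [t2J_neg hcase.1] at h1'
    obtain ⟨v, hv, hv'⟩ := h'.norm2 S hcase.1 h1' hcase.2
    have hvS : ∀ s ∈ (S : Subgroup G), s • v = v := fun s hs =>
      hv s (by rw [← JT_cj, cj_eq_of_mem hs])
    refine ⟨u + v, fun s hs => by rw [smul_add, hu.2 s hs, hvS s hs], fun g hg => ?_⟩
    have := (h'.sub hvS).main tD S (fun n hn => by
      rw [h1 n hn, hv n (by rwa [t2J_neg hcase.1] at hn), sub_self, sub_self])
      (fun _ ρ θ hs _ => by rw [hv' ρ θ hs, sub_self]) g hg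
    rw [sub_sub, sub_eq_zero] at this
    rw [this, smul_add]; abel
  · refine ⟨u, hu.2, fun g hg => sub_eq_zero.1 (h'.main tD S h1 (fun hng ρ θ hs hσ => ?_) g hg)⟩
    exfalso
    refine hcase ⟨hng, fun τ => ?_⟩
    by_cases e : ρ = τ
    · exact e ▸ hσ
    · exact ⟨ρ, hs.mem, hs.tv, e⟩

end Cfsg.Agent.GL
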