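import Cfsg.Agent.Lib.GL.FA
import Cfsg.Agent.Lib.GL.Syl

/-! S5242, row GL-Tr (notes/GL.md): `lim¹ Hom(P/A, A) = 0` (transfer). -/

set_option autoImplicit false
set_option linter.unusedSectionVars false
set_option linter.unusedVariables false

namespace Cfsg.Agent.GL

variable {G X : Type*} [Group G] [Finite G] [MulAction G X] {p : ℕ} [Fact p.Prime]

theorem trf_base (X : Type*) [MulAction G X] (P : Subgroup G) : ∃ (b : X → X) (σ : X → G),
    (∀ x, σ x ∈ P) ∧ (∀ x, σ x • b x = x) ∧ ∀ u ∈ P, ∀ x, b (u • x) = b x := by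
  have h : ∀ x : X, ∃ s : P, s • (Quotient.mk (MulAction.orbitRel P X) x).out = x := fun x =>
    MulAction.orbitRel_apply.1 ((MulAction.orbitRel P X).symm (Quotient.mk_out x))
  choose σ hσ using h
  refine ⟨fun x => (Quotient.mk (MulAction.orbitRel P X) x).out, fun x => σ x, fun x => (σ x).2,
    hσ, fun u hu x => ?_⟩
  have : Quotient.mk (MulAction.orbitRel P X) (u • x) = Quotient.mk (MulAction.orbitRel P X) x :=
    Quotient.sound (MulAction.orbitRel_apply.2 ⟨⟨u, hu⟩, rfl⟩)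
  simp only [this]

theorem trf_sum_zero [Fintype X] {Z : Type*} [AddCommGroup Z] (P : Subgroup G) (Λ : G → X → Z)
    (hc : ∀ u ∈ P, ∀ v ∈ P, ∀ x, Λ (u * v) x = Λ u (v • x) + Λ v x)
    (h0 : ∀ u ∈ P, ∀ x, u • x = x → Λ u x = 0) {u : G} (hu : u ∈ P) : ∑ x, Λ u x = 0 := by
  obtain ⟨b, σ, h1, h2, h3⟩ := trf_base X P
  have key : ∀ x, Λ u x = Λ (σ (u • x)) (b (u • x)) - Λ (σ x) (b x) := by
    intro x
    have hs : (σ (u • x))⁻¹ * u * σ x ∈ P := P.mul_mem (P.mul_mem (P.inv_mem (h1 _)) hu) (h1 _)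
    have hf : ((σ (u • x))⁻¹ * u * σ x) • b x = b x := by
      rw [mul_smul, mul_smul, h2, inv_smul_eq_iff, ← h3 u hu x, h2]
    have e1 := hc u hu _ (h1 x) (b x)
    have e2 := hc _ (h1 (u • x)) _ hs (b x)
    rw [h0 _ hs _ hf, hf, add_zero, mul_assoc, mul_inv_cancel_left, e1, h2] at e2
    rw [h3 u hu, ← e2, add_sub_cancel_right]
  rw [Finset.sum_congr rfl fun x _ => key x, Finset.sum_sub_distrib, sub_eq_zero]
  exact Equiv.sum_comp (MulAction.toPerm u) (fun x => Λ (σ x) (b x))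

open scoped IsMulCommutative

/-- Groupoid cocycles extending `x ↦ f [x, y]`. -/
structure TrfL (D : AddSubgroup (Additive (Subgroup.center G))) (f : List X → FA G) (y : X)
    (Λ : G → X → Additive (Subgroup.center G)) : Prop where
  coc : ∀ u, u • y = y → ∀ v, v • y = y → ∀ x, Λ (u * v) x = Λ u (v • x) + Λ v x
  res : ∀ u, u • y = y → ∀ x, u • x = x → Λ u x = f [x, y] u
  mem : ∀ u, u • y = y → ∀ x, Λ u x ∈ D

/-- The transfer values. -/
def TrfR [Fintype X] (D : AddSubgroup (Additive (Subgroup.center G))) (f : List X → FA G) (c : ℕ)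
    (y : X) (m : FA G) : Prop :=
  ∃ Λ, TrfL D f y Λ ∧ (∀ u, u • y = y → m u = c • ∑ x, Λ u x) ∧ ∀ u, u • y ≠ y → m u = 0

theorem TrfR.unique [Fintype X] {D : AddSubgroup (Additive (Subgroup.center G))}
    {f : List X → FA G} {c : ℕ} {y : X} {m m' : FA G} (h : TrfR D f c y m) (h' : TrfR D f c y m') :
    m = m' := by
  obtain ⟨Λ, h1, h2, h3⟩ := h
  obtain ⟨Λ', h1', h2', h3'⟩ := h'
  funext u
  by_cases hu : u • y = y
  · have := trf_sum_zero (MulAction.stabilizer G y) (fun u x => Λ u x - Λ' u x)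
      (fun u hu v hv x => by rw [h1.coc u hu v hv, h1'.coc u hu v hv]; abel)
      (fun u hu x hx => by rw [h1.res u hu x hx, h1'.res u hu x hx, sub_self]) hu
    rw [Finset.sum_sub_distrib, sub_eq_zero] at this
    rw [h2 u hu, h2' u hu, this]
  · rw [h3 u hu, h3' u hu]

theorem TrfR.smul [Fintype X] {D : AddSubgroup (Additive (Subgroup.center G))}
    {f : List X → FA G} (hf : Eqv (⊤ : Subgroup G) f) {c : ℕ} {y : X} {m : FA G} (h : TrfR D f c y m) (g : G) :
    TrfR D f c (g • y) (g • m) := by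
  obtain ⟨Λ, h1, h2, h3⟩ := h
  have e : ∀ u : G, u • g • y = g • y ↔ (g⁻¹ * u * g) • y = y := fun u => by
    rw [mul_smul, mul_smul, inv_smul_eq_iff]
  refine ⟨fun u x => Λ (g⁻¹ * u * g) (g⁻¹ • x), ⟨fun u hu v hv x => ?_, fun u hu x hx => ?_,
    fun u hu x => h1.mem _ ((e u).1 hu) _⟩, fun u hu => ?_, fun u hu => h3 _ fun h => hu ((e u).2 h)⟩
  · rw [show g⁻¹ * (u * v) * g = (g⁻¹ * u * g) * (g⁻¹ * v * g) by group,
      h1.coc _ ((e u).1 hu) _ ((e v).1 hv)]
    simp [mul_smul]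
  · rw [h1.res _ ((e u).1 hu) _ (by simp [mul_smul, hx])]
    have := hf g trivial [g⁻¹ • x, y]
    simp only [tr_cons, tr_nil, smul_inv_smul] at this
    rw [this]; rfl
  · change m (g⁻¹ * u * g) = _
    rw [h2 _ ((e u).1 hu)]
    congr 1
    exact (Equiv.sum_comp (MulAction.toPerm g⁻¹) (fun x => Λ (g⁻¹ * u * g) x)).symm

theorem trf_val_ext {a b : Additive (Subgroup.center G)}
    (h : ((Additive.toMul a : Subgroup.center G) : G) = (Additive.toMul b : Subgroup.center G)) :
    a = b := Additive.toMul.injective (Subtype.ext h)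

theorem van_Hh [Finite X] (hc : ¬ p ∣ Nat.card X) {A : Subgroup G} (hA : A ≤ Subgroup.center G)
    (pA : IsPGroup p A) (hAX : ∀ a ∈ A, ∀ x : X, a • x = x) :
    Van X ⊤ {P | A ≤ P} 1 (Hh A) N1 := by
  classical
  intro f hf hV hN
  have := Fintype.ofFinite X
  have hU : ∀ l : List X, St ⊤ l ∈ {P : Subgroup G | A ≤ P} := fun l a ha =>
    ⟨trivial, fun x _ => hAX a ha x⟩
  set D : AddSubgroup (Additive (Subgroup.center G)) :=
    Subgroup.toAddSubgroup (A.subgroupOf (Subgroup.center G)) with hD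
  have tD : Tors p D := by
    obtain ⟨k, hk⟩ := IsPGroup.iff_card.1 pA
    refine ⟨k, fun m hm => trf_val_ext ?_⟩
    have := congrArg Subtype.val
      (pow_card_eq_one' (x := (⟨(Additive.toMul m : Subgroup.center G), hm⟩ : A)))
    rw [hk] at this
    simpa using this
  obtain ⟨c, hcD⟩ := exists_inv_tors tD hc
  have m2 : ∀ {u : G} {x y : X}, u • x = x → u • y = y → u ∈ St ⊤ [x, y] := fun hx hy =>
    ⟨trivial, by simp [hx, hy]⟩
  have fadd : ∀ {x y : X} {u v : G}, u ∈ St ⊤ [x, y] → v ∈ St ⊤ [x, y] →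
      f [x, y] (u * v) = f [x, y] u + f [x, y] v := fun hu hv =>
    trf_val_ext ((hV _ rfl (hU _)).2.1 _ hu _ hv)
  have fmem : ∀ {x y : X} {u : G}, u ∈ St ⊤ [x, y] → f [x, y] u ∈ D := fun hu =>
    (hV _ rfl (hU _)).2.2.1 _ hu
  have fA : ∀ (x y : X), ∀ a ∈ A, f [x, y] a = 0 := fun x y a ha =>
    trf_val_ext ((hV [x, y] rfl (hU _)).2.2.2 a ha)
  have f3 : ∀ {x y z : X} {u : G}, u • x = x → u • y = y → u • z = z →
      f [y, z] u - f [x, z] u + f [x, y] u = 0 := by
    intro x y z u hx hy hz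
    have := (hN [x, y, z] rfl (hU _)).2 u ⟨trivial, by simp [hx, hy, hz]⟩
    rw [d_three] at this
    exact trf_val_ext this
  have hex : ∀ y : X, ∃ m, TrfR D f c y m := by
    intro y
    obtain ⟨b, σ, h1, h2, h3⟩ := trf_base X (MulAction.stabilizer G y)
    have hm : ∀ u, u • y = y → ∀ x, (σ (u • x))⁻¹ * u * σ x ∈ St ⊤ [b x, y] := fun u hu x =>
      m2 (by rw [mul_smul, mul_smul, h2, inv_smul_eq_iff, ← h3 u hu x, h2])
        ((MulAction.stabilizer G y).mul_mem ((MulAction.stabilizer G y).mul_mem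
          ((MulAction.stabilizer G y).inv_mem (h1 _)) hu) (h1 _))
    refine ⟨fun u => if u • y = y then c • ∑ x, f [b x, y] ((σ (u • x))⁻¹ * u * σ x) else 0,
      fun u x => f [b x, y] ((σ (u • x))⁻¹ * u * σ x), ⟨fun u hu v hv x => ?_, fun u hu x hx => ?_,
      fun u hu x => fmem (hm u hu x)⟩, fun u hu => if_pos hu, fun u hu => if_neg hu⟩
    · have a1 := hm u hu (v • x)
      rw [h3 v hv] at a1 ⊢
      rw [← fadd a1 (hm v hv x), mul_smul]
      congr 1; group
    · have := hf (σ x) trivial [b x, y]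
      simp only [tr_cons, tr_nil, h2, MulAction.mem_stabilizer_iff.1 (h1 x)] at this
      rw [this, hx]; rfl
  choose m hm using hex
  let g : List X → FA G := fun l => match l with
    | [y] => m y
    | _ => 0
  have hg : Eqv (⊤ : Subgroup G) g := by
    intro γ _ l
    match l with
    | [] => simp [g]
    | [y] => exact (hm (γ • y)).unique ((hm y).smul hf γ)
    | _ :: _ :: _ => simp [g]
  refine ⟨g, hg, fun l hl _ => ?_, fun l hl _ => ?_⟩
  · obtain ⟨y, rfl⟩ := List.length_eq_one_iff.1 hl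
    obtain ⟨Λ, h1, h2, h3⟩ := hm y
    have my : ∀ {u : G}, u ∈ St ⊤ [y] → u • y = y := fun hu => hu.2 y (by simp)
    refine ⟨fun u hu => hg.fix hu, fun u hu v hv => ?_, fun u hu => ?_, fun a ha => ?_⟩
    · have : m y (u * v) = m y u + m y v := by
        rw [h2 _ (my (Subgroup.mul_mem _ hu hv)), h2 u (my hu), h2 v (my hv), ← smul_add,
          Finset.sum_congr rfl fun x _ => h1.coc u (my hu) v (my hv) x, Finset.sum_add_distrib]
        congr 2
        exact Equiv.sum_comp (MulAction.toPerm v) (fun x => Λ u x)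
      exact congrArg (fun z => ((Additive.toMul z : Subgroup.center G) : G)) this
    · have : m y u ∈ D := by
        rw [h2 u (my hu)]
        exact D.nsmul_mem (D.sum_mem fun x _ => h1.mem u (my hu) x) c
      exact this
    · have : m y a = 0 := by
        rw [h2 a (hAX a ha y), Finset.sum_eq_zero fun x _ => by
          rw [h1.res a (hAX a ha y) x (hAX a ha x), fA x y a ha], smul_zero]
      exact congrArg (fun z => ((Additive.toMul z : Subgroup.center G) : G)) this
  · obtain ⟨y, z, rfl⟩ := List.length_eq_two.1 hl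
    refine ⟨fun u hu => (hf.sub hg.d).fix hu, fun u hu => ?_⟩
    obtain ⟨Λ, h1, h2, h3⟩ := hm y
    obtain ⟨Λ', h1', h2', h3'⟩ := hm z
    have my : ∀ {u : G}, u ∈ St ⊤ [y, z] → u • y = y := fun hu => hu.2 y (by simp)
    have mz : ∀ {u : G}, u ∈ St ⊤ [y, z] → u • z = z := fun hu => hu.2 z (by simp)
    have hs := trf_sum_zero (St ⊤ [y, z]) (fun u x => Λ' u x - Λ u x - f [y, z] u)
      (fun u hu v hv x => by
        rw [h1.coc u (my hu) v (my hv), h1'.coc u (mz hu) v (mz hv), fadd hu hv]; abel)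
      (fun u hu x hx => by
        rw [h1.res u (my hu) x hx, h1'.res u (mz hu) x hx, ← neg_eq_zero,
          ← f3 hx (my hu) (mz hu)]; abel) hu
    rw [Finset.sum_sub_distrib, Finset.sum_sub_distrib, Finset.sum_const, Finset.card_univ,
      ← Nat.card_eq_fintype_card, sub_eq_zero] at hs
    have : f [y, z] u - (m z u - m y u) = 0 := by
      rw [h2 u (my hu), h2' u (mz hu), ← smul_sub, hs, ← mul_smul, hcD _ (fmem hu), sub_self]
    rw [Pi.sub_apply, d_two]
    exact congrArg (fun z => ((Additive.toMul z : Subgroup.center G) : G)) this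

end Cfsg.Agent.GL
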