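import Cfsg.Agent.Lib.GL.Best
import Mathlib.Data.ZMod.Basic

/-! S5242, row GL-Tv (notes/GL.md): transvections on a finite abelian 2-group, faithful action. -/

set_option autoImplicit false
set_option linter.unusedSectionVars false
set_option linter.unusedVariables false

namespace Cfsg.Agent.GL

variable {G D : Type*} [Group G] [Finite G] [AddCommGroup D] [Finite D] [DistribMulAction G D]
  [FaithfulSMul G D]

/-- `τ v = v + φ(v) c`. -/
structure Tv (τ : G) (φ : D →+ ZMod 2) (c : D) : Prop where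
  ne : c ≠ 0
  two : c + c = 0
  ker : φ c = 0
  surj : ∃ v, φ v = 1
  act : ∀ v, τ • v = v + (φ v).val • c

variable (D) in
def IsTv (τ : G) : Prop := ∃ (φ : D →+ ZMod 2) (c : D), Tv τ φ c

variable (D) in
/-- `P` contains a non-trivial best offender. -/
def Off (P : Subgroup G) : Prop := ∃ A ≤ P, A ≠ ⊥ ∧ Best (⊤ : AddSubgroup D) A

variable (D) in
/-- `P` contains a norm-good offender. -/
def HasNG (P : Subgroup G) : Prop := ∃ A ≤ P, NG 2 (⊤ : AddSubgroup D) A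

variable (D) in
/-- The subgroup generated by the transvections in `P`. -/
def JT (P : Subgroup G) : Subgroup G := Subgroup.closure {τ | τ ∈ P ∧ IsTv D τ}

variable (D) in
/-- `ρ` is solitary in `T` with partner `ρ'`. -/
structure Sol (T : Subgroup G) (ρ ρ' : G) : Prop where
  mem : ρ ∈ T
  tv : IsTv D ρ
  tv' : IsTv D ρ'
  three : orderOf (ρ * ρ') = 3
  comm : ∀ σ ∈ T, IsTv D σ → σ ≠ ρ → Commute σ ρ'

variable {τ σ : G} {φ φ' : D →+ ZMod 2} {c c' : D} {P Q : Subgroup G}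

theorem Tv.act_zero (h : Tv τ φ c) {v : D} (hv : φ v = 0) : τ • v = v := by
  simp [h.act, hv]
theorem Tv.act_one (h : Tv τ φ c) {v : D} (hv : φ v = 1) : τ • v = v + c := by
  simp [h.act, hv, ZMod.val_one]
theorem z2 : ∀ x : ZMod 2, x = 0 ∨ x = 1 := by decide

theorem val_add_smul (h : c + c = 0) (x y : ZMod 2) : (x + y).val • c = x.val • c + y.val • c := by
  rcases z2 x with rfl | rfl <;> rcases z2 y with rfl | rfl <;>
    simp [ZMod.val_one, h, show (1 : ZMod 2) + 1 = 0 by decide]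

theorem Tv.act_left (h : Tv τ φ c) (v c' : D) (x y : ZMod 2) :
    τ • (v + x.val • c + y.val • c') = v + (x + φ v + y * φ c').val • c + y.val • c' := by
  rw [h.act, add_assoc x, val_add_smul h.two]
  simp only [map_add, map_nsmul, h.ker, nsmul_eq_mul, ZMod.natCast_val, ZMod.cast_id', id,
    mul_zero, add_zero]
  abel

theorem Tv.act_right (h : Tv σ φ' c') (v c : D) (x y : ZMod 2) :
    σ • (v + x.val • c + y.val • c') = v + x.val • c + (y + φ' v + x * φ' c).val • c' := by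
  rw [add_right_comm, h.act_left, add_right_comm]

theorem eq_add_zero (v c c' : D) : v = v + (0 : ZMod 2).val • c + (0 : ZMod 2).val • c' := by simp

theorem Tv.fix_iff (h : Tv τ φ c) {v : D} : τ • v = v ↔ φ v = 0 := by
  refine ⟨fun e => (z2 _).resolve_right fun hv => h.ne ?_, h.act_zero⟩
  rwa [h.act_one hv, add_eq_left] at e
theorem Tv.mul_self (h : Tv τ φ c) : τ * τ = 1 := by
  refine eq_of_smul_eq_smul fun v : D => ?_
  rw [mul_smul, one_smul, h.act v, smul_add, smul_comm τ, h.act_zero h.ker, h.act v, add_assoc,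
    ← smul_add, h.two, smul_zero, add_zero]
theorem Tv.ne_one (h : Tv τ φ c) : τ ≠ 1 := by
  rintro rfl
  obtain ⟨v, hv⟩ := h.surj
  exact zero_ne_one ((h.fix_iff.1 (one_smul G v)).symm.trans hv)
theorem Tv.unique (h : Tv τ φ c) (h' : Tv τ φ' c') : φ = φ' ∧ c = c' := by
  obtain rfl : φ = φ' := AddMonoidHom.ext fun v => by
    have := (h.fix_iff (v := v)).symm.trans h'.fix_iff
    rcases z2 (φ v) with e | e <;> rcases z2 (φ' v) with e' | e' <;> simp_all
  obtain ⟨v, hv⟩ := h.surj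
  exact ⟨rfl, add_left_cancel ((h.act_one hv).symm.trans (h'.act_one hv))⟩
theorem Tv.ext (h : Tv τ φ c) (h' : Tv σ φ c) : τ = σ := by
  exact eq_of_smul_eq_smul fun v : D => by rw [h.act, h'.act]
theorem Tv.conj (h : Tv τ φ c) (g : G) :
    Tv (g * τ * g⁻¹) (φ.comp (DistribSMul.toAddMonoidHom D g⁻¹)) (g • c) := by
  obtain ⟨v, hv⟩ := h.surj
  refine ⟨fun e => h.ne ((smul_eq_zero_iff_eq g).1 e), by rw [← smul_add, h.two, smul_zero],
    by simpa using h.ker, ⟨g • v, by simpa using hv⟩, fun w => ?_⟩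
  rw [mul_smul, mul_smul, h.act, smul_add, smul_inv_smul, smul_comm]
  rfl
theorem IsTv.conj (h : IsTv D τ) (g : G) : IsTv D (g * τ * g⁻¹) :=
  let ⟨_, _, h⟩ := h; ⟨_, _, h.conj g⟩
theorem Tv.commute_aux (h : Tv τ φ c) (h' : Tv σ φ' c') (hc : Commute τ σ) : φ' c = 0 := by
  have e : ∀ v : D, τ • σ • v = σ • τ • v := fun v => by rw [← mul_smul, hc.eq, mul_smul]
  refine (z2 _).resolve_right fun h1 => ?_
  have e1 := e c
  rw [h.act_zero h.ker, h.fix_iff, h'.act_one h1, map_add, h.ker, zero_add] at e1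
  obtain ⟨v, hv⟩ := h.surj
  have e2 := e v
  rw [h.act_one hv, smul_add, h'.act_one h1, h.act_one (by
    rw [h'.act, map_add, map_nsmul, e1, smul_zero, add_zero, hv]), add_right_inj,
    left_eq_add] at e2
  exact h'.ne e2

theorem Tv.commute_iff (h : Tv τ φ c) (h' : Tv σ φ' c') : Commute τ σ ↔ φ c' = 0 ∧ φ' c = 0 := by
  refine ⟨fun hc => ⟨h'.commute_aux h hc.symm, h.commute_aux h' hc⟩, fun ⟨h1, h2⟩ =>
    eq_of_smul_eq_smul fun v : D => ?_⟩
  rw [mul_smul, mul_smul, eq_add_zero v c c', h'.act_right, h.act_left, h.act_left, h'.act_right,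
    h1, h2]
  simp
theorem Tv.pow_four (h : Tv τ φ c) (h' : Tv σ φ' c') (h1 : ¬ (φ c' = 1 ∧ φ' c = 1)) :
    (τ * σ) ^ 4 = 1 := by
  refine eq_of_smul_eq_smul fun v : D => ?_
  rw [eq_add_zero v c c']
  simp only [pow_succ, pow_zero, one_mul, mul_smul, one_smul, h.act_left, h'.act_right]
  revert h1
  generalize φ v = x, φ' v = y, φ c' = a, φ' c = b
  intro h1
  congr 4 <;> revert x y a b <;> decide

theorem Tv.three_iff (h : Tv τ φ c) (h' : Tv σ φ' c') :
    orderOf (τ * σ) = 3 ↔ φ c' = 1 ∧ φ' c = 1 := by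
  refine ⟨fun e => by_contra fun h1 => absurd (e ▸ orderOf_dvd_of_pow_eq_one (h.pow_four h' h1))
    (by norm_num), fun ⟨h1, h2⟩ => ?_⟩
  have := Fact.mk Nat.prime_three
  refine orderOf_eq_prime (eq_of_smul_eq_smul fun v : D => ?_) fun e => ?_
  · rw [eq_add_zero v c c']
    simp only [pow_succ, pow_zero, one_mul, mul_smul, one_smul, h.act_left, h'.act_right, h1, h2]
    generalize φ v = x, φ' v = y
    congr 4 <;> revert x y <;> decide
  · obtain rfl : τ = σ := mul_right_cancel (e.trans h'.mul_self.symm)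
    exact zero_ne_one (h.ker.symm.trans ((h.unique h').2 ▸ h1))
theorem Tv.third (h : Tv τ φ c) (h' : Tv σ φ' c') (h1 : φ c' = 1) (h2 : φ' c = 1) :
    Tv (τ * σ * τ) (φ + φ') (c + c') := by
  refine ⟨fun e => ?_, by rw [add_add_add_comm, h.two, h'.two, add_zero], ?_,
    ⟨c, by simp [h.ker, h2]⟩, fun v => ?_⟩
  · have := congrArg φ e
    rw [map_add, h.ker, h1, map_zero] at this
    exact absurd this (by decide)
  · simp only [AddMonoidHom.add_apply, map_add, h.ker, h'.ker, h1, h2]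
    decide
  · conv_lhs => rw [eq_add_zero v c c']
    simp only [mul_smul, h.act_left, h'.act_right, h1, h2]
    rw [smul_add, ← add_assoc, AddMonoidHom.add_apply]
    generalize φ v = x, φ' v = y
    congr 2
    · congr 2; revert x y; decide
    · congr 1; revert x y; decide
theorem Tv.mul_of_eq (h : Tv τ φ c) (h' : Tv σ φ' c) (hne : τ ≠ σ) : Tv (τ * σ) (φ + φ') c := by
  refine ⟨h.ne, h.two, by simp [h.ker, h'.ker], ?_, fun v => ?_⟩
  · by_contra hno
    push Not at hno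
    obtain rfl : φ = φ' := AddMonoidHom.ext fun v => by
      have := hno v
      rw [AddMonoidHom.add_apply] at this
      revert this
      generalize φ v = x, φ' v = y
      revert x y; decide
    exact hne (h.ext h')
  · rw [mul_smul, h'.act v, smul_add, smul_comm τ, h.act_zero h.ker, h.act v,
      AddMonoidHom.add_apply, val_add_smul h.two, add_assoc]
theorem isPGroup_zpowers {p k : ℕ} {x : G} (h : x ^ p ^ k = 1) : IsPGroup p (Subgroup.zpowers x) := by
  rintro ⟨_, i, rfl⟩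
  refine ⟨k, Subtype.ext ?_⟩
  change (x ^ i) ^ p ^ k = 1
  rw [← zpow_natCast, ← zpow_mul, mul_comm, zpow_mul, zpow_natCast, h, one_zpow]

/-- Two transvections generate a 2-group unless their product has order 3. -/
theorem IsTv.isPGroup (h : IsTv D τ) (h' : IsTv D σ) (h3 : orderOf (τ * σ) ≠ 3) :
    IsPGroup 2 (Subgroup.closure {τ, σ}) := by
  obtain ⟨φ, c, h⟩ := h
  obtain ⟨φ', c', h'⟩ := h'
  have h4 := h.pow_four h' fun e => h3 ((h.three_iff h').2 e)
  have e : τ * (τ * σ) * τ⁻¹ = (τ * σ)⁻¹ := by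
    rw [← mul_assoc, h.mul_self, one_mul, mul_inv_rev, inv_eq_of_mul_eq_one_left h'.mul_self]
  have hn : τ ∈ Subgroup.normalizer (Subgroup.zpowers (τ * σ) : Set G) :=
    Subgroup.mem_normalizer_fintype fun _ ⟨i, hi⟩ => ⟨-i, by
      simp only [← hi, ← conj_zpow, e, inv_zpow']⟩
  refine ((isPGroup_zpowers (k := 2) h4).to_sup_of_normal_left'
    (isPGroup_zpowers (k := 1) (x := τ) (by rw [pow_one, pow_two, h.mul_self]))
    (Subgroup.zpowers_le.2 hn)).to_le ((Subgroup.closure_le _).2 ?_)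
  rintro _ (rfl | rfl)
  · exact Subgroup.mem_sup_right (Subgroup.mem_zpowers _)
  · simpa using Subgroup.mul_mem _ (Subgroup.inv_mem _ (Subgroup.mem_sup_right
      (Subgroup.mem_zpowers τ))) (Subgroup.mem_sup_left (Subgroup.mem_zpowers (τ * _)))
theorem best_of_form {A : Subgroup G} (hv : ∃ v, φ v = 1)
    (h : ∀ g ∈ A, ∃ d, φ d = 0 ∧ d + d = 0 ∧ ∀ v, g • v = v + (φ v).val • d) :
    Best (⊤ : AddSubgroup D) A ∧ ∀ B ≤ A, B ≠ ⊥ → fx (⊤ : AddSubgroup D) B ≤ fx ⊤ A := by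
  have h1 : φ.ker ≤ fx ⊤ A := fun v hv => ⟨trivial, fun g hg => by
    obtain ⟨d, -, -, e⟩ := h g hg
    simp [e, AddMonoidHom.mem_ker.1 hv]⟩
  have h2 : ∀ B ≤ A, B ≠ ⊥ → fx (⊤ : AddSubgroup D) B ≤ fx ⊤ A := fun B hB h0 v hv' => by
    obtain ⟨⟨g, hg⟩, hg1⟩ := Subgroup.ne_bot_iff_exists_ne_one.1 h0
    obtain ⟨d, k1, k2, e⟩ := h g (hB hg)
    refine h1 ((Tv.mk (τ := g) (fun e0 => hg1 (Subtype.ext (eq_of_smul_eq_smul fun w : D => ?_)))
      k2 k1 hv e).fix_iff.1 (hv'.2 g hg))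
    simp [e, e0]
  refine ⟨best_iff.2 ⟨fun a ha b hb m _ => ?_, fun B hB => ?_⟩, h2⟩
  · obtain ⟨d, k1, -, e⟩ := h a ha
    obtain ⟨d', k2, -, e'⟩ := h b hb
    simp only [e, e', map_add, map_nsmul, k1, k2, smul_zero, add_zero]
    abel
  · rcases hB.eq_or_lt with rfl | hlt
    · simp
    by_cases h0 : B = ⊥
    · refine ((AddSubgroup.relIndex_le_of_le_left h1 AddSubgroup.index_ne_zero_of_finite).trans
        (AddSubgroup.relIndex_le_of_le_right le_top AddSubgroup.index_ne_zero_of_finite)).trans ?_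
      rw [AddSubgroup.relIndex_top_right, AddSubgroup.index_ker, h0, Subgroup.relIndex_bot_left]
      exact ((AddSubgroup.card_le_card_addGroup _).trans_eq (Nat.card_zmod 2)).trans
        ((Subgroup.one_lt_card_iff_ne_bot _).2 (h0 ▸ hlt).ne')
    · rw [AddSubgroup.relIndex_eq_one.2 (h2 B hB h0)]
      exact Nat.pos_of_ne_zero Subgroup.index_ne_zero_of_finite

theorem form_closure {s : Set G}
    (h : ∀ g ∈ s, ∃ d, φ d = 0 ∧ d + d = 0 ∧ ∀ v, g • v = v + (φ v).val • d) :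
    ∀ g ∈ Subgroup.closure s, ∃ d, φ d = 0 ∧ d + d = 0 ∧ ∀ v, g • v = v + (φ v).val • d := by
  intro g hg
  induction hg using Subgroup.closure_induction with
  | mem g hg => exact h g hg
  | one => exact ⟨0, by simp⟩
  | mul a b _ _ ha hb =>
    obtain ⟨d, k1, k2, e⟩ := ha
    obtain ⟨d', l1, l2, e'⟩ := hb
    refine ⟨d + d', by simp [k1, l1], by rw [add_add_add_comm, k2, l2, add_zero], fun v => ?_⟩
    simp only [mul_smul, e, e', map_add, map_nsmul, l1, smul_zero, add_zero, smul_add]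
    abel
  | inv a _ ha =>
    obtain ⟨d, k1, k2, e⟩ := ha
    refine ⟨d, k1, k2, fun v => ?_⟩
    rw [inv_smul_eq_iff, e, map_add, map_nsmul, k1, smul_zero, add_zero, add_assoc, ← smul_add, k2,
      smul_zero, add_zero]

theorem ker_eq_bot : ker (⊤ : Subgroup G) (⊤ : AddSubgroup D) = ⊥ :=
  eq_bot_iff.2 fun g hg => eq_of_smul_eq_smul fun v : D => by rw [hg.2 v trivial, one_smul]

theorem IsTv.best (h : IsTv D τ) : Best (⊤ : AddSubgroup D) (Subgroup.zpowers τ) := by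
  obtain ⟨φ, c, h⟩ := h
  rw [Subgroup.zpowers_eq_closure]
  exact (best_of_form h.surj (form_closure fun g hg => hg ▸ ⟨c, h.ker, h.two, h.act⟩)).1
theorem IsTv.off (h : IsTv D τ) (hτ : τ ∈ P) : Off D P := by
  exact ⟨_, Subgroup.zpowers_le.2 hτ, Subgroup.zpowers_ne_bot.2 h.choose_spec.choose_spec.ne_one,
    h.best⟩
theorem Off.mono (h : Off D P) (hPQ : P ≤ Q) : Off D Q :=
  let ⟨A, h1, h2⟩ := h; ⟨A, h1.trans hPQ, h2⟩
theorem Off.cj (h : Off D P) (g : G) : Off D (cj g P) := by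
  obtain ⟨A, h1, h2, h3⟩ := h
  exact ⟨_, cj_mono g h1, fun e => h2 (cj_inj.1 (e.trans (cj_bot g).symm)),
    h3.cj (Γ := ⊤) (fun _ _ _ _ => AddSubgroup.mem_top _) (Subgroup.mem_top _)⟩
theorem HasNG.mono (h : HasNG D P) (hPQ : P ≤ Q) : HasNG D Q :=
  let ⟨A, h1, h2⟩ := h; ⟨A, h1.trans hPQ, h2⟩
theorem HasNG.off (h : HasNG D P) : Off D P := by
  obtain ⟨A, h1, h2⟩ := h
  exact ⟨A, h1, fun e => h2.2.1 (e ▸ bot_le), h2.1⟩
theorem Off.cases (tD : Tors 2 (⊤ : AddSubgroup D)) (h : Off D P) (pP : IsPGroup 2 P) :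
    HasNG D P ∨ ∃ τ ∈ P, IsTv D τ := by
  classical
  obtain ⟨A, h1, h2, h3⟩ := h
  have : Finite (⊤ : AddSubgroup D) := inferInstance
  obtain ⟨A', k1, k2 | k2⟩ := h3.exists_min tD (by rwa [ker_eq_bot, le_bot_iff]) (pP.to_le h1)
  · exact Or.inl ⟨A', k1.trans h1, k2⟩
  obtain ⟨-, -, l1, l2⟩ := k2
  rw [ker_eq_bot, Subgroup.relIndex_bot_left] at l1
  rw [AddSubgroup.relIndex_top_right] at l2
  obtain ⟨τ, hτ, hu⟩ := (Nat.card_eq_two_iff' (1 : A')).1 l1
  have e1 : ∀ v : D, v ∈ fx (⊤ : AddSubgroup D) A' ↔ (τ : G) • v = v := fun v =>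
    ⟨fun hv => hv.2 _ τ.2, fun hv => ⟨trivial, fun u hu' => by
      by_cases e : (⟨u, hu'⟩ : A') = 1
      · rw [show u = 1 from congrArg Subtype.val e, one_smul]
      · rwa [show u = τ from congrArg Subtype.val (hu _ e)]⟩⟩
  have e2 : ∀ v : D, (τ : G) • (τ : G) • v = v := fun v => by
    rw [← mul_smul, ← Subgroup.coe_mul, ← pow_two, ← l1, pow_card_eq_one', Subgroup.coe_one,
      one_smul]
  obtain ⟨v0, hv0⟩ : ∃ v, v ∉ fx (⊤ : AddSubgroup D) A' := by
    by_contra hno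
    push Not at hno
    rw [(AddSubgroup.eq_top_iff' _).2 hno, AddSubgroup.index_top] at l2
    omega
  have e3 : ∀ v w : D, v ∉ fx (⊤ : AddSubgroup D) A' → w ∉ fx (⊤ : AddSubgroup D) A' →
      v - w ∈ fx (⊤ : AddSubgroup D) A' := fun v w hv hw => by
    rw [sub_eq_add_neg, AddSubgroup.add_mem_iff_of_index_two l2, neg_mem_iff]
    exact iff_of_false hv hw
  have e4 := e3 _ _ (fun e => hv0 ((e1 _).2 (((e1 _).1 e).symm.trans (e2 v0)))) hv0
  refine Or.inr ⟨τ, h1 (k1 τ.2), AddMonoidHom.mk'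
    (fun v => if v ∈ fx (⊤ : AddSubgroup D) A' then 0 else 1) fun a b => ?_, (τ : G) • v0 - v0,
    fun e => hv0 ((e1 _).2 (sub_eq_zero.1 e)), ?_, if_pos e4, ⟨v0, if_neg hv0⟩, fun v => ?_⟩
  · rw [AddSubgroup.add_mem_iff_of_index_two l2]
    by_cases ha : a ∈ fx (⊤ : AddSubgroup D) A' <;> by_cases hb : b ∈ fx (⊤ : AddSubgroup D) A' <;>
      simp [ha, hb, show (1 : ZMod 2) + 1 = 0 by decide]
  · nth_rw 1 [← (e1 _).1 e4]
    rw [smul_sub, e2]; abel
  · by_cases hv : v ∈ fx (⊤ : AddSubgroup D) A'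
    · simp [hv, (e1 v).1 hv]
    · have := (e1 _).1 (e3 _ _ hv hv0)
      rw [smul_sub, sub_eq_iff_eq_add] at this
      simp only [AddMonoidHom.mk'_apply, if_neg hv, ZMod.val_one, one_smul, this]
      abel
/-- Two transvections with the same `φ` generate a norm-good offender. -/
theorem Tv.hasNG (h : Tv τ φ c) (h' : Tv σ φ c') (hne : τ ≠ σ) (h1 : τ ∈ P) (h2 : σ ∈ P) :
    HasNG D P := by
  have hf : ∀ g ∈ Subgroup.closure ({τ, σ} : Set G),
      ∃ d, φ d = 0 ∧ d + d = 0 ∧ ∀ v, g • v = v + (φ v).val • d := form_closure (by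
    rintro _ (rfl | rfl)
    · exact ⟨c, h.ker, h.two, h.act⟩
    · exact ⟨c', h'.ker, h'.two, h'.act⟩)
  have m1 : τ ∈ Subgroup.closure ({τ, σ} : Set G) := Subgroup.subset_closure (by simp)
  have m2 : σ ∈ Subgroup.closure ({τ, σ} : Set G) := Subgroup.subset_closure (by simp)
  obtain ⟨k1, k2⟩ := best_of_form h.surj hf
  refine ⟨_, (Subgroup.closure_le _).2 (by rintro _ (rfl | rfl) <;> assumption), k1,
    fun e => h.ne_one (by simpa [ker_eq_bot] using e m1),
    IsTv.isPGroup ⟨_, _, h⟩ ⟨_, _, h'⟩ fun e => zero_ne_one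
      (h'.ker.symm.trans ((h.three_iff h').1 e).1), fun A0 h0 hi => k2 A0 h0 ?_⟩
  rintro rfl
  rw [Subgroup.relIndex_bot_left] at hi
  obtain ⟨y, -, hu⟩ := (Nat.card_eq_two_iff' 1).1 hi
  exact hne (congrArg Subtype.val ((hu ⟨τ, m1⟩ fun e => h.ne_one (congrArg Subtype.val e)).trans
    (hu ⟨σ, m2⟩ fun e => h'.ne_one (congrArg Subtype.val e)).symm))
theorem Tv.hasNG_of_ne (h : Tv τ φ c) (h' : Tv σ φ' c') (e1 : φ c' = 1) (e2 : φ' c = 0)
    (h1 : τ ∈ P) (h2 : σ ∈ P) : HasNG D P := by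
  have h3 := h'.conj τ
  rw [show φ'.comp (DistribSMul.toAddMonoidHom D τ⁻¹) = φ' from AddMonoidHom.ext fun v => by
    change φ' (τ⁻¹ • v) = _
    rw [inv_eq_of_mul_eq_one_left h.mul_self, h.act, map_add, map_nsmul, e2, smul_zero,
      add_zero]] at h3
  refine h3.hasNG h' (fun e => ?_) (P.mul_mem (P.mul_mem h1 h2) (P.inv_mem h1)) h2
  exact zero_ne_one ((h.fix_iff.1 ((e ▸ h3).unique h').2).symm.trans e1)

theorem commute_of_not_hasNG (pP : IsPGroup 2 P) (hP : ¬ HasNG D P) (h : IsTv D τ) (h' : IsTv D σ)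
    (h1 : τ ∈ P) (h2 : σ ∈ P) : Commute τ σ := by
  obtain ⟨φ, c, h⟩ := h
  obtain ⟨φ', c', h'⟩ := h'
  rcases z2 (φ c') with e | e <;> rcases z2 (φ' c) with e' | e'
  · exact (h.commute_iff h').2 ⟨e, e'⟩
  · exact (hP (h'.hasNG_of_ne h e' e h2 h1)).elim
  · exact (hP (h.hasNG_of_ne h' e e' h1 h2)).elim
  · obtain ⟨k, hk⟩ := pP ⟨_, P.mul_mem h1 h2⟩
    have := orderOf_dvd_of_pow_eq_one (congrArg Subtype.val hk : (τ * σ) ^ 2 ^ k = 1)
    rw [(h.three_iff h').2 ⟨e, e'⟩] at this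
    exact absurd (Nat.prime_three.dvd_of_dvd_pow this) (by norm_num)
theorem JT_le (P : Subgroup G) : JT D P ≤ P := (Subgroup.closure_le _).2 fun _ h => h.1
theorem mem_JT (h : IsTv D τ) (h1 : τ ∈ P) : τ ∈ JT D P := Subgroup.subset_closure ⟨h1, h⟩
theorem JT_mono (h : P ≤ Q) : JT D P ≤ JT D Q :=
  Subgroup.closure_mono fun _ hx => ⟨h hx.1, hx.2⟩
theorem JT_cj (g : G) (P : Subgroup G) : JT D (cj g P) = cj g (JT D P) := by
  have key : ∀ (g : G) (P : Subgroup G), cj g (JT D P) ≤ JT D (cj g P) := fun g P =>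
    cj_le_iff.2 ((Subgroup.closure_le _).2 fun τ hτ => mem_cj.2 (by
      simpa using mem_JT (hτ.2.conj g) (mem_cj_of_mem g hτ.1)))
  refine le_antisymm ?_ (key g P)
  have := cj_mono g (key g⁻¹ (cj g P))
  rwa [cj_cj_inv, cj_inv_cj] at this
theorem Sol.conj {T : Subgroup G} {ρ ρ' : G} (h : Sol D T ρ ρ') (g : G) :
    Sol D (cj g T) (g * ρ * g⁻¹) (g * ρ' * g⁻¹) := by
  refine ⟨mem_cj_of_mem g h.mem, h.tv.conj g, h.tv'.conj g, ?_, fun σ h1 h2 h3 => ?_⟩
  · rw [conj_mul, ← h.three]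
    exact (MulAut.conj g).orderOf_eq _
  · have := (h.comm _ (mem_cj.1 h1) (by simpa using h2.conj g⁻¹) fun e => h3 (by
      rw [← e]; group)).map (MulAut.conj g)
    simpa [mul_assoc] using this

end Cfsg.Agent.GL
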