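import Cfsg.Agent.Lib.GL.KK
import Cfsg.Agent.Lib.GL.Tr
import Cfsg.Agent.Lib.GL.Syl
import Cfsg.Agent.Lib.H8.Factor2

/-! S5242, row GL-Tw (notes/GL.md): `F` is `F_S(G)` twisted by a homomorphism `S/A → A`. -/

set_option autoImplicit false
set_option linter.unusedSectionVars false
set_option linter.unusedVariables false

namespace Cfsg.Agent.GL

open Cfsg Cfsg.FusionSystem

variable {G : Type*} [Group G] [Finite G] {p : ℕ} [Fact p.Prime]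

theorem cj_le_of_forall {g : G} {P Q : Subgroup G} (h : ∀ u ∈ P, g * u * g⁻¹ ∈ Q) : cj g P ≤ Q := by
  rintro _ ⟨u, hu, rfl⟩
  exact h u hu

/-- The hypotheses of `twist`. -/
structure TwD (p : ℕ) (S : Sylow p G) (A : Subgroup G) (F : FusionSystem (S : Subgroup G)) : Prop where
  cen : A ≤ Subgroup.center G
  le : A ≤ S
  sat : F.IsSaturated p
  hc : F.IsCentral A
  h1 : ∀ P f, F.IsMor P f → A ≤ P → ∃ g : G, ∀ u ∈ P, (g * u * g⁻¹)⁻¹ * f u ∈ A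
  h2 : ∀ (g : G) (P : Subgroup G), A ≤ P → P ≤ S → cj g P ≤ S →
      ∃ f, F.IsMor P f ∧ ∀ u ∈ P, (g * u * g⁻¹)⁻¹ * f u ∈ A

/-- `u ↦ g u g⁻¹ μ(u)` is a map of `F` on `P`. -/
def Mo {S : Subgroup G} (F : FusionSystem S) (A : Subgroup G) (g : G) (P : Subgroup G) (μ : G → G) :
    Prop :=
  A ≤ P ∧ (∀ u ∈ P, μ u ∈ A) ∧ F.IsMor P (fun u => g * u * g⁻¹ * μ u)

variable {S : Sylow p G} {A : Subgroup G} {F : FusionSystem (S : Subgroup G)} {g g' : G}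
  {P Q : Subgroup G} {μ μ' : G → G}

theorem TwD.comm (h : TwD p S A F) {a : G} (ha : a ∈ A) (x : G) : x * a = a * x :=
  Subgroup.mem_center_iff.1 (h.cen ha) x

theorem TwD.conj (h : TwD p S A F) {a : G} (ha : a ∈ A) (x : G) : x * a * x⁻¹ = a := by
  rw [h.comm ha, mul_inv_cancel_right]

theorem TwD.le_cj (h : TwD p S A F) (hP : A ≤ P) (g : G) : A ≤ cj g P := fun a ha => by
  rw [← h.conj ha g]; exact mem_cj_of_mem g (hP ha)

theorem TwD.triv (h : TwD p S A F) (m : Mo F A g P μ) {a : G} (ha : a ∈ A) : μ a = 1 := by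
  have := h.hc.apply_eq m.2.2 (m.1 ha) ha
  rwa [h.conj ha, mul_eq_left] at this

theorem TwD.hom (h : TwD p S A F) (m : Mo F A g P μ) {u v : G} (hu : u ∈ P) (hv : v ∈ P) :
    μ (u * v) = μ u * μ v := by
  have := m.2.2.map_mul hu hv
  rw [mul_assoc _ (μ u), ← mul_assoc (μ u), ← h.comm (m.2.1 u hu), mul_assoc _ (μ u),
    ← mul_assoc (g * u * g⁻¹), show g * u * g⁻¹ * (g * v * g⁻¹) = g * (u * v) * g⁻¹ by group] at this
  exact mul_left_cancel this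

theorem TwD.mul_A (h : TwD p S A F) (m : Mo F A g P μ) {u a : G} (hu : u ∈ P) (ha : a ∈ A) :
    μ (u * a) = μ u := by
  rw [h.hom m hu (m.1 ha), h.triv m ha, mul_one]

theorem Mo.le (m : Mo F A g P μ) : P ≤ S := m.2.2.le

theorem TwD.cj_le (h : TwD p S A F) (m : Mo F A g P μ) : cj g P ≤ S := by
  rintro _ ⟨u, hu, rfl⟩
  exact ((S : Subgroup G).mul_mem_cancel_right (h.le (m.2.1 u hu))).1 (m.2.2.mem hu)

theorem TwD.ex (h : TwD p S A F) (h1 : A ≤ P) (h2 : P ≤ S) (h3 : cj g P ≤ S) : ∃ μ, Mo F A g P μ := by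
  obtain ⟨f, a, b⟩ := h.h2 g P h1 h2 h3
  exact ⟨fun u => (g * u * g⁻¹)⁻¹ * f u, h1, b, a.congr fun u _ => by group⟩

theorem Mo.mono (m : Mo F A g P μ) (h1 : A ≤ Q) (h2 : Q ≤ P) : Mo F A g Q μ :=
  ⟨h1, fun u hu => m.2.1 u (h2 hu), m.2.2.mono h2⟩

theorem Mo.congr (m : Mo F A g P μ) (h1 : ∀ u ∈ P, μ' u ∈ A)
    (h2 : ∀ u ∈ P, g * u * g⁻¹ * μ u = g' * u * g'⁻¹ * μ' u) : Mo F A g' P μ' :=
  ⟨m.1, h1, m.2.2.congr h2⟩

theorem Mo.congr' (m : Mo F A g P μ) (e : g = g') (h2 : ∀ u ∈ P, μ u = μ' u) : Mo F A g' P μ' :=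
  m.congr (fun u hu => h2 u hu ▸ m.2.1 u hu) fun u hu => by rw [e, h2 u hu]

theorem TwD.comp (h : TwD p S A F) (m : Mo F A g P μ) (m' : Mo F A g' (cj g P) μ') :
    Mo F A (g' * g) P (fun u => μ u * μ' (g * u * g⁻¹)) := by
  refine ⟨m.1, fun u hu => A.mul_mem (m.2.1 u hu) (m'.2.1 _ (mem_cj_of_mem g hu)),
    (m'.2.2.comp' m.2.2 fun u hu => mul_mem (mem_cj_of_mem g hu) (m'.1 (m.2.1 u hu))).congr
      fun u hu => ?_⟩
  rw [h.mul_A m' (mem_cj_of_mem g hu) (m.2.1 u hu), ← mul_assoc g', mul_assoc _ (μ u),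
    ← h.comm (m.2.1 u hu)]
  group

theorem Mo.inn (h1 : A ≤ P) (h2 : P ≤ S) (hs : g ∈ S) : Mo F A g P (fun _ => 1) :=
  ⟨h1, fun _ _ => A.one_mem, (isMor_conj F h2 hs).congr fun u _ => by simp⟩

theorem TwD.isIso (h : TwD p S A F) (m : Mo F A g P μ) :
    F.IsIso P (cj g P) (fun u => g * u * g⁻¹ * μ u) := by
  refine ⟨m.2.2, fun u hu => mul_mem (mem_cj_of_mem g hu) (h.le_cj m.1 g (m.2.1 u hu)), ?_⟩
  rintro _ ⟨u, hu, rfl⟩
  have ha := m.2.1 u hu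
  refine ⟨u * (μ u)⁻¹, mul_mem hu (m.1 (A.inv_mem ha)), ?_⟩
  show g * (u * (μ u)⁻¹) * g⁻¹ * μ (u * (μ u)⁻¹) = g * u * g⁻¹
  rw [h.mul_A m hu (A.inv_mem ha), mul_assoc _ g⁻¹, h.comm ha g⁻¹]
  group

theorem TwD.inv (h : TwD p S A F) (m : Mo F A g P μ) :
    Mo F A g⁻¹ (cj g P) (fun v => (μ (g⁻¹ * v * g))⁻¹) := by
  refine ⟨h.le_cj m.1 g, fun v hv => A.inv_mem (m.2.1 _ (mem_cj.1 hv)),
    ((h.isIso m).symm_of_left_inv fun u hu => ?_).mor⟩
  have ha := m.2.1 u hu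
  have e : g⁻¹ * (g * u * g⁻¹ * μ u) * g = u * μ u := by
    rw [mul_assoc _ _ g, mul_assoc _ _ g, ← h.comm ha g]; group
  show g⁻¹ * (g * u * g⁻¹ * μ u) * g⁻¹⁻¹ * (μ (g⁻¹ * (g * u * g⁻¹ * μ u) * g))⁻¹ = u
  rw [inv_inv, e, h.mul_A m hu ha, mul_inv_cancel_right]

theorem TwD.ker_aut (h : TwD p S A F) (m : Mo F A 1 Q μ) (hQ : F.IsFullyAutomized p Q) :
    ∃ z : G, ∀ u ∈ Q, z * u * z⁻¹ = u * μ u := by
  obtain ⟨hQS, R, hR⟩ := hQ
  have hfix : ∀ α ∈ F.autGroup Q, ∀ v : Q, (v : G) ∈ A → α v = v := fun α hα v hv =>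
    Subtype.ext (by
      have := h.hc.apply_eq (isMor_of_mem_autGroup hQS hα) v.2 hv
      rwa [equivFun_coe] at this)
  have key : ∀ α ∈ F.autGroup Q, ∀ v w : Q, (v : G)⁻¹ * w ∈ A → ((α v : Q) : G)⁻¹ * α w = (v : G)⁻¹ * w := by
    intro α hα v w hvw
    have := congrArg Subtype.val (hfix α hα (v⁻¹ * w) hvw)
    rwa [map_mul, map_inv] at this
  let K : Subgroup (F.autGroup Q) :=
    { carrier := {α | ∀ v : Q, (v : G)⁻¹ * ((α : MulAut Q) v : Q) ∈ A}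
      mul_mem' := fun {α β} ha hb v => by
        have := A.mul_mem (hb v) (ha ((β : MulAut Q) v))
        simpa [mul_assoc] using this
      one_mem' := fun v => by simp
      inv_mem' := fun {α} ha v => by
        have := A.inv_mem (ha ((α : MulAut Q)⁻¹ v))
        simpa using this }
  have hn : K.Normal := ⟨fun α hα β v => by
    have := key _ β.2 _ _ (hα ((β : MulAut Q)⁻¹ v))
    have e := hα ((β : MulAut Q)⁻¹ v)
    rw [← this] at e
    simpa using e⟩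
  have hp : IsPGroup p K := by
    rintro ⟨α, hα⟩
    obtain ⟨k, hk⟩ := IsPGroup.iff_card.1 (S.2.to_le h.le)
    refine ⟨k, Subtype.ext (Subtype.ext (MulEquiv.ext fun v => Subtype.ext ?_))⟩
    have hpow : ∀ n : ℕ, ((((α : MulAut Q) ^ n) v : Q) : G) =
        v * ((v : G)⁻¹ * ((α : MulAut Q) v : Q)) ^ n := by
      intro n
      induction n with
      | zero => simp
      | succ n ih =>
        have e1 := key _ α.2 v (((α : MulAut Q) ^ n) v) (by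
          rw [ih, inv_mul_cancel_left]; exact A.pow_mem (hα v) n)
        rw [ih, inv_mul_cancel_left, inv_mul_eq_iff_eq_mul] at e1
        rw [pow_succ', MulAut.mul_apply, e1, pow_succ', ← mul_assoc, mul_inv_cancel_left]
    have e : ((v : G)⁻¹ * ((α : MulAut Q) v : Q)) ^ p ^ k = 1 := by
      have := congrArg Subtype.val (pow_card_eq_one' (x := (⟨_, hα v⟩ : A)))
      rwa [hk] at this
    have := hpow (p ^ k)
    rw [e, mul_one] at this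
    simpa using this
  have hi := h.isIso m
  rw [cj_one] at hi
  obtain ⟨α, hα, e⟩ := hi.exists_aut
  have hαK : (⟨α, hα⟩ : F.autGroup Q) ∈ K := fun v => by
    have := e v v.2
    rw [equivFun_coe] at this
    show (v : G)⁻¹ * (α v : Q) ∈ A
    rw [this]
    simpa using m.2.1 v v.2
  have := hp.le_sylow_of_normal R hαK
  rw [hR] at this
  obtain ⟨z, -, -, hz⟩ := mem_autInducedBy_iff'.1 (Subgroup.mem_subgroupOf.1 this)
  exact ⟨z, fun u hu => by rw [← hz u hu, e u hu]; simp⟩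

theorem TwD.ker (h : TwD p S A F) (m : Mo F A 1 P μ) : ∃ z : G, ∀ u ∈ P, z * u * z⁻¹ = u * μ u := by
  obtain ⟨Q, hPQ, hQ, -⟩ := h.sat P m.le
  obtain ⟨f, hf⟩ := hPQ.exists_isIso
  obtain ⟨g, hg⟩ := h.h1 P f hf.mor m.1
  have m0 : Mo F A g P (fun u => (g * u * g⁻¹)⁻¹ * f u) :=
    ⟨m.1, hg, hf.mor.congr fun u _ => by group⟩
  obtain rfl : Q = cj g P := (hf.congr fun u _ => by group).unique (h.isIso m0)
  set ν : G → G := fun u => (g * u * g⁻¹)⁻¹ * f u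
  have m1 := h.comp (h.inv m0) (g' := 1) (μ' := μ) (by rwa [cj_inv_cj])
  have m2 := h.comp m1 (g' := g) (μ' := ν) (by rwa [one_mul, cj_inv_cj])
  obtain ⟨z, hz⟩ := h.ker_aut (μ := fun v => μ (g⁻¹ * v * g))
    (m2.congr' (by simp) fun v hv => by
      simp only [inv_inv, one_mul]
      rw [h.comm (m.2.1 _ (mem_cj.1 hv)), inv_mul_cancel_right]) hQ
  refine ⟨g⁻¹ * z * g, fun u hu => ?_⟩
  have := hz _ (mem_cj_of_mem g hu)
  rw [show g⁻¹ * (g * u * g⁻¹) * g = u by group] at this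
  calc g⁻¹ * z * g * u * (g⁻¹ * z * g)⁻¹ = g⁻¹ * (z * (g * u * g⁻¹) * z⁻¹) * g := by group
    _ = _ := by rw [this, mul_assoc _ _ g, mul_assoc _ _ g, ← h.comm (m.2.1 u hu) g]; group

theorem TwD.of_ker (h : TwD p S A F) (h1 : A ≤ P) (h2 : P ≤ S) (h3 : ∀ u ∈ P, μ u ∈ A) {z : G}
    (hz : ∀ u ∈ P, z * u * z⁻¹ = u * μ u) : Mo F A 1 P μ := by
  obtain ⟨k, hk⟩ := IsPGroup.iff_card.1 (S.2.to_le h.le)
  obtain ⟨m, hm, j, hj⟩ := exists_pPart (p := p) z k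
  have hpow : ∀ n : ℕ, ∀ u ∈ P, z ^ n * u * (z ^ n)⁻¹ = u * μ u ^ n := by
    intro n u hu
    induction n with
    | zero => simp
    | succ n ih =>
      rw [show z ^ (n + 1) * u * (z ^ (n + 1))⁻¹ = z * (z ^ n * u * (z ^ n)⁻¹) * z⁻¹ by group, ih,
        ← mul_assoc, mul_assoc _ _ z⁻¹, ← h.comm (A.pow_mem (h3 u hu) n), ← mul_assoc, hz u hu,
        pow_succ', mul_assoc]
  have hz' : ∀ u ∈ P, z ^ m * u * (z ^ m)⁻¹ = u * μ u := fun u hu => by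
    rw [hpow m u hu]
    congr 1
    have e : orderOf (μ u) ∣ p ^ k := by
      rw [← hk]; exact A.orderOf_dvd_natCard (h3 u hu)
    rw [pow_eq_pow_iff_modEq.2 (hm.of_dvd e), pow_one]
  generalize z ^ m = y at hj hz'
  have hy : cj y P = P := Subgroup.eq_of_le_of_card_ge (cj_le_of_forall fun u hu =>
    (hz' u hu).symm ▸ mul_mem hu (h1 (h3 u hu))) (card_cj y P).ge
  have py : IsPGroup p (Subgroup.zpowers y) := by
    obtain ⟨i, -, hi⟩ := (Nat.dvd_prime_pow Fact.out).1 (orderOf_dvd_of_pow_eq_one hj)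
    exact IsPGroup.of_card ((Nat.card_zpowers y).trans hi)
  obtain ⟨γ, hγ⟩ := exists_cj_le_sylow S (isPGroup_sup (S.2.to_le h2) py fun g hg =>
    mem_normalizer_iff_cj.1 ((Subgroup.zpowers_le.2 (mem_normalizer_iff_cj.2 hy)) hg))
  have hP' : cj γ P ≤ S := (cj_mono γ le_sup_left).trans hγ
  obtain ⟨ν, m0⟩ := h.ex h1 h2 hP'
  have m1 := h.comp m0 (Mo.inn (g := γ * y * γ⁻¹) (h.le_cj h1 γ) hP'
    (hγ (mem_cj_of_mem γ (Subgroup.mem_sup_right (Subgroup.mem_zpowers y)))))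
  have m2 := h.comp m1 (g' := γ⁻¹) (μ' := fun v => (ν (γ⁻¹ * v * γ))⁻¹) (by
    rw [inv_mul_cancel_right, cj_mul, hy]; exact h.inv m0)
  refine m2.congr h3 fun u hu => ?_
  rw [inv_mul_cancel_right, inv_mul_cancel_left,
    show γ⁻¹ * (γ * y * u * (γ * y)⁻¹) * γ = y * u * y⁻¹ by group, hz' u hu,
    h.mul_A m0 hu (h3 u hu)]
  simp

/-- `μ` is admissible for the pair of points `x, y` of `G ⧸ S`. -/
def Adm (F : FusionSystem (S : Subgroup G)) (A : Subgroup G) (x y : G ⧸ (S : Subgroup G))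
    (P : Subgroup G) (μ : G → G) : Prop :=
  ∃ a b : G, (a : G ⧸ (S : Subgroup G)) = x ∧ (b : G ⧸ (S : Subgroup G)) = y ∧
    Mo F A (b⁻¹ * a) (cj a⁻¹ P) (fun v => μ (a * v * a⁻¹))

variable {x y z : G ⧸ (S : Subgroup G)}

theorem TwD.rep (h : TwD p S A F) (m : Adm F A x y P μ) {a b : G} (ha : (a : G ⧸ (S : Subgroup G)) = x)
    (hb : (b : G ⧸ (S : Subgroup G)) = y) :
    Mo F A (b⁻¹ * a) (cj a⁻¹ P) (fun v => μ (a * v * a⁻¹)) := by
  obtain ⟨a0, b0, ha0, hb0, m⟩ := m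
  have h1 : a0⁻¹ * a ∈ S := QuotientGroup.eq.1 (ha0.trans ha.symm)
  have h2 : b⁻¹ * b0 ∈ S := QuotientGroup.eq.1 (hb.trans hb0.symm)
  have e : cj a⁻¹ P = cj (a0⁻¹ * a)⁻¹ (cj a0⁻¹ P) := by rw [← cj_mul]; simp
  have m1 := h.comp (Mo.inn (P := cj a⁻¹ P) (e ▸ h.le_cj m.1 _)
    (e ▸ cj_le_of_mem (inv_mem h1) m.le) h1) (g' := b0⁻¹ * a0) (μ' := fun v => μ (a0 * v * a0⁻¹))
    (by rwa [e, cj_cj_inv])
  have m2 := h.comp m1 (Mo.inn (h.le_cj m1.1 _) (h.cj_le m1) h2)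
  exact m2.congr' (by group) fun u _ => by
    simp only [one_mul, mul_one]; congr 1; group

theorem St_quot (a : G) : St ⊤ [(a : G ⧸ (S : Subgroup G))] = cj a S := by
  ext u
  rw [mem_cj, mem_St]
  simp only [Subgroup.mem_top, List.mem_singleton, forall_eq, true_and]
  show ((u * a : G) : G ⧸ (S : Subgroup G)) = a ↔ _
  rw [eq_comm, QuotientGroup.eq, mul_assoc]

theorem TwD.le_St (h : TwD p S A F) (l : List (G ⧸ (S : Subgroup G))) : A ≤ St ⊤ l := by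
  refine fun u hu => ⟨trivial, fun x _ => ?_⟩
  obtain ⟨a, rfl⟩ := QuotientGroup.mk_surjective x
  have : u ∈ St ⊤ [(a : G ⧸ (S : Subgroup G))] := St_quot (S := S) a ▸ h.le_cj h.le a hu
  exact this.2 _ (by simp)

theorem TwD.adm_ex (h : TwD p S A F) (h1 : A ≤ P) (h2 : P ≤ St ⊤ [x, y]) : ∃ μ, Adm F A x y P μ := by
  obtain ⟨a, rfl⟩ := QuotientGroup.mk_surjective x
  obtain ⟨b, rfl⟩ := QuotientGroup.mk_surjective y
  have ha : P ≤ cj a S := St_quot (S := S) a ▸ h2.trans (St_anti _ (by simp))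
  have hb : P ≤ cj b S := St_quot (S := S) b ▸ h2.trans (St_anti _ (by simp))
  obtain ⟨μ, m⟩ := h.ex (g := b⁻¹ * a) (P := cj a⁻¹ P) (h.le_cj h1 _)
    (by rwa [cj_le_iff, inv_inv]) (by rwa [cj_mul, cj_cj_inv, cj_le_iff, inv_inv])
  exact ⟨fun u => μ (a⁻¹ * u * a), a, b, rfl, rfl, m.congr' rfl fun v _ => by congr 1; group⟩

theorem TwD.adm_mono (h : TwD p S A F) (m : Adm F A x y P μ) (h1 : A ≤ Q) (h2 : Q ≤ P) :
    Adm F A x y Q μ :=
  let ⟨a, b, ha, hb, m⟩ := m; ⟨a, b, ha, hb, m.mono (h.le_cj h1 _) (cj_mono _ h2)⟩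

theorem Adm.congr (m : Adm F A x y P μ) (e : ∀ u ∈ P, μ u = μ' u) : Adm F A x y P μ' :=
  let ⟨a, b, ha, hb, m⟩ := m
  ⟨a, b, ha, hb, m.congr' rfl fun v hv => e _ (by simpa using mem_cj.1 hv)⟩

theorem Adm.smul (m : Adm F A x y P μ) (γ : G) :
    Adm F A (γ • x) (γ • y) (cj γ P) (fun u => μ (γ⁻¹ * u * γ)) := by
  obtain ⟨a, b, rfl, rfl, m⟩ := m
  refine ⟨γ * a, γ * b, rfl, rfl, ?_⟩
  rw [mul_inv_rev γ a, cj_mul, cj_inv_cj]
  exact m.congr' (by group) fun v _ => by congr 1; group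

theorem TwD.adm_comp (h : TwD p S A F) (m : Adm F A x y P μ) (m' : Adm F A y z P μ') :
    Adm F A x z P (fun u => μ u * μ' u) := by
  obtain ⟨a, b, ha, hb, m⟩ := m
  obtain ⟨c, hc⟩ := QuotientGroup.mk_surjective z
  have m1 := h.comp m (g' := c⁻¹ * b) (μ' := fun v => μ' (b * v * b⁻¹))
    (by rw [cj_mul, cj_cj_inv]; exact h.rep m' hb hc)
  exact ⟨a, c, ha, hc, m1.congr' (by group) fun v _ => by congr 2; group⟩

theorem TwD.adm_symm (h : TwD p S A F) (m : Adm F A x y P μ) : Adm F A y x P (fun u => (μ u)⁻¹) := by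
  obtain ⟨a, b, ha, hb, m⟩ := m
  have m1 := h.inv m
  rw [cj_mul, cj_cj_inv] at m1
  exact ⟨b, a, hb, ha, m1.congr' (by group) fun v _ => by congr 2; group⟩

theorem Adm.mem (m : Adm F A x y P μ) {u : G} (hu : u ∈ P) : μ u ∈ A := by
  obtain ⟨a, b, -, -, m⟩ := m
  simpa [mul_assoc] using m.2.1 _ (mem_cj_of_mem a⁻¹ hu)

theorem TwD.adm_hom (h : TwD p S A F) (m : Adm F A x y P μ) {u v : G} (hu : u ∈ P) (hv : v ∈ P) :
    μ (u * v) = μ u * μ v := by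
  obtain ⟨a, b, -, -, m⟩ := m
  simpa [mul_assoc] using h.hom m (mem_cj_of_mem a⁻¹ hu) (mem_cj_of_mem a⁻¹ hv)

theorem TwD.adm_triv (h : TwD p S A F) (m : Adm F A x y P μ) {u : G} (hu : u ∈ A) : μ u = 1 := by
  obtain ⟨a, b, -, -, m⟩ := m
  simpa [h.conj hu] using h.triv m hu

theorem TwD.adm_ker (h : TwD p S A F) (m : Adm F A x x P μ) :
    ∃ z : G, ∀ u ∈ P, z * u * z⁻¹ = u * μ u := by
  obtain ⟨a, ha⟩ := QuotientGroup.mk_surjective x
  have m1 := h.rep m ha ha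
  rw [inv_mul_cancel] at m1
  obtain ⟨z, hz⟩ := h.ker m1
  refine ⟨a * z * a⁻¹, fun u hu => ?_⟩
  have := hz _ (mem_cj_of_mem a⁻¹ hu)
  rw [show a * (a⁻¹ * u * a⁻¹⁻¹) * a⁻¹ = u by group] at this
  calc a * z * a⁻¹ * u * (a * z * a⁻¹)⁻¹ = a * (z * (a⁻¹ * u * a⁻¹⁻¹) * z⁻¹) * a⁻¹ := by group
    _ = _ := by rw [this, mul_assoc a, mul_assoc _ _ a⁻¹, ← h.comm (m.mem hu) a⁻¹]; group

theorem TwD.adm_of_ker (h : TwD p S A F) (h1 : A ≤ P) (h2 : P ≤ St ⊤ [x]) (h3 : ∀ u ∈ P, μ u ∈ A)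
    {z : G} (hz : ∀ u ∈ P, z * u * z⁻¹ = u * μ u) : Adm F A x x P μ := by
  obtain ⟨a, rfl⟩ := QuotientGroup.mk_surjective x
  rw [St_quot] at h2
  refine ⟨a, a, rfl, rfl, ?_⟩
  rw [inv_mul_cancel]
  refine h.of_ker (z := a⁻¹ * z * a) (h.le_cj h1 _) (by rwa [cj_le_iff, inv_inv])
    (fun v hv => h3 _ (by simpa using mem_cj.1 hv)) fun v hv => ?_
  have hv' : a * v * a⁻¹ ∈ P := by simpa using mem_cj.1 hv
  calc a⁻¹ * z * a * v * (a⁻¹ * z * a)⁻¹ = a⁻¹ * (z * (a * v * a⁻¹) * z⁻¹) * a := by group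
    _ = _ := by rw [hz _ hv', mul_assoc a⁻¹, mul_assoc _ _ a, ← h.comm (h3 _ hv') a]; group

theorem TwD.van (h : TwD p S A F) :
    Van (G ⧸ (S : Subgroup G)) ⊤ {P | A ≤ P} 1 (Hh A) (Kk A) := by
  have hn : A.Normal := ⟨fun a ha g => (h.conj ha g).symm ▸ ha⟩
  have hAX : ∀ a ∈ A, ∀ x : G ⧸ (S : Subgroup G), a • x = x := fun a ha x =>
    (h.le_St [x] ha).2 x (by simp)
  have pA : IsPGroup p A := S.2.to_le h.le
  letI : MulAction (G ⧸ A) (G ⧸ (S : Subgroup G)) := MulAction.compHom _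
    (QuotientGroup.lift A (MulAction.toPermHom G (G ⧸ (S : Subgroup G)))
      fun a ha => Equiv.ext (hAX a ha))
  have hk := QuotientGroup.ker_mk' A
  have h2 := van_Kk (X := G ⧸ (S : Subgroup G)) (p := p) (QuotientGroup.mk' A)
    (QuotientGroup.mk'_surjective A) (hk.symm ▸ h.cen) (hk.symm ▸ pA) (fun _ _ => rfl)
    (px_quotient S)
  rw [hk] at h2
  exact van_C (fun P _ _ => N1_le_Kk A P) (fun P hP _ => Kk_le_Hh h.cen hP) h2
    (van_Hh S.not_dvd_index h.cen pA hAX)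

theorem TwD.exists_cochain (h : TwD p S A F) : ∃ δ : List (G ⧸ (S : Subgroup G)) → FA G,
    Eqv (⊤ : Subgroup G) δ ∧
    ∀ x y, δ [x, y] ∈ Hh A (St ⊤ [x, y]) ∧ Adm F A x y (St ⊤ [x, y]) (δ [x, y]).val := by
  classical
  obtain ⟨δ, h1, h2⟩ := exists_eqv (Γ := (⊤ : Subgroup G)) (fun (l : List (G ⧸ (S : Subgroup G))) (m : FA G) =>
    ∀ x y, l = [x, y] → m ∈ Hh A (St ⊤ l) ∧ Adm F A x y (St ⊤ l) m.val) (by
      intro g _ l m hm x y e
      obtain rfl : l = [g⁻¹ • x, g⁻¹ • y] := by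
        have := congrArg (tr g⁻¹) e
        rwa [tr_inv_tr] at this
      obtain ⟨a, b⟩ := hm _ _ rfl
      rw [St_tr (Subgroup.mem_top g)]
      have b' := b.smul g
      rw [smul_inv_smul, smul_inv_smul] at b'
      exact ⟨(wf_Hh h.cen Set.univ).eqv g trivial _ trivial le_top _ a, b'⟩) (by
      intro l
      by_cases hl : ∃ x y, l = [x, y]
      swap
      · exact ⟨0, fun x y e => (hl ⟨x, y, e⟩).elim, fun u _ => smul_zero u⟩
      obtain ⟨x, y, rfl⟩ := hl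
      obtain ⟨μ, m⟩ := h.adm_ex (h.le_St [x, y]) le_rfl
      set P := St (⊤ : Subgroup G) [x, y]
      have e : ∀ u, (FA.mk fun u => if u ∈ P then μ u else 1).val u = if u ∈ P then μ u else 1 :=
        fun u => FA.val_mk (by
          split_ifs with hu
          · exact h.cen (m.mem hu)
          · exact one_mem _)
      have hf : ∀ v ∈ P, v • (FA.mk fun u => if u ∈ P then μ u else 1) =
          FA.mk fun u => if u ∈ P then μ u else 1 := fun v hv => FA.ext fun u => by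
        rw [FA.val_smul, e, e]
        by_cases hu : u ∈ P
        · rw [if_pos hu, if_pos (mul_mem (mul_mem (inv_mem hv) hu) hv),
            h.adm_hom m (mul_mem (inv_mem hv) hu) hv, h.adm_hom m (inv_mem hv) hu,
            h.comm (m.mem hu), mul_assoc, ← h.adm_hom m (inv_mem hv) hv, inv_mul_cancel,
            h.adm_triv m A.one_mem, mul_one]
        · rw [if_neg hu, if_neg (by rwa [← mem_cj, cj_eq_of_mem hv])]
      refine ⟨_, fun x' y' e' => ?_, hf⟩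
      obtain ⟨rfl, rfl⟩ : x = x' ∧ y = y' := by simpa using e'
      refine ⟨⟨hf, fun u hu v hv => ?_, fun u hu => ?_, fun a ha => ?_⟩,
        m.congr fun u hu => by rw [e, if_pos hu]⟩
      · rw [e, e, e, if_pos hu, if_pos hv, if_pos (mul_mem hu hv), h.adm_hom m hu hv]
      · rw [e, if_pos hu]; exact m.mem hu
      · rw [e, if_pos (h.le_St _ ha), h.adm_triv m ha])
  exact ⟨δ, h1, fun x y => h2 _ x y rfl⟩

theorem TwD.exists_hom (h : TwD p S A F) : ∃ f ∈ Hh A S, ∀ (γ : G) (P : Subgroup G), A ≤ P → P ≤ S →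
    cj γ P ≤ S → Mo F A γ P (fun u => f.val (γ * u * γ⁻¹) * (f.val u)⁻¹) := by
  obtain ⟨δ, h1, h2⟩ := h.exists_cochain
  obtain ⟨g, g1, g2, g3⟩ := h.van δ h1 (fun l hl _ => by
    obtain ⟨x, y, rfl⟩ := List.length_eq_two.1 hl
    exact (h2 x y).1) (fun l hl _ => by
    obtain ⟨x, y, z, rfl⟩ := List.length_eq_three.1 hl
    have hA := h.le_St [x, y, z]
    have m := h.adm_comp (h.adm_comp (h.adm_mono (h2 x y).2 hA (St_anti _ (by simp)))
      (h.adm_mono (h2 y z).2 hA (St_anti _ (by simp))))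
      (h.adm_symm (h.adm_mono (h2 x z).2 hA (St_anti _ (by simp))))
    have m' : Adm F A x x (St ⊤ [x, y, z]) (d δ [x, y, z]).val := m.congr fun u _ => by
      rw [d_three, FA.val_add, FA.val_sub, (δ [x, y]).val_comm, mul_assoc]
    exact ⟨fun u hu => h1.d.fix hu, fun u hu => m'.mem hu, h.adm_ker m'⟩)
  have e0 : St ⊤ [((1 : G) : G ⧸ (S : Subgroup G))] = (S : Subgroup G) := by rw [St_quot, cj_one]
  have g2' := g2 [((1 : G) : G ⧸ (S : Subgroup G))] rfl (h.le_St _)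
  rw [e0] at g2'
  refine ⟨_, g2', fun γ P a b c => ?_⟩
  have hP : P ≤ St ⊤ [((1 : G) : G ⧸ (S : Subgroup G)), ((γ⁻¹ : G) : G ⧸ (S : Subgroup G))] := by
    intro u hu
    have e1 : u ∈ St ⊤ [((1 : G) : G ⧸ (S : Subgroup G))] := e0.symm ▸ b hu
    have e2 : u ∈ St ⊤ [((γ⁻¹ : G) : G ⧸ (S : Subgroup G))] := St_quot (S := S) γ⁻¹ ▸ cj_le_iff.1 c hu
    exact ⟨trivial, List.forall_mem_cons.2 ⟨e1.2 _ (List.mem_singleton_self _), e2.2⟩⟩
  obtain ⟨-, k1, z, k2⟩ := neg_mem (g3 [((1 : G) : G ⧸ (S : Subgroup G)), (γ⁻¹ : G)] rfl (h.le_St _))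
  have m := h.adm_comp (h.adm_of_ker (x := (1 : G)) a (e0.symm ▸ b) (fun u hu => k1 u (hP hu))
    (fun u hu => k2 u (hP hu))) (h.adm_mono (h2 _ _).2 a hP)
  have m1 := h.rep m rfl rfl
  have e3 : g [((γ⁻¹ : G) : G ⧸ (S : Subgroup G))] = γ⁻¹ • g [(1 : G)] := by
    rw [← g1 γ⁻¹ trivial]
    show _ = g [((γ⁻¹ * 1 : G) : G ⧸ (S : Subgroup G))]
    rw [mul_one]
  rw [inv_one, cj_one] at m1
  refine m1.congr' (by simp) fun u _ => ?_
  simp only [one_mul, mul_one, Pi.sub_apply, d_two, e3, neg_sub, FA.val_sub, FA.val_smul, inv_inv,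
    inv_mul_cancel_right]

theorem twist (S : Sylow p G) {A : Subgroup G} (hA : A ≤ Subgroup.center G) (hAS : A ≤ S)
    (F : FusionSystem (S : Subgroup G)) (hF : F.IsSaturated p) (hc : F.IsCentral A)
    (h1 : ∀ P f, F.IsMor P f → A ≤ P → ∃ g : G, ∀ u ∈ P, (g * u * g⁻¹)⁻¹ * f u ∈ A)
    (h2 : ∀ (g : G) (P : Subgroup G), A ≤ P → P ≤ S → cj g P ≤ S →
      ∃ f, F.IsMor P f ∧ ∀ u ∈ P, (g * u * g⁻¹)⁻¹ * f u ∈ A) :
    ∃ β : (S : Subgroup G) →* G, F.IsRealizedBy β ∧ β.range = S := by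
  have h : TwD p S A F := ⟨hA, hAS, hF, hc, h1, h2⟩
  obtain ⟨f, ⟨-, f1, f2, f3⟩, hf⟩ := h.exists_hom
  have f4 : ∀ u ∈ (S : Subgroup G), ∀ a ∈ A, f.val (u * a) = f.val u := fun u hu a ha => by
    rw [f1 u hu a (hAS ha), f3 a ha, mul_one]
  let β : (S : Subgroup G) →* G := MonoidHom.mk' (fun s => s * (f.val s)⁻¹) fun s t => by
    show (s : G) * t * (f.val (s * t))⁻¹ = s * (f.val s)⁻¹ * (t * (f.val t)⁻¹)
    rw [f1 _ s.2 _ t.2, mul_inv_rev, mul_assoc (s : G) (f.val s)⁻¹, ← h.comm (inv_mem (f2 _ s.2))]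
    group
  have hβ : ∀ (s : G) (hs : s ∈ (S : Subgroup G)), β ⟨s, hs⟩ = s * (f.val s)⁻¹ := fun _ _ => rfl
  refine ⟨β, ⟨(injective_iff_map_eq_one β).2 fun s hs => ?_, fun P hP φ hφ => ⟨fun hm => ?_, ?_⟩⟩, ?_⟩
  · have e : (s : G) = f.val s := mul_inv_eq_one.1 hs
    exact Subtype.ext (e.trans (f3 _ (e ▸ f2 _ s.2)))
  · obtain ⟨ψ, a, b, -⟩ := hc.exists_ext (isMor_of_mem_Hom hm)
    obtain ⟨g, hg⟩ := h1 _ ψ a le_sup_right
    have m0 : Mo F A g (P ⊔ A) (fun u => (g * u * g⁻¹)⁻¹ * ψ u) :=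
      ⟨le_sup_right, hg, a.congr fun u _ => by group⟩
    have m1 := h.comp m0 (h.inv (hf g _ le_sup_right m0.le (h.cj_le m0)))
    rw [inv_mul_cancel] at m1
    obtain ⟨z, hz⟩ := h.ker m1
    refine ⟨g * z, fun x => ?_⟩
    have hx : (x : G) ∈ P ⊔ A := Subgroup.mem_sup_left x.2
    have e1 : φ x = g * x * g⁻¹ * ((g * x * g⁻¹)⁻¹ * ψ x) := by
      rw [b x x.2, homFun_coe]; group
    have hgx : g * x * g⁻¹ ∈ (S : Subgroup G) := h.cj_le m0 (mem_cj_of_mem g hx)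
    have e2 := hz x hx
    rw [show g⁻¹ * (g * x * g⁻¹) * g = x by group] at e2
    have ha := hg x hx
    generalize (g * x * g⁻¹)⁻¹ * ψ x = ν at e1 e2 ha
    have e3 : f.val (φ x) = f.val (g * x * g⁻¹) := by rw [e1, f4 _ hgx _ ha]
    have a1 := f2 _ hgx
    have a2 := f2 _ (hP x.2)
    rw [hβ, hβ, e3, e1]
    generalize f.val (g * x * g⁻¹) = c1 at e2 a1
    generalize f.val x = c2 at e2 a2
    calc g * x * g⁻¹ * ν * c1⁻¹ = g * (x * (ν * (c1 * c2⁻¹)⁻¹)) * c2⁻¹ * g⁻¹ := by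
          have hm : ν * (c1 * c2⁻¹)⁻¹ * c2⁻¹ = ν * c1⁻¹ := by
            rw [mul_inv_rev, inv_inv, ← h.comm a2]; group
          rw [mul_assoc _ ν, ← hm, mul_assoc _ g⁻¹, h.comm (hm ▸ mul_mem ha (inv_mem a1)) g⁻¹]
          group
      _ = _ := by
          rw [← e2, mul_assoc g, mul_assoc _ z⁻¹, h.comm (inv_mem a2) z⁻¹]; group
  · rintro ⟨g, hg⟩
    have e1 : ∀ x : P, g * x * g⁻¹ = φ x * ((f.val (φ x))⁻¹ * f.val x) := fun x => by
      have := hg x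
      rw [hβ, hβ, ← mul_assoc, mul_assoc _ _ g⁻¹, ← h.comm (inv_mem (f2 _ (hP x.2)))] at this
      rw [← mul_assoc (φ x), this]
      group
    have ha : ∀ x : P, (f.val (φ x))⁻¹ * f.val x ∈ A := fun x =>
      mul_mem (inv_mem (f2 _ (hφ x))) (f2 _ (hP x.2))
    have m := hf g (P ⊔ A) le_sup_right (sup_le hP hAS) (by
      rw [cj_sup]
      exact sup_le (cj_le_of_forall fun u hu => (e1 ⟨u, hu⟩).symm ▸ mul_mem (hφ _) (hAS (ha _)))
        (cj_le_of_forall fun u hu => (h.conj hu g).symm ▸ hAS hu))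
    refine (m.2.2.mono le_sup_left).mem_Hom fun x => ?_
    show φ x = g * x * g⁻¹ * (f.val (g * x * g⁻¹) * (f.val x)⁻¹)
    rw [e1 x, f4 _ (hφ x) _ (ha x), mul_assoc, mul_assoc, ← mul_assoc (f.val x),
      f.val_comm (φ x) (f.val x)]
    group
  · refine le_antisymm ?_ fun s hs => ⟨⟨s * f.val s, mul_mem hs (hAS (f2 s hs))⟩, ?_⟩
    · rintro _ ⟨s, rfl⟩
      exact mul_mem s.2 (hAS (inv_mem (f2 _ s.2)))
    · rw [hβ, f4 s hs _ (f2 s hs), mul_inv_cancel_right]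

end Cfsg.Agent.GL
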