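import Cfsg.Agent.Lib.GL.Core

/-! S5242, row GL-ZSys (notes/GL.md): systems of abelian subgroups of `G` as subquotients of `ℤ[G]`. -/

set_option autoImplicit false
set_option linter.unusedSectionVars false
set_option linter.unusedVariables false

namespace Cfsg.Agent.GL

/-- The free abelian group on `G`, with the conjugation action. -/
def ZG (G : Type*) : Type _ := FreeAbelianGroup G

variable {G : Type*} [Group G]

instance : AddCommGroup (ZG G) := inferInstanceAs (AddCommGroup (FreeAbelianGroup G))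

/-- The basis vector. -/
def ZG.of (x : G) : ZG G := FreeAbelianGroup.of x

/-- The additive map with given values on the basis. -/
def ZG.lift {M : Type*} [AddCommGroup M] (e : G → M) : ZG G →+ M := FreeAbelianGroup.lift e

@[simp] theorem ZG.lift_of {M : Type*} [AddCommGroup M] (e : G → M) (x : G) :
    ZG.lift e (ZG.of x) = e x := FreeAbelianGroup.lift_apply_of e x

theorem ZG.hom_ext {M : Type*} [AddCommGroup M] {f g : ZG G →+ M}
    (h : ∀ x, f (ZG.of x) = g (ZG.of x)) : f = g := FreeAbelianGroup.lift_ext f g h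

instance : DistribMulAction G (ZG G) where
  smul g m := ZG.lift (fun x => ZG.of (g * x * g⁻¹)) m
  one_smul m := DFunLike.congr_fun (ZG.hom_ext (f := ZG.lift fun x => ZG.of ((1 : G) * x * 1⁻¹))
    (g := AddMonoidHom.id _) fun x => by simp) m
  mul_smul g h m := DFunLike.congr_fun
    (ZG.hom_ext (f := ZG.lift fun x => ZG.of (g * h * x * (g * h)⁻¹))
      (g := (ZG.lift fun x => ZG.of (g * x * g⁻¹)).comp (ZG.lift fun x => ZG.of (h * x * h⁻¹)))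
      fun x => by simp [mul_assoc]) m
  smul_zero g := map_zero (ZG.lift _)
  smul_add g := map_add (ZG.lift _)

theorem ZG.smul_of (g x : G) : g • ZG.of x = ZG.of (g * x * g⁻¹) := ZG.lift_of _ _

/-- The preimage of `Z1 P` under `ℤ[Z P] → Z P`. -/
def Sy (Z Z1 : Subgroup G → Subgroup G) (P : Subgroup G) : AddSubgroup (ZG G) :=
  AddSubgroup.closure ({m | ∃ z ∈ Z1 P, m = ZG.of z} ∪
    {m | ∃ z ∈ Z P, ∃ w ∈ Z P, m = ZG.of (z * w) - ZG.of z - ZG.of w})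

/-- A system of abelian subgroups on `U`. -/
structure ZWF (Γ : Subgroup G) (U : Set (Subgroup G)) (Z : Subgroup G → Subgroup G) : Prop where
  anti : ∀ P ∈ U, ∀ P', P ≤ P' → P' ≤ Γ → Z P' ≤ Z P
  eqv : ∀ g ∈ Γ, ∀ P ∈ U, P ≤ Γ → ∀ z ∈ Z P, g * z * g⁻¹ ∈ Z (cj g P)
  fix : ∀ P ∈ U, P ≤ Γ → ∀ z ∈ Z P, ∀ u ∈ P, u * z * u⁻¹ = z
  comm : ∀ P ∈ U, P ≤ Γ → ∀ z ∈ Z P, ∀ w ∈ Z P, z * w = w * z

variable {Γ : Subgroup G} {U : Set (Subgroup G)} {Z Z1 Z2 : Subgroup G → Subgroup G}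

theorem zwf_bot (Γ : Subgroup G) (U : Set (Subgroup G)) : ZWF Γ U (fun _ => ⊥) where
  anti _ _ _ _ _ := le_rfl
  eqv g _ _ _ _ z hz := by simp [Subgroup.mem_bot.1 hz]
  fix _ _ _ z hz u _ := by simp [Subgroup.mem_bot.1 hz]
  comm _ _ _ z hz w _ := by simp [Subgroup.mem_bot.1 hz]

theorem ZWF.mono {U' : Set (Subgroup G)} (hZ : ZWF Γ U Z) (h : ∀ P ∈ U', P ≤ Γ → P ∈ U) :
    ZWF Γ U' Z where
  anti P hP P' h1 h2 := hZ.anti P (h P hP (h1.trans h2)) P' h1 h2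
  eqv g hg P hP h1 := hZ.eqv g hg P (h P hP h1) h1
  fix P hP h1 := hZ.fix P (h P hP h1) h1
  comm P hP h1 := hZ.comm P (h P hP h1) h1

theorem ZWF.mono_group {Γ' : Subgroup G} (hZ : ZWF Γ U Z) (h : Γ' ≤ Γ) : ZWF Γ' U Z where
  anti P hP P' h1 h2 := hZ.anti P hP P' h1 (h2.trans h)
  eqv g hg P hP h1 := hZ.eqv g (h hg) P hP (h1.trans h)
  fix P hP h1 := hZ.fix P hP (h1.trans h)
  comm P hP h1 := hZ.comm P hP (h1.trans h)

theorem wf_Sy (hZ : ZWF Γ U Z) (hZ1 : ZWF Γ U Z1) : WF Γ U (Sy Z Z1) where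
  anti P hP P' h1 h2 := AddSubgroup.closure_mono (by
    rintro m (⟨z, hz, rfl⟩ | ⟨z, hz, w, hw, rfl⟩)
    · exact Or.inl ⟨z, hZ1.anti P hP P' h1 h2 hz, rfl⟩
    · exact Or.inr ⟨z, hZ.anti P hP P' h1 h2 hz, w, hZ.anti P hP P' h1 h2 hw, rfl⟩)
  eqv g hg P hP h1 m hm := by
    induction hm using AddSubgroup.closure_induction with
    | mem m hm =>
      rcases hm with ⟨z, hz, rfl⟩ | ⟨z, hz, w, hw, rfl⟩
      · exact AddSubgroup.subset_closure (Or.inl ⟨_, hZ1.eqv g hg P hP h1 z hz, ZG.smul_of _ _⟩)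
      · refine AddSubgroup.subset_closure (Or.inr ⟨_, hZ.eqv g hg P hP h1 z hz, _,
          hZ.eqv g hg P hP h1 w hw, ?_⟩)
        simp [smul_sub, ZG.smul_of, mul_assoc]
    | zero => rw [smul_zero]; exact zero_mem _
    | add a b _ _ ha hb => rw [smul_add]; exact add_mem ha hb
    | neg a _ ha => rw [smul_neg]; exact neg_mem ha
  fix P hP h1 m hm u hu := by
    induction hm using AddSubgroup.closure_induction with
    | mem m hm =>
      rcases hm with ⟨z, hz, rfl⟩ | ⟨z, hz, w, hw, rfl⟩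
      · rw [ZG.smul_of, hZ1.fix P hP h1 z hz u hu]
      · rw [smul_sub, smul_sub, ZG.smul_of, ZG.smul_of, ZG.smul_of, hZ.fix P hP h1 z hz u hu,
          hZ.fix P hP h1 w hw u hu, hZ.fix P hP h1 _ (mul_mem hz hw) u hu]
    | zero => rw [smul_zero]
    | add a b _ _ ha hb => rw [smul_add, ha, hb]
    | neg a _ ha => rw [smul_neg, ha]

theorem Sy_mono {P : Subgroup G} (h : Z2 P ≤ Z1 P) : Sy Z Z2 P ≤ Sy Z Z1 P :=
  AddSubgroup.closure_mono (Set.union_subset_union_left _ fun _ ⟨z, hz, e⟩ => ⟨z, h hz, e⟩)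

theorem Sy_congr {P : Subgroup G} (h : Z2 P = Z1 P) : Sy Z Z2 P = Sy Z Z1 P :=
  le_antisymm (Sy_mono h.le) (Sy_mono h.ge)

theorem of_mem_Sy {P : Subgroup G} {z : G} (h : z ∈ Z1 P) : ZG.of z ∈ Sy Z Z1 P :=
  AddSubgroup.subset_closure (Or.inl ⟨z, h, rfl⟩)

theorem of_mul_mem_Sy {P : Subgroup G} {z w : G} (hz : z ∈ Z P) (hw : w ∈ Z P) :
    ZG.of (z * w) - ZG.of z - ZG.of w ∈ Sy Z Z1 P :=
  AddSubgroup.subset_closure (Or.inr ⟨z, hz, w, hw, rfl⟩)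

theorem of_mem_Sy_iff {P : Subgroup G} (hc : ∀ z ∈ Z P, ∀ w ∈ Z P, z * w = w * z)
    (h1 : Z1 P ≤ Z P) {z : G} (hz : z ∈ Z P) : ZG.of z ∈ Sy Z Z1 P ↔ z ∈ Z1 P := by
  classical
  refine ⟨fun h => ?_, of_mem_Sy⟩
  let _ : CommGroup (Z P) :=
    { (inferInstance : Group (Z P)) with mul_comm := fun a b => Subtype.ext (hc _ a.2 _ b.2) }
  let ev : ZG G →+ Additive (Z P) :=
    ZG.lift fun x => if h : x ∈ Z P then Additive.ofMul ⟨x, h⟩ else 0
  have hev : ∀ x (hx : x ∈ Z P), ev (ZG.of x) = Additive.ofMul ⟨x, hx⟩ := fun x hx => by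
    simp [ev, hx]
  have key : Sy Z Z1 P ≤ (((Z1 P).subgroupOf (Z P)).toAddSubgroup).comap ev := by
    refine (AddSubgroup.closure_le _).2 ?_
    rintro m (⟨z, hz, rfl⟩ | ⟨z, hz, w, hw, rfl⟩)
    · rw [SetLike.mem_coe, AddSubgroup.mem_comap, hev z (h1 hz)]
      exact hz
    · rw [SetLike.mem_coe, AddSubgroup.mem_comap, map_sub, map_sub, hev z hz, hev w hw, hev _ (mul_mem hz hw),
        show (⟨z * w, mul_mem hz hw⟩ : Z P) = ⟨z, hz⟩ * ⟨w, hw⟩ from rfl, ofMul_mul,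
        add_sub_cancel_left, sub_self]
      exact zero_mem _
  have := key h
  rw [AddSubgroup.mem_comap, hev z hz] at this
  exact this

theorem exists_of_mem_Sy {P : Subgroup G} (h1 : Z1 P ≤ Z P) {m : ZG G} (hm : m ∈ Sy Z Z1 P) :
    ∃ z ∈ Z1 P, m - ZG.of z ∈ Sy Z (fun _ => ⊥) P := by
  have h0 : ZG.of (1 : G) ∈ Sy Z (fun _ => ⊥) P := of_mem_Sy (one_mem _)
  induction hm using AddSubgroup.closure_induction with
  | mem m hm =>
    rcases hm with ⟨z, hz, rfl⟩ | ⟨z, hz, w, hw, rfl⟩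
    · exact ⟨z, hz, by rw [sub_self]; exact zero_mem _⟩
    · exact ⟨1, one_mem _, sub_mem (of_mul_mem_Sy hz hw) h0⟩
  | zero => exact ⟨1, one_mem _, sub_mem (zero_mem _) h0⟩
  | add a b _ _ ha hb =>
    obtain ⟨z, hz, ha⟩ := ha
    obtain ⟨w, hw, hb⟩ := hb
    refine ⟨z * w, mul_mem hz hw, ?_⟩
    convert sub_mem (add_mem ha hb) (of_mul_mem_Sy (h1 hz) (h1 hw)) using 1
    abel
  | neg a _ ha =>
    obtain ⟨z, hz, ha⟩ := ha
    refine ⟨z⁻¹, inv_mem hz, ?_⟩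
    convert sub_mem (sub_mem (of_mul_mem_Sy (h1 hz) (h1 (inv_mem hz))) ha) h0 using 1
    rw [mul_inv_cancel]
    abel

theorem of_pow_mem_Sy {P : Subgroup G} {z : G} (hz : z ∈ Z P) (k : ℕ) :
    ZG.of (z ^ k) - k • ZG.of z ∈ Sy Z Z1 P := by
  induction k with
  | zero => rw [pow_zero, zero_nsmul, sub_zero]; exact of_mem_Sy (one_mem _)
  | succ k ih =>
    convert add_mem ih (of_mul_mem_Sy (pow_mem hz k) hz) using 1
    rw [pow_succ, succ_nsmul]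
    abel

/-- `Z1 / Z2 ≅ V' / N'` through `e`. -/
theorem van_convZ {X G' M' : Type*} [MulAction G X] [Group G'] [MulAction G' X] [AddCommGroup M']
    [DistribMulAction G' M'] {Γ' : Subgroup G'} {T : G → G' → Prop} (hT : Corr X Γ Γ' T)
    {U' : Set (Subgroup G')} {V' N' : Subgroup G' → AddSubgroup M'} (hU : Up Γ U) (hU' : Up Γ' U')
    (hZ : ZWF Γ U Z) (hZ1 : ZWF Γ U Z1) (h1 : ∀ P ∈ U, P ≤ Γ → Z1 P ≤ Z P)
    (h2 : ∀ P ∈ U, P ≤ Γ → Z2 P ≤ Z1 P) (hV' : WF Γ' U' V') (hN' : WF Γ' U' N')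
    (hle : Le Γ' U' N' V') (e : G → M') (n : ℕ)
    (hmem : ∀ l : List X, n ≤ l.length → (St Γ l ∈ U ↔ St Γ' l ∈ U'))
    (heqv : ∀ g ∈ Γ, ∀ g' ∈ Γ', T g g' → ∀ l : List X, n ≤ l.length → St Γ l ∈ U →
      ∀ z ∈ Z1 (St Γ l), e (g * z * g⁻¹) = g' • e z)
    (hadd : ∀ l : List X, n ≤ l.length → St Γ l ∈ U → ∀ z ∈ Z1 (St Γ l), ∀ w ∈ Z1 (St Γ l),
      e (z * w) - e z - e w ∈ N' (St Γ' l))
    (hV : ∀ l : List X, n ≤ l.length → St Γ l ∈ U → ∀ z ∈ Z1 (St Γ l), e z ∈ V' (St Γ' l))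
    (hsurj : ∀ l : List X, n ≤ l.length → St Γ l ∈ U → ∀ v ∈ V' (St Γ' l),
      ∃ z ∈ Z1 (St Γ l), v - e z ∈ N' (St Γ' l))
    (hker : ∀ l : List X, n ≤ l.length → St Γ l ∈ U → ∀ z ∈ Z1 (St Γ l),
      (e z ∈ N' (St Γ' l) ↔ z ∈ Z2 (St Γ l))) :
    Van X Γ U n (Sy Z Z1) (Sy Z Z2) ↔ Van X Γ' U' n V' N' := by
  have h0 : ∀ P, ZG.of (1 : G) ∈ Sy Z (fun _ => ⊥) P := fun P => of_mem_Sy (one_mem _)
  have e0 : ∀ l : List X, n ≤ l.length → St Γ l ∈ U → e 1 ∈ N' (St Γ' l) := fun l hl hlU => by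
    have := hadd l hl hlU 1 (one_mem _) 1 (one_mem _)
    rwa [mul_one, sub_self, zero_sub, neg_mem_iff] at this
  have wf0 := wf_Sy hZ (zwf_bot Γ U)
  let R : List X → AddSubgroup (ZG G × M') := fun l =>
    { carrier := {x | n ≤ l.length → St Γ l ∈ U → ∃ z ∈ Z1 (St Γ l),
        x.1 - ZG.of z ∈ Sy Z (fun _ => ⊥) (St Γ l) ∧ x.2 - e z ∈ N' (St Γ' l)}
      zero_mem' := fun hl hlU =>
        ⟨1, one_mem _, sub_mem (zero_mem _) (h0 _), sub_mem (zero_mem _) (e0 l hl hlU)⟩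
      add_mem' := fun {a b} ha hb hl hlU => by
        obtain ⟨z, hz, ha, ha'⟩ := ha hl hlU
        obtain ⟨w, hw, hb, hb'⟩ := hb hl hlU
        have h1' := h1 _ hlU (St_le _ _)
        refine ⟨z * w, mul_mem hz hw, ?_, ?_⟩
        · convert sub_mem (add_mem ha hb) (of_mul_mem_Sy (h1' hz) (h1' hw)) using 1
          rw [Prod.fst_add]
          abel
        · convert sub_mem (add_mem ha' hb') (hadd l hl hlU z hz w hw) using 1
          rw [Prod.snd_add]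
          abel
      neg_mem' := fun {a} ha hl hlU => by
        obtain ⟨z, hz, ha, ha'⟩ := ha hl hlU
        have h1' := h1 _ hlU (St_le _ _)
        refine ⟨z⁻¹, inv_mem hz, ?_, ?_⟩
        · convert sub_mem (sub_mem (of_mul_mem_Sy (h1' hz) (h1' (inv_mem hz))) ha) (h0 _) using 1
          rw [mul_inv_cancel, Prod.fst_neg]
          abel
        · convert sub_mem (sub_mem (hadd l hl hlU z hz _ (inv_mem hz)) ha') (e0 l hl hlU) using 1
          rw [mul_inv_cancel, Prod.snd_neg]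
          abel }
  refine Iso.van_iff (R := R) hT ⟨hmem, ?_, ?_, ?_, ?_, ?_⟩ hU hU' (wf_Sy hZ hZ1) hV'
  · intro l l' hl' hs hlU x hx hl _
    have a := St_anti Γ hs.subset
    obtain ⟨z, hz, b, c⟩ := hx hl' (hU.up _ hlU _ a (St_le _ _))
    exact ⟨z, hZ1.anti _ hlU _ a (St_le _ _) hz, wf0.anti _ hlU _ a (St_le _ _) b,
      hN'.anti _ ((hmem l hl).1 hlU) _ (St_anti Γ' hs.subset) (St_le _ _) c⟩
  · intro g hg g' hg' hgg l hl hlU m m' hx _ _
    obtain ⟨z, hz, b, c⟩ := hx hl hlU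
    refine ⟨g * z * g⁻¹, ?_, ?_, ?_⟩
    · rw [St_tr hg]
      exact hZ1.eqv g hg _ hlU (St_le _ _) z hz
    · rw [St_tr hg, ← ZG.smul_of, ← smul_sub]
      exact wf0.eqv g hg _ hlU (St_le _ _) _ b
    · rw [hT.tr hgg, St_tr hg', heqv g hg g' hg' hgg l hl hlU z hz, ← smul_sub]
      exact hN'.eqv g' hg' _ ((hmem l hl).1 hlU) (St_le _ _) _ c
  · intro l hl hlU m hm
    obtain ⟨z, hz, b⟩ := exists_of_mem_Sy (h1 _ hlU (St_le _ _)) hm
    exact ⟨e z, hV l hl hlU z hz, fun _ _ => ⟨z, hz, b, by simp⟩⟩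
  · intro l hl hlU v hv
    obtain ⟨z, hz, b⟩ := hsurj l hl hlU v hv
    exact ⟨ZG.of z, of_mem_Sy hz, fun _ _ => ⟨z, hz, by simp, b⟩⟩
  · intro l hl hlU m m' hx
    obtain ⟨z, hz, b, c⟩ := hx hl hlU
    have h1' := h1 _ hlU (St_le _ _)
    have b' : m - ZG.of z ∈ Sy Z Z2 (St Γ l) := Sy_mono bot_le b
    rw [← sub_add_cancel m (ZG.of z), ← sub_add_cancel m' (e z), AddSubgroup.add_mem_cancel_left _ b',
      AddSubgroup.add_mem_cancel_left _ c, hker l hl hlU z hz]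
    exact of_mem_Sy_iff (hZ.comm _ hlU (St_le _ _)) ((h2 _ hlU (St_le _ _)).trans h1') (h1' hz)

/-- The `p`-centric subgroups (and their overgroups). -/
def Cen (p : ℕ) (G : Type*) [Group G] : Set (Subgroup G) :=
  {P | ∀ x ∈ Subgroup.centralizer (P : Set G), (∃ k : ℕ, x ^ p ^ k = 1) → x ∈ P}

/-- On `Cen p G`: the `p`-part of the centre. -/
def Zc (p : ℕ) (P : Subgroup G) : Subgroup G :=
  Subgroup.closure {x | x ∈ Subgroup.centralizer (P : Set G) ∧ ∃ k : ℕ, x ^ p ^ k = 1}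

theorem up_Cen (p : ℕ) (Γ : Subgroup G) : Up Γ (Cen p G) where
  up P hP P' h _ x hx hp := h (hP x (Subgroup.centralizer_le h hx) hp)
  inv g _ P hP _ x hx hp := by
    rw [← cj_centralizer, mem_cj] at hx
    obtain ⟨k, hk⟩ := hp
    refine mem_cj.2 (hP _ hx ⟨k, ?_⟩)
    have := conj_pow (a := g⁻¹) (b := x) (i := p ^ k)
    rwa [inv_inv, hk, mul_one, inv_mul_cancel] at this

theorem Zc_le_cent (p : ℕ) (P : Subgroup G) : Zc p P ≤ Subgroup.centralizer (P : Set G) :=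
  (Subgroup.closure_le _).2 fun _ h => h.1

theorem Zc_le_of_cen {p : ℕ} {P : Subgroup G} (hP : P ∈ Cen p G) : Zc p P ≤ P :=
  (Subgroup.closure_le _).2 fun x h => hP x h.1 h.2

theorem mem_Zc {p : ℕ} {P : Subgroup G} (hP : P ∈ Cen p G) (pP : IsPGroup p P) {x : G} :
    x ∈ Zc p P ↔ x ∈ P ∧ x ∈ Subgroup.centralizer (P : Set G) := by
  refine ⟨fun h => ⟨Zc_le_of_cen hP h, Zc_le_cent p P h⟩, fun h => ?_⟩
  obtain ⟨k, hk⟩ := pP ⟨x, h.1⟩
  exact Subgroup.subset_closure ⟨h.2, k, congrArg Subtype.val hk⟩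

theorem zwf_Zc (p : ℕ) (Γ : Subgroup G) : ZWF Γ (Cen p G) (Zc p) where
  anti _ _ _ h _ := Subgroup.closure_mono fun _ hx => ⟨Subgroup.centralizer_le h hx.1, hx.2⟩
  eqv g _ P _ _ z hz := by
    have : cj g (Zc p P) ≤ Zc p (cj g P) := by
      rw [cj, Zc, MonoidHom.map_closure]
      refine Subgroup.closure_mono ?_
      rintro _ ⟨x, ⟨hx, k, hk⟩, rfl⟩
      refine ⟨?_, k, by rw [← map_pow, hk, map_one]⟩
      rw [← cj_centralizer]
      exact mem_cj_of_mem g hx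
    exact this (mem_cj_of_mem g hz)
  fix P _ _ z hz u hu := by
    rw [Subgroup.mem_centralizer_iff.1 (Zc_le_cent p P hz) u hu, mul_inv_cancel_right]
  comm P hP _ z hz w hw :=
    Subgroup.mem_centralizer_iff.1 (Zc_le_cent p P hw) z (Zc_le_of_cen hP hz)

end Cfsg.Agent.GL
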